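import Cfsg.Agent.TH3.Defs

/-! Project TH3: commutators, powers, centralizers.  Generated; see `notes/TH3.md`. -/

set_option autoImplicit false
set_option maxRecDepth 100000
set_option Elab.async false
set_option linter.unusedVariables false
set_option linter.unusedSimpArgs false

namespace Cfsg.Agent.TH3

open scoped commutatorElement

theorem cZ1 {a : V} {b : V} (ha : a ∈ Z1) : a * b = b * a :=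
  c2 [0, 1, 2, 3, 4, 5, 6, 7, 8] 10 [] 10 (.eq (.mul (.v 0) (.v 1)) (.mul (.v 1) (.v 0))) (by decide +kernel) a b ha
    (nil0 _)

theorem cZ2 {a : V} {b : V} (ha : a ∈ Z2) : ⁅a, b⁆ ∈ Z1 :=
  c2 [0, 1, 2, 3, 4, 5, 6, 7] 9 [] 9 (.z (.cm (.v 0) (.v 1)) [0, 1, 2, 3, 4, 5, 6, 7, 8]) (by decide +kernel) a b ha
    (nil0 _)

theorem cZ3 {a : V} {b : V} (ha : a ∈ Z3) : ⁅a, b⁆ ∈ Z2 :=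
  c2 [0, 1, 2, 3, 4, 5, 6] 8 [] 8 (.z (.cm (.v 0) (.v 1)) [0, 1, 2, 3, 4, 5, 6, 7]) (by decide +kernel) a b ha (nil0
    _)

theorem cZ4 {a : V} {b : V} (ha : a ∈ Z4) : ⁅a, b⁆ ∈ Z3 :=
  c2 [0, 1, 2, 3, 4, 5] 7 [] 7 (.z (.cm (.v 0) (.v 1)) [0, 1, 2, 3, 4, 5, 6]) (by decide +kernel) a b ha (nil0 _)

theorem cD1 {a : V} {b : V} (ha : a ∈ D1) : ⁅a, b⁆ ∈ Z4 :=
  c2 [0, 1, 2, 3, 4] 6 [] 6 (.z (.cm (.v 0) (.v 1)) [0, 1, 2, 3, 4, 5]) (by decide +kernel) a b ha (nil0 _)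

theorem cZ5 {a : V} {b : V} (ha : a ∈ Z5) : ⁅a, b⁆ ∈ Z4 :=
  c2 [0, 1, 2, 3] 6 [] 6 (.z (.cm (.v 0) (.v 1)) [0, 1, 2, 3, 4, 5]) (by decide +kernel) a b ha (nil0 _)

theorem cZ6 {a : V} {b : V} (ha : a ∈ Z6) : ⁅a, b⁆ ∈ Z5 :=
  c2 [0, 1] 4 [] 4 (.z (.cm (.v 0) (.v 1)) [0, 1, 2, 3]) (by decide +kernel) a b ha (nil0 _)

theorem cS {a b : V} : ⁅a, b⁆ ∈ Ph :=
  c2 [] 3 [] 3 (.z (.cm (.v 0) (.v 1)) [0, 1, 2]) (by decide +kernel) a b (nil0 _) (nil0 _)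

theorem cZ2E1 {a b : V} (ha : a ∈ Z2) (hb : b ∈ E1) : a * b = b * a :=
  c2 [0, 1, 2, 3, 4, 5, 6, 7] 10 [1] 10 (.eq (.mul (.v 0) (.v 1)) (.mul (.v 1) (.v 0))) (by decide +kernel) a b ha
    hb

theorem cD1E1 {a b : V} (ha : a ∈ D1) (hb : b ∈ E1) : ⁅a, b⁆ ∈ Z2 :=
  c2 [0, 1, 2, 3, 4] 8 [1] 8 (.z (.cm (.v 0) (.v 1)) [0, 1, 2, 3, 4, 5, 6, 7]) (by decide +kernel) a b ha hb

theorem cE1E1 {a b : V} (ha : a ∈ E1) (hb : b ∈ E1) : ⁅a, b⁆ ∈ D1 :=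
  c2 [1] 5 [1] 5 (.z (.cm (.v 0) (.v 1)) [0, 1, 2, 3, 4]) (by decide +kernel) a b ha hb

theorem cD1D1 {a b : V} (ha : a ∈ D1) (hb : b ∈ D1) : a * b = b * a :=
  c2 [0, 1, 2, 3, 4] 10 [0, 1, 2, 3, 4] 10 (.eq (.mul (.v 0) (.v 1)) (.mul (.v 1) (.v 0))) (by decide +kernel) a b
    ha hb

theorem cZ3E2 {a b : V} (ha : a ∈ Z3) (hb : b ∈ E2) : ⁅a, b⁆ ∈ Z1 :=
  c2 [0, 1, 2, 3, 4, 5, 6] 9 [0] 9 (.z (.cm (.v 0) (.v 1)) [0, 1, 2, 3, 4, 5, 6, 7, 8]) (by decide +kernel) a b ha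
    hb

theorem cD2E2 {a b : V} (ha : a ∈ D2) (hb : b ∈ E2) : ⁅a, b⁆ ∈ Z3 :=
  c2 [0, 1, 2, 3, 5] 7 [0] 7 (.z (.cm (.v 0) (.v 1)) [0, 1, 2, 3, 4, 5, 6]) (by decide +kernel) a b ha hb

theorem cC3E2 {a b : V} (ha : a ∈ C3) (hb : b ∈ E2) : ⁅a, b⁆ ∈ Z4 :=
  c2 [0, 1, 3] 6 [0] 6 (.z (.cm (.v 0) (.v 1)) [0, 1, 2, 3, 4, 5]) (by decide +kernel) a b ha hb

theorem cE2E2 {a b : V} (ha : a ∈ E2) (hb : b ∈ E2) : ⁅a, b⁆ ∈ D2 :=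
  c2 [0] 6 [0] 6 (.z (.cm (.v 0) (.v 1)) [0, 1, 2, 3, 5]) (by decide +kernel) a b ha hb

theorem cZ3C3 {a b : V} (ha : a ∈ Z3) (hb : b ∈ C3) : a * b = b * a :=
  c2 [0, 1, 2, 3, 4, 5, 6] 10 [0, 1, 3] 10 (.eq (.mul (.v 0) (.v 1)) (.mul (.v 1) (.v 0))) (by decide +kernel) a b
    ha hb

theorem cZ4C3 {a b : V} (ha : a ∈ Z4) (hb : b ∈ C3) : ⁅a, b⁆ ∈ Z1 :=
  c2 [0, 1, 2, 3, 4, 5] 9 [0, 1, 3] 9 (.z (.cm (.v 0) (.v 1)) [0, 1, 2, 3, 4, 5, 6, 7, 8]) (by decide +kernel) a b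
    ha hb

theorem cC3C3 {a b : V} (ha : a ∈ C3) (hb : b ∈ C3) : ⁅a, b⁆ ∈ Z3 :=
  c2 [0, 1, 3] 7 [0, 1, 3] 7 (.z (.cm (.v 0) (.v 1)) [0, 1, 2, 3, 4, 5, 6]) (by decide +kernel) a b ha hb

theorem cZ4C4 {a b : V} (ha : a ∈ Z4) (hb : b ∈ C4) : a * b = b * a :=
  c2 [0, 1, 2, 3, 4, 5] 10 [0, 1, 3, 4] 10 (.eq (.mul (.v 0) (.v 1)) (.mul (.v 1) (.v 0))) (by decide +kernel) a b
    ha hb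

theorem cC4C4 {a b : V} (ha : a ∈ C4) (hb : b ∈ C4) : ⁅a, b⁆ ∈ Z1 :=
  c2 [0, 1, 3, 4] 9 [0, 1, 3, 4] 9 (.z (.cm (.v 0) (.v 1)) [0, 1, 2, 3, 4, 5, 6, 7, 8]) (by decide +kernel) a b ha
    hb

theorem cZ5Z6 {a b : V} (ha : a ∈ Z5) (hb : b ∈ Z6) : ⁅a, b⁆ ∈ Z3 :=
  c2 [0, 1, 2, 3] 7 [0, 1] 7 (.z (.cm (.v 0) (.v 1)) [0, 1, 2, 3, 4, 5, 6]) (by decide +kernel) a b ha hb

theorem pE1 {a : V} (ha : a ∈ E1) : a ^ 3 ∈ Z2 := by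
  have H : a * a * a ∈ Z2 := c1 [1] 8 (.z (.p3 (.v 0)) [0, 1, 2, 3, 4, 5, 6, 7]) (by decide +kernel) a ha
  simpa only [pow_three'] using H

theorem pC3 {a : V} (ha : a ∈ C3) : a ^ 3 ∈ Z1 := by
  have H : a * a * a ∈ Z1 := c1 [0, 1, 3] 9 (.z (.p3 (.v 0)) [0, 1, 2, 3, 4, 5, 6, 7, 8]) (by decide +kernel) a ha
  simpa only [pow_three'] using H

theorem pS {a : V} : a ^ 3 ∈ Z5 := by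
  have H : a * a * a ∈ Z5 := c1 [] 4 (.z (.p3 (.v 0)) [0, 1, 2, 3]) (by decide +kernel) a (nil0 _)
  simpa only [pow_three'] using H

theorem pE2 {a : V} (ha : a ∈ E2) : a ^ 3 ∈ Z3 := by
  have H : a * a * a ∈ Z3 := c1 [0] 7 (.z (.p3 (.v 0)) [0, 1, 2, 3, 4, 5, 6]) (by decide +kernel) a ha
  simpa only [pow_three'] using H

theorem pD1 {a : V} (ha : a ∈ D1) : a ^ 3 = 1 := by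
  have H : a * a * a = 1 := c1 [0, 1, 2, 3, 4] 10 (.eq (.p3 (.v 0)) (.k [])) (by decide +kernel) a ha
  simpa only [pow_three'] using H

theorem upZ1 {a b : V} (ha : a ∈ Z1) (hb : b ∈ Z1) : ¬ a = 1 → L3 a b ⊥ := by
  have H : ¬ a = 1 → b = 1 ∨ a⁻¹ * b = 1 ∨ a * b = 1 := c2 [0, 1, 2, 3, 4, 5, 6, 7, 8] 10 [0, 1, 2, 3, 4, 5, 6, 7,
    8] 10 (.imp (.not (.eq (.v 0) (.k []))) (.or (.eq (.v 1) (.k [])) (.or (.eq (.mul (.inv (.v 0)) (.v 1)) (.k []))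
    (.eq (.mul (.v 0) (.v 1)) (.k []))))) (by decide +kernel) a b ha hb
  simpa only [P9, L3, Subgroup.mem_bot] using H

theorem upZ2 {a b : V} (ha : a ∈ Z2) (hb : b ∈ Z2) : a ∉ Z1 → L3 a b Z1 :=
  c2 [0, 1, 2, 3, 4, 5, 6, 7] 9 [0, 1, 2, 3, 4, 5, 6, 7] 9 (.imp (.not (.z (.v 0) [0, 1, 2, 3, 4, 5, 6, 7, 8])) (.or
    (.z (.v 1) [0, 1, 2, 3, 4, 5, 6, 7, 8]) (.or (.z (.mul (.inv (.v 0)) (.v 1)) [0, 1, 2, 3, 4, 5, 6, 7, 8]) (.z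
    (.mul (.v 0) (.v 1)) [0, 1, 2, 3, 4, 5, 6, 7, 8])))) (by decide +kernel) a b ha hb

theorem upZ3 {a b : V} (ha : a ∈ Z3) (hb : b ∈ Z3) : a ∉ Z2 → L3 a b Z2 :=
  c2 [0, 1, 2, 3, 4, 5, 6] 8 [0, 1, 2, 3, 4, 5, 6] 8 (.imp (.not (.z (.v 0) [0, 1, 2, 3, 4, 5, 6, 7])) (.or (.z (.v
    1) [0, 1, 2, 3, 4, 5, 6, 7]) (.or (.z (.mul (.inv (.v 0)) (.v 1)) [0, 1, 2, 3, 4, 5, 6, 7]) (.z (.mul (.v 0) (.v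
    1)) [0, 1, 2, 3, 4, 5, 6, 7])))) (by decide +kernel) a b ha hb

theorem upZ4 {a b : V} (ha : a ∈ Z4) (hb : b ∈ Z4) : a ∉ Z3 → L3 a b Z3 :=
  c2 [0, 1, 2, 3, 4, 5] 7 [0, 1, 2, 3, 4, 5] 7 (.imp (.not (.z (.v 0) [0, 1, 2, 3, 4, 5, 6])) (.or (.z (.v 1) [0, 1,
    2, 3, 4, 5, 6]) (.or (.z (.mul (.inv (.v 0)) (.v 1)) [0, 1, 2, 3, 4, 5, 6]) (.z (.mul (.v 0) (.v 1)) [0, 1, 2,
    3, 4, 5, 6])))) (by decide +kernel) a b ha hb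

theorem upD1 {a b : V} (ha : a ∈ D1) (hb : b ∈ D1) : a ∉ Z4 → L3 a b Z4 :=
  c2 [0, 1, 2, 3, 4] 6 [0, 1, 2, 3, 4] 6 (.imp (.not (.z (.v 0) [0, 1, 2, 3, 4, 5])) (.or (.z (.v 1) [0, 1, 2, 3, 4,
    5]) (.or (.z (.mul (.inv (.v 0)) (.v 1)) [0, 1, 2, 3, 4, 5]) (.z (.mul (.v 0) (.v 1)) [0, 1, 2, 3, 4, 5]))))
    (by decide +kernel) a b ha hb

theorem upZ5 {a b : V} (ha : a ∈ Z5) (hb : b ∈ Z5) : a ∉ D1 → L3 a b D1 :=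
  c2 [0, 1, 2, 3] 5 [0, 1, 2, 3] 5 (.imp (.not (.z (.v 0) [0, 1, 2, 3, 4])) (.or (.z (.v 1) [0, 1, 2, 3, 4]) (.or
    (.z (.mul (.inv (.v 0)) (.v 1)) [0, 1, 2, 3, 4]) (.z (.mul (.v 0) (.v 1)) [0, 1, 2, 3, 4]))))
    (by decide +kernel) a b ha hb

theorem upPh {a b : V} (ha : a ∈ Ph) (hb : b ∈ Ph) : a ∉ Z5 → L3 a b Z5 :=
  c2 [0, 1, 2] 4 [0, 1, 2] 4 (.imp (.not (.z (.v 0) [0, 1, 2, 3])) (.or (.z (.v 1) [0, 1, 2, 3]) (.or (.z (.mul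
    (.inv (.v 0)) (.v 1)) [0, 1, 2, 3]) (.z (.mul (.v 0) (.v 1)) [0, 1, 2, 3])))) (by decide +kernel) a b ha hb

theorem upZ6 {a b : V} (ha : a ∈ Z6) (hb : b ∈ Z6) : a ∉ Ph → L3 a b Ph :=
  c2 [0, 1] 3 [0, 1] 3 (.imp (.not (.z (.v 0) [0, 1, 2])) (.or (.z (.v 1) [0, 1, 2]) (.or (.z (.mul (.inv (.v 0))
    (.v 1)) [0, 1, 2]) (.z (.mul (.v 0) (.v 1)) [0, 1, 2])))) (by decide +kernel) a b ha hb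

theorem upC4 {a b : V} (ha : a ∈ C4) (hb : b ∈ C4) : a ∉ D1 → L3 a b D1 :=
  c2 [0, 1, 3, 4] 5 [0, 1, 3, 4] 5 (.imp (.not (.z (.v 0) [0, 1, 2, 3, 4])) (.or (.z (.v 1) [0, 1, 2, 3, 4]) (.or
    (.z (.mul (.inv (.v 0)) (.v 1)) [0, 1, 2, 3, 4]) (.z (.mul (.v 0) (.v 1)) [0, 1, 2, 3, 4]))))
    (by decide +kernel) a b ha hb

theorem upC3 {a b : V} (ha : a ∈ C3) (hb : b ∈ C3) : a ∉ C4 → L3 a b C4 :=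
  c2 [0, 1, 3] 5 [0, 1, 3] 5 (.imp (.not (.z (.v 0) [0, 1, 3, 4])) (.or (.z (.v 1) [0, 1, 3, 4]) (.or (.z (.mul
    (.inv (.v 0)) (.v 1)) [0, 1, 3, 4]) (.z (.mul (.v 0) (.v 1)) [0, 1, 3, 4])))) (by decide +kernel) a b ha hb

theorem upD2 {a b : V} (ha : a ∈ D2) (hb : b ∈ D2) : a ∉ Z4 → L3 a b Z4 :=
  c2 [0, 1, 2, 3, 5] 6 [0, 1, 2, 3, 5] 6 (.imp (.not (.z (.v 0) [0, 1, 2, 3, 4, 5])) (.or (.z (.v 1) [0, 1, 2, 3, 4,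
    5]) (.or (.z (.mul (.inv (.v 0)) (.v 1)) [0, 1, 2, 3, 4, 5]) (.z (.mul (.v 0) (.v 1)) [0, 1, 2, 3, 4, 5]))))
    (by decide +kernel) a b ha hb

theorem upE1 {a b : V} (ha : a ∈ E1) (hb : b ∈ E1) : a ∉ Z6 → L3 a b Z6 :=
  c2 [1] 2 [1] 2 (.imp (.not (.z (.v 0) [0, 1])) (.or (.z (.v 1) [0, 1]) (.or (.z (.mul (.inv (.v 0)) (.v 1)) [0,
    1]) (.z (.mul (.v 0) (.v 1)) [0, 1])))) (by decide +kernel) a b ha hb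

theorem upE2 {a b : V} (ha : a ∈ E2) (hb : b ∈ E2) : a ∉ Z6 → L3 a b Z6 :=
  c2 [0] 2 [0] 2 (.imp (.not (.z (.v 0) [0, 1])) (.or (.z (.v 1) [0, 1]) (.or (.z (.mul (.inv (.v 0)) (.v 1)) [0,
    1]) (.z (.mul (.v 0) (.v 1)) [0, 1])))) (by decide +kernel) a b ha hb

theorem upS1 {a b : V} : a ∉ E1 → L3 a b E1 :=
  c2 [] 2 [] 2 (.imp (.not (.z (.v 0) [1])) (.or (.z (.v 1) [1]) (.or (.z (.mul (.inv (.v 0)) (.v 1)) [1]) (.z (.mul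
    (.v 0) (.v 1)) [1])))) (by decide +kernel) a b (nil0 _) (nil0 _)

theorem upS2 {a b : V} : a ∉ E2 → L3 a b E2 :=
  c2 [] 1 [] 1 (.imp (.not (.z (.v 0) [0])) (.or (.z (.v 1) [0]) (.or (.z (.mul (.inv (.v 0)) (.v 1)) [0]) (.z (.mul
    (.v 0) (.v 1)) [0])))) (by decide +kernel) a b (nil0 _) (nil0 _)

theorem m12 {a : V} (ha : a ∈ E1) : a ∈ E2 → a ∈ Z6 :=
  c1 [1] 2 (.imp (.z (.v 0) [0]) (.z (.v 0) [0, 1])) (by decide +kernel) a ha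

theorem m24 {a : V} (ha : a ∈ D2) : a ∈ C4 → a ∈ Z4 :=
  c1 [0, 1, 2, 3, 5] 6 (.imp (.z (.v 0) [0, 1, 3, 4]) (.z (.v 0) [0, 1, 2, 3, 4, 5])) (by decide +kernel) a ha

theorem h4_cube : (h 4) ^ 3 = h 9 := by
  have H : h 4 * h 4 * h 4 = h 9 := c0 (.eq (.p3 (.k [0, 0, 0, 0, 1])) (.k [0, 0, 0, 0, 0, 0, 0, 0, 0, 1]))
    (by decide +kernel)
  simpa only [pow_three'] using H

theorem h52 : ⁅h 5, h 2⁆ = h 9 :=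
  c0 (.eq (.cm (.k [0, 0, 0, 0, 0, 1]) (.k [0, 0, 1])) (.k [0, 0, 0, 0, 0, 0, 0, 0, 0, 1])) (by decide +kernel)

theorem h54 : ⁅h 5, h 4⁆ ∉ Z1 :=
  c0 (.not (.z (.cm (.k [0, 0, 0, 0, 0, 1]) (.k [0, 0, 0, 0, 1])) [0, 1, 2, 3, 4, 5, 6, 7, 8])) (by decide +kernel)

theorem h9_ne : ¬ h 9 = 1 :=
  c0 (.not (.eq (.k [0, 0, 0, 0, 0, 0, 0, 0, 0, 1]) (.k []))) (by decide +kernel)

theorem h20 : ¬ L3 (h 2) (h 0) D1 :=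
  c0 (.not (.or (.z (.k [1]) [0, 1, 2, 3, 4]) (.or (.z (.mul (.inv (.k [0, 0, 1])) (.k [1])) [0, 1, 2, 3, 4]) (.z
    (.mul (.k [0, 0, 1]) (.k [1])) [0, 1, 2, 3, 4])))) (by decide +kernel)

theorem zS1 {a : V} : a * h 0 = h 0 * a → a * h 1 = h 1 * a → a * h 2 = h 2 * a → a ∈ Z1 :=
  c1 [] 10 (.imp (.eq (.mul (.v 0) (.k [1])) (.mul (.k [1]) (.v 0))) (.imp (.eq (.mul (.v 0) (.k [0, 1])) (.mul (.k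
    [0, 1]) (.v 0))) (.imp (.eq (.mul (.v 0) (.k [0, 0, 1])) (.mul (.k [0, 0, 1]) (.v 0))) (.z (.v 0) [0, 1, 2, 3,
    4, 5, 6, 7, 8])))) (by decide +kernel) a (nil0 _)

theorem zS2 {a : V} : ⁅a, h 0⁆ ∈ Z1 → ⁅a, h 1⁆ ∈ Z1 → ⁅a, h 2⁆ ∈ Z1 → a ∈ Z2 :=
  c1 [] 9 (.imp (.z (.cm (.v 0) (.k [1])) [0, 1, 2, 3, 4, 5, 6, 7, 8]) (.imp (.z (.cm (.v 0) (.k [0, 1])) [0, 1, 2,
    3, 4, 5, 6, 7, 8]) (.imp (.z (.cm (.v 0) (.k [0, 0, 1])) [0, 1, 2, 3, 4, 5, 6, 7, 8]) (.z (.v 0) [0, 1, 2, 3, 4,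
    5, 6, 7])))) (by decide +kernel) a (nil0 _)

theorem zS3 {a : V} : ⁅a, h 0⁆ ∈ Z2 → ⁅a, h 1⁆ ∈ Z2 → ⁅a, h 2⁆ ∈ Z2 → a ∈ Z3 :=
  c1 [] 8 (.imp (.z (.cm (.v 0) (.k [1])) [0, 1, 2, 3, 4, 5, 6, 7]) (.imp (.z (.cm (.v 0) (.k [0, 1])) [0, 1, 2, 3,
    4, 5, 6, 7]) (.imp (.z (.cm (.v 0) (.k [0, 0, 1])) [0, 1, 2, 3, 4, 5, 6, 7]) (.z (.v 0) [0, 1, 2, 3, 4, 5,
    6])))) (by decide +kernel) a (nil0 _)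

theorem zS4 {a : V} : ⁅a, h 0⁆ ∈ Z3 → ⁅a, h 1⁆ ∈ Z3 → ⁅a, h 2⁆ ∈ Z3 → a ∈ Z4 :=
  c1 [] 7 (.imp (.z (.cm (.v 0) (.k [1])) [0, 1, 2, 3, 4, 5, 6]) (.imp (.z (.cm (.v 0) (.k [0, 1])) [0, 1, 2, 3, 4,
    5, 6]) (.imp (.z (.cm (.v 0) (.k [0, 0, 1])) [0, 1, 2, 3, 4, 5, 6]) (.z (.v 0) [0, 1, 2, 3, 4, 5]))))
    (by decide +kernel) a (nil0 _)

theorem zS5 {a : V} : ⁅a, h 0⁆ ∈ Z4 → ⁅a, h 1⁆ ∈ Z4 → ⁅a, h 2⁆ ∈ Z4 → a ∈ Z5 :=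
  c1 [] 6 (.imp (.z (.cm (.v 0) (.k [1])) [0, 1, 2, 3, 4, 5]) (.imp (.z (.cm (.v 0) (.k [0, 1])) [0, 1, 2, 3, 4, 5])
    (.imp (.z (.cm (.v 0) (.k [0, 0, 1])) [0, 1, 2, 3, 4, 5]) (.z (.v 0) [0, 1, 2, 3])))) (by decide +kernel) a
    (nil0 _)

theorem zS6 {a : V} : ⁅a, h 0⁆ ∈ Z5 → ⁅a, h 1⁆ ∈ Z5 → ⁅a, h 2⁆ ∈ Z5 → a ∈ Z6 :=
  c1 [] 4 (.imp (.z (.cm (.v 0) (.k [1])) [0, 1, 2, 3]) (.imp (.z (.cm (.v 0) (.k [0, 1])) [0, 1, 2, 3]) (.imp (.z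
    (.cm (.v 0) (.k [0, 0, 1])) [0, 1, 2, 3]) (.z (.v 0) [0, 1])))) (by decide +kernel) a (nil0 _)

theorem zE1 {a : V} : a * h 8 = h 8 * a → a ∈ E1 :=
  c1 [] 10 (.imp (.eq (.mul (.v 0) (.k [0, 0, 0, 0, 0, 0, 0, 0, 1])) (.mul (.k [0, 0, 0, 0, 0, 0, 0, 0, 1]) (.v 0)))
    (.z (.v 0) [1])) (by decide +kernel) a (nil0 _)

theorem zE2 {a : V} : ⁅a, h 7⁆ ∈ Z1 → a ∈ E2 :=
  c1 [] 9 (.imp (.z (.cm (.v 0) (.k [0, 0, 0, 0, 0, 0, 0, 1])) [0, 1, 2, 3, 4, 5, 6, 7, 8]) (.z (.v 0) [0]))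
    (by decide +kernel) a (nil0 _)

theorem zC3 {a : V} : a * h 7 = h 7 * a → a * h 8 = h 8 * a → a ∈ C3 :=
  c1 [] 10 (.imp (.eq (.mul (.v 0) (.k [0, 0, 0, 0, 0, 0, 0, 1])) (.mul (.k [0, 0, 0, 0, 0, 0, 0, 1]) (.v 0))) (.imp
    (.eq (.mul (.v 0) (.k [0, 0, 0, 0, 0, 0, 0, 0, 1])) (.mul (.k [0, 0, 0, 0, 0, 0, 0, 0, 1]) (.v 0))) (.z (.v 0)
    [0, 1, 3]))) (by decide +kernel) a (nil0 _)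

theorem zC4 {a : V} : a * h 6 = h 6 * a → a * h 7 = h 7 * a → a * h 8 = h 8 * a → a ∈ C4 :=
  c1 [] 10 (.imp (.eq (.mul (.v 0) (.k [0, 0, 0, 0, 0, 0, 1])) (.mul (.k [0, 0, 0, 0, 0, 0, 1]) (.v 0))) (.imp (.eq
    (.mul (.v 0) (.k [0, 0, 0, 0, 0, 0, 0, 1])) (.mul (.k [0, 0, 0, 0, 0, 0, 0, 1]) (.v 0))) (.imp (.eq (.mul (.v 0)
    (.k [0, 0, 0, 0, 0, 0, 0, 0, 1])) (.mul (.k [0, 0, 0, 0, 0, 0, 0, 0, 1]) (.v 0))) (.z (.v 0) [0, 1, 3, 4]))))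
    (by decide +kernel) a (nil0 _)

theorem zD1 {a : V} : a * h 5 = h 5 * a → a * h 6 = h 6 * a → a * h 7 = h 7 * a → a * h 8 = h 8 * a → a ∈ D1 :=
  c1 [] 10 (.imp (.eq (.mul (.v 0) (.k [0, 0, 0, 0, 0, 1])) (.mul (.k [0, 0, 0, 0, 0, 1]) (.v 0))) (.imp (.eq (.mul
    (.v 0) (.k [0, 0, 0, 0, 0, 0, 1])) (.mul (.k [0, 0, 0, 0, 0, 0, 1]) (.v 0))) (.imp (.eq (.mul (.v 0) (.k [0, 0,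
    0, 0, 0, 0, 0, 1])) (.mul (.k [0, 0, 0, 0, 0, 0, 0, 1]) (.v 0))) (.imp (.eq (.mul (.v 0) (.k [0, 0, 0, 0, 0, 0,
    0, 0, 1])) (.mul (.k [0, 0, 0, 0, 0, 0, 0, 0, 1]) (.v 0))) (.z (.v 0) [0, 1, 2, 3, 4]))))) (by decide +kernel) a
    (nil0 _)

theorem zE1a {a : V} (ha : a ∈ E1) : a * h 0 = h 0 * a → a * h 2 = h 2 * a → a * h 3 = h 3 * a → a * h 4 = h 4 * a →
    a ∈ Z2 :=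
  c1 [1] 10 (.imp (.eq (.mul (.v 0) (.k [1])) (.mul (.k [1]) (.v 0))) (.imp (.eq (.mul (.v 0) (.k [0, 0, 1])) (.mul
    (.k [0, 0, 1]) (.v 0))) (.imp (.eq (.mul (.v 0) (.k [0, 0, 0, 1])) (.mul (.k [0, 0, 0, 1]) (.v 0))) (.imp (.eq
    (.mul (.v 0) (.k [0, 0, 0, 0, 1])) (.mul (.k [0, 0, 0, 0, 1]) (.v 0))) (.z (.v 0) [0, 1, 2, 3, 4, 5, 6, 7])))))
    (by decide +kernel) a ha

theorem zE1b {a : V} (ha : a ∈ E1) : ⁅a, h 0⁆ ∈ Z2 → ⁅a, h 2⁆ ∈ Z2 → ⁅a, h 3⁆ ∈ Z2 → ⁅a, h 4⁆ ∈ Z2 → a ∈ D1 :=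
  c1 [1] 8 (.imp (.z (.cm (.v 0) (.k [1])) [0, 1, 2, 3, 4, 5, 6, 7]) (.imp (.z (.cm (.v 0) (.k [0, 0, 1])) [0, 1, 2,
    3, 4, 5, 6, 7]) (.imp (.z (.cm (.v 0) (.k [0, 0, 0, 1])) [0, 1, 2, 3, 4, 5, 6, 7]) (.imp (.z (.cm (.v 0) (.k [0,
    0, 0, 0, 1])) [0, 1, 2, 3, 4, 5, 6, 7]) (.z (.v 0) [0, 1, 2, 3, 4]))))) (by decide +kernel) a ha

theorem zE2a {a : V} (ha : a ∈ E2) : a * h 1 = h 1 * a → a * h 2 = h 2 * a → a * h 3 = h 3 * a → a * h 4 = h 4 * a →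
    a * h 5 = h 5 * a → a ∈ Z1 :=
  c1 [0] 10 (.imp (.eq (.mul (.v 0) (.k [0, 1])) (.mul (.k [0, 1]) (.v 0))) (.imp (.eq (.mul (.v 0) (.k [0, 0, 1]))
    (.mul (.k [0, 0, 1]) (.v 0))) (.imp (.eq (.mul (.v 0) (.k [0, 0, 0, 1])) (.mul (.k [0, 0, 0, 1]) (.v 0))) (.imp
    (.eq (.mul (.v 0) (.k [0, 0, 0, 0, 1])) (.mul (.k [0, 0, 0, 0, 1]) (.v 0))) (.imp (.eq (.mul (.v 0) (.k [0, 0,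
    0, 0, 0, 1])) (.mul (.k [0, 0, 0, 0, 0, 1]) (.v 0))) (.z (.v 0) [0, 1, 2, 3, 4, 5, 6, 7, 8]))))))
    (by decide +kernel) a ha

theorem zE2b {a : V} (ha : a ∈ E2) : ⁅a, h 1⁆ ∈ Z1 → ⁅a, h 2⁆ ∈ Z1 → ⁅a, h 3⁆ ∈ Z1 → ⁅a, h 4⁆ ∈ Z1 → ⁅a, h 5⁆ ∈ Z1 →
    a ∈ Z3 :=
  c1 [0] 9 (.imp (.z (.cm (.v 0) (.k [0, 1])) [0, 1, 2, 3, 4, 5, 6, 7, 8]) (.imp (.z (.cm (.v 0) (.k [0, 0, 1])) [0,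
    1, 2, 3, 4, 5, 6, 7, 8]) (.imp (.z (.cm (.v 0) (.k [0, 0, 0, 1])) [0, 1, 2, 3, 4, 5, 6, 7, 8]) (.imp (.z (.cm
    (.v 0) (.k [0, 0, 0, 0, 1])) [0, 1, 2, 3, 4, 5, 6, 7, 8]) (.imp (.z (.cm (.v 0) (.k [0, 0, 0, 0, 0, 1])) [0, 1,
    2, 3, 4, 5, 6, 7, 8]) (.z (.v 0) [0, 1, 2, 3, 4, 5, 6])))))) (by decide +kernel) a ha

theorem zZ6 {a : V} (ha : a ∈ Z6) : a * h 2 = h 2 * a → a * h 3 = h 3 * a → a * h 4 = h 4 * a → a * h 5 = h 5 * a →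
    a ∈ Z2 :=
  c1 [0, 1] 10 (.imp (.eq (.mul (.v 0) (.k [0, 0, 1])) (.mul (.k [0, 0, 1]) (.v 0))) (.imp (.eq (.mul (.v 0) (.k [0,
    0, 0, 1])) (.mul (.k [0, 0, 0, 1]) (.v 0))) (.imp (.eq (.mul (.v 0) (.k [0, 0, 0, 0, 1])) (.mul (.k [0, 0, 0, 0,
    1]) (.v 0))) (.imp (.eq (.mul (.v 0) (.k [0, 0, 0, 0, 0, 1])) (.mul (.k [0, 0, 0, 0, 0, 1]) (.v 0))) (.z (.v 0)
    [0, 1, 2, 3, 4, 5, 6, 7]))))) (by decide +kernel) a ha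

theorem zC3b {a : V} (ha : a ∈ C3) : ⁅a, h 2⁆ ∈ Z1 → ⁅a, h 4⁆ ∈ Z1 → ⁅a, h 5⁆ ∈ Z1 → a ∈ Z4 :=
  c1 [0, 1, 3] 9 (.imp (.z (.cm (.v 0) (.k [0, 0, 1])) [0, 1, 2, 3, 4, 5, 6, 7, 8]) (.imp (.z (.cm (.v 0) (.k [0, 0,
    0, 0, 1])) [0, 1, 2, 3, 4, 5, 6, 7, 8]) (.imp (.z (.cm (.v 0) (.k [0, 0, 0, 0, 0, 1])) [0, 1, 2, 3, 4, 5, 6, 7,
    8]) (.z (.v 0) [0, 1, 2, 3, 4, 5])))) (by decide +kernel) a ha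

theorem zC4a {a : V} (ha : a ∈ C4) : a * h 2 = h 2 * a → a * h 5 = h 5 * a → a ∈ Z4 :=
  c1 [0, 1, 3, 4] 10 (.imp (.eq (.mul (.v 0) (.k [0, 0, 1])) (.mul (.k [0, 0, 1]) (.v 0))) (.imp (.eq (.mul (.v 0)
    (.k [0, 0, 0, 0, 0, 1])) (.mul (.k [0, 0, 0, 0, 0, 1]) (.v 0))) (.z (.v 0) [0, 1, 2, 3, 4, 5])))
    (by decide +kernel) a ha

theorem n3 {a : V} (ha : a ∈ E1) : a ∉ Z6 → ⁅a, h 1⁆ ∉ Z5 :=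
  c1 [1] 4 (.imp (.not (.z (.v 0) [0, 1])) (.not (.z (.cm (.v 0) (.k [0, 1])) [0, 1, 2, 3]))) (by decide +kernel) a
    ha

theorem n4 {a : V} (ha : a ∈ Ph) : a ∉ Z5 → ⁅a, h 1⁆ ∉ D1 ∧ ⁅a, h 1⁆ ∈ Z5 ∧ ⁅a, h 0⁆ ∈ D1 ∧ ⁅a, h 0⁆ ∉ Z4 :=
  c1 [0, 1, 2] 6 (.imp (.not (.z (.v 0) [0, 1, 2, 3])) (.and (.not (.z (.cm (.v 0) (.k [0, 1])) [0, 1, 2, 3, 4]))
    (.and (.z (.cm (.v 0) (.k [0, 1])) [0, 1, 2, 3]) (.and (.z (.cm (.v 0) (.k [1])) [0, 1, 2, 3, 4]) (.not (.z (.cm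
    (.v 0) (.k [1])) [0, 1, 2, 3, 4, 5])))))) (by decide +kernel) a ha

theorem n6 {a : V} (ha : a ∈ D1) : a ∉ Z4 → ⁅a, h 1⁆ ∉ Z3 :=
  c1 [0, 1, 2, 3, 4] 7 (.imp (.not (.z (.v 0) [0, 1, 2, 3, 4, 5])) (.not (.z (.cm (.v 0) (.k [0, 1])) [0, 1, 2, 3,
    4, 5, 6]))) (by decide +kernel) a ha

theorem n7 {a : V} (ha : a ∈ Z4) : a ∉ Z3 → ⁅a, h 1⁆ ∉ Z2 :=
  c1 [0, 1, 2, 3, 4, 5] 8 (.imp (.not (.z (.v 0) [0, 1, 2, 3, 4, 5, 6])) (.not (.z (.cm (.v 0) (.k [0, 1])) [0, 1,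
    2, 3, 4, 5, 6, 7]))) (by decide +kernel) a ha

theorem n8 {a : V} (ha : a ∈ Z3) : a ∉ Z2 → ⁅a, h 0⁆ ∉ Z1 :=
  c1 [0, 1, 2, 3, 4, 5, 6] 9 (.imp (.not (.z (.v 0) [0, 1, 2, 3, 4, 5, 6, 7])) (.not (.z (.cm (.v 0) (.k [1])) [0,
    1, 2, 3, 4, 5, 6, 7, 8]))) (by decide +kernel) a ha

theorem n9 {a : V} (ha : a ∈ Z2) : a ∉ Z1 → ¬ ⁅a, h 1⁆ = 1 :=
  c1 [0, 1, 2, 3, 4, 5, 6, 7] 10 (.imp (.not (.z (.v 0) [0, 1, 2, 3, 4, 5, 6, 7, 8])) (.not (.eq (.cm (.v 0) (.k [0,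
    1])) (.k [])))) (by decide +kernel) a ha

end Cfsg.Agent.TH3
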