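import Cfsg.Agent.TH3.CertA0
import Cfsg.Agent.TH3.CertA1
import Cfsg.Agent.TH3.CertA2
import Cfsg.Agent.TH3.CertA3
import Cfsg.Agent.TH3.CertB0
import Cfsg.Agent.TH3.CertB1
import Cfsg.Agent.TH3.CertB2
import Cfsg.Agent.TH3.CertB3
import Cfsg.Agent.TH3.Fa1

/-! Project TH3: the model is a Sylow 3-subgroup of the Thompson group. -/

set_option autoImplicit false
set_option maxRecDepth 100000
set_option exponentiation.threshold 400000

namespace Cfsg.Agent.TH3

open Cfsg Cfsg.Agent.H58 Cfsg.Agent.H17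

/-- a nontrivial normal subgroup contains the centre -/
theorem Z1_le {N : Subgroup V} [N.Normal] (n : N ≠ ⊥) : Z1 ≤ N := by
  have : Fact (Nat.Prime 3) := ⟨Nat.prime_three⟩
  obtain ⟨y, hy, h1, -, h2⟩ := SR3.exists_central (N := ⊤) (X := ⊥) (Y := N) (pg.to_subgroup ⊤) le_top
    (fun _ _ => SR3.nm_bot) Subgroup.le_normalizer_of_normal fun k => n (le_bot_iff.1 k)
  have c : ∀ j, y * h j = h j * y := fun j => (commutatorElement_eq_one_iff_mul_comm.1 (h2 _ trivial)).symm
  exact fun b hb => (upZ1 (zS1 (c 0) (c 1) (c 2)) hb h1).mem bot_le hy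

theorem pp_eq : pp = (pp.drop 0).take 3 ++ ((pp.drop 3).take 5 ++ ((pp.drop 8).take 5 ++ ((pp.drop 13).take 6 ++ ((pp.drop 19).take 2 ++ ((pp.drop 21).take 2 ++ ((pp.drop 23).take 4 ++ ((pp.drop 27).take 2 ++ ((pp.drop 29).take 4 ++ ((pp.drop 33).take 3 ++ ((pp.drop 36).take 4 ++ ((pp.drop 40).take 3 ++ ((pp.drop 43).take 10 ++ ((pp.drop 53).take 2))))))))))))) := by decide +kernel

theorem pp_ok : ∀ q ∈ pp, (q.1.map (lmat ThR.E (ThR.mats ++ ThRS.ex))).prod =
    (q.2.map (lmat ThR.E (ThR.mats ++ ThRS.ex))).prod := by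
  have e0 := meq_sound ThRS.matsOK2 (m := 62) (J := 4) (by decide) ThR.basis (blocks_cons (blocks_cons (blocks_cons (blocks_cons (blocks_nil _) cert_0_0) cert_0_1) cert_0_2) cert_0_3)
  have e3 := meq_sound ThRS.matsOK2 (m := 62) (J := 4) (by decide) ThR.basis (blocks_cons (blocks_cons (blocks_cons (blocks_cons (blocks_nil _) cert_3_0) cert_3_1) cert_3_2) cert_3_3)
  have e8 := meq_sound ThRS.matsOK2 (m := 62) (J := 4) (by decide) ThR.basis (blocks_cons (blocks_cons (blocks_cons (blocks_cons (blocks_nil _) cert_8_0) cert_8_1) cert_8_2) cert_8_3)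
  have e13 := meq_sound ThRS.matsOK2 (m := 62) (J := 4) (by decide) ThR.basis (blocks_cons (blocks_cons (blocks_cons (blocks_cons (blocks_nil _) cert_13_0) cert_13_1) cert_13_2) cert_13_3)
  have e19 := meq_sound ThRS.matsOK2 (m := 62) (J := 4) (by decide) ThR.basis (blocks_cons (blocks_cons (blocks_cons (blocks_cons (blocks_nil _) cert_19_0) cert_19_1) cert_19_2) cert_19_3)
  have e21 := meq_sound ThRS.matsOK2 (m := 62) (J := 4) (by decide) ThR.basis (blocks_cons (blocks_cons (blocks_cons (blocks_cons (blocks_nil _) cert_21_0) cert_21_1) cert_21_2) cert_21_3)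
  have e23 := meq_sound ThRS.matsOK2 (m := 62) (J := 4) (by decide) ThR.basis (blocks_cons (blocks_cons (blocks_cons (blocks_cons (blocks_nil _) cert_23_0) cert_23_1) cert_23_2) cert_23_3)
  have e27 := meq_sound ThRS.matsOK2 (m := 62) (J := 4) (by decide) ThR.basis (blocks_cons (blocks_cons (blocks_cons (blocks_cons (blocks_nil _) cert_27_0) cert_27_1) cert_27_2) cert_27_3)
  have e29 := meq_sound ThRS.matsOK2 (m := 62) (J := 4) (by decide) ThR.basis (blocks_cons (blocks_cons (blocks_cons (blocks_cons (blocks_nil _) cert_29_0) cert_29_1) cert_29_2) cert_29_3)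
  have e33 := meq_sound ThRS.matsOK2 (m := 62) (J := 4) (by decide) ThR.basis (blocks_cons (blocks_cons (blocks_cons (blocks_cons (blocks_nil _) cert_33_0) cert_33_1) cert_33_2) cert_33_3)
  have e36 := meq_sound ThRS.matsOK2 (m := 62) (J := 4) (by decide) ThR.basis (blocks_cons (blocks_cons (blocks_cons (blocks_cons (blocks_nil _) cert_36_0) cert_36_1) cert_36_2) cert_36_3)
  have e40 := meq_sound ThRS.matsOK2 (m := 62) (J := 4) (by decide) ThR.basis (blocks_cons (blocks_cons (blocks_cons (blocks_cons (blocks_nil _) cert_40_0) cert_40_1) cert_40_2) cert_40_3)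
  have e43 := meq_sound ThRS.matsOK2 (m := 62) (J := 4) (by decide) ThR.basis (blocks_cons (blocks_cons (blocks_cons (blocks_cons (blocks_nil _) cert_43_0) cert_43_1) cert_43_2) cert_43_3)
  have e53 := meq_sound ThRS.matsOK2 (m := 62) (J := 4) (by decide) ThR.basis (blocks_cons (blocks_cons (blocks_cons (blocks_cons (blocks_nil _) cert_53_0) cert_53_1) cert_53_2) cert_53_3)
  rw [pp_eq]
  exact List.forall_mem_append.2 ⟨e0, List.forall_mem_append.2 ⟨e3, List.forall_mem_append.2 ⟨e8, List.forall_mem_append.2 ⟨e13, List.forall_mem_append.2 ⟨e19, List.forall_mem_append.2 ⟨e21, List.forall_mem_append.2 ⟨e23, List.forall_mem_append.2 ⟨e27, List.forall_mem_append.2 ⟨e29, List.forall_mem_append.2 ⟨e33, List.forall_mem_append.2 ⟨e36, List.forall_mem_append.2 ⟨e40, List.forall_mem_append.2 ⟨e43, e53⟩⟩⟩⟩⟩⟩⟩⟩⟩⟩⟩⟩⟩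

/-- the matrices of the generators -/
noncomputable def mt (j : ℕ) : GL (Fin ThR.E.n) (ZMod ThR.E.p) := wv (elM ThR.E (ThR.mats ++ ThRS.ex)) (words.getD j [])

theorem good_mt : Good (idx.map mt) pres :=
  good_of_prs _ words pres (by decide) (ThRS.slp.1.wv_eq pp_ok)

theorem mt9 : mt 9 ≠ 1 := fun e => by
  have k := ThRS.slp.1.val_wv [16]
  rw [show wv (elM ThR.E (ThR.mats ++ ThRS.ex)) [16] = mt 9 from rfl, e] at k
  have k2 := congrFun (congrFun k ⟨0, by decide⟩) ⟨1, by decide⟩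
  rw [List.map_singleton, List.prod_singleton, lmat, rmat, if_neg (by decide +kernel), Matrix.of_apply,
    show dg ThR.E.w ((getW (ThR.mats ++ ThRS.ex) 16).getD 0 0) 1 = 2 by decide +kernel, Units.val_one,
    Matrix.one_apply_ne (by decide)] at k2
  exact absurd k2 (by decide)

theorem inj_of {M N : Type*} [Group M] [Group N] (ρ : M →* N) (i : Function.Injective ρ) (x : ℕ → N)
    (m : ∀ j, x j ∈ ρ.range) (g : Good (idx.map x) pres) (n9 : x 9 ≠ 1) : ∃ φ : V →* M, Function.Injective φ := by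
  choose t ht using m
  rw [show idx.map x = (idx.map t).map ρ by rw [List.map_map]; exact congrArg (List.map · idx) (funext ht).symm] at g
  obtain ⟨φ, e⟩ := exists_hom t (Good.of_sep ρ ρ (fun _ _ a _ => i a) g g)
  refine ⟨φ, (MonoidHom.ker_eq_bot_iff φ).1 (by_contra fun n => n9 ?_)⟩
  have k : h 9 ∈ φ.ker := Z1_le n (hm (by decide))
  rw [MonoidHom.mem_ker, e, show ex (h 9) = [0, 0, 0, 0, 0, 0, 0, 0, 0, 1] from rfl] at k
  rw [← ht, show t 9 = 1 by simpa [idx, wd] using k, map_one]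

theorem exists_inj : ∃ φ : V →* Spor.Th, Function.Injective φ :=
  inj_of (N := GL (Fin ThR.E.n) (ZMod ThR.E.p)) ThE.ρ ThE.card_inj.2 mt
    (fun _ => wv_mem fun x _ => ThRS.slp.2 ThE.ρ.range (fun x => ⟨_, ThE.ρ_el x⟩) x) good_mt mt9

theorem exists_iso (T : Sylow 3 Spor.Th) : Nonempty (V ≃* (T : Subgroup Spor.Th)) := by
  obtain ⟨φ, i⟩ := exists_inj
  have : Fact (Nat.Prime 3) := ⟨Nat.prime_three⟩
  have c : Nat.card φ.range = 3 ^ (Nat.card Spor.Th).factorization 3 := by
    rw [← Nat.card_congr (φ.ofInjective i).toEquiv, card_V, ThE.card_eq,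
      show 90745943887872000 = 3 ^ 10 * 1536790528000 by norm_num,
      Nat.factorization_mul (by norm_num) (by norm_num), Nat.prime_three.factorization_pow, Finsupp.add_apply,
      Finsupp.single_eq_same, Nat.factorization_eq_zero_of_not_dvd (by norm_num)]
  exact ⟨(φ.ofInjective i).trans ((Sylow.ofCard φ.range c).equiv T)⟩

end Cfsg.Agent.TH3
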