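import Cfsg.Agent.TH3.Fa5

set_option autoImplicit false
set_option linter.unusedSectionVars false

namespace Cfsg.Agent.TH3

open FK
open RFS (Au)
open SR3 (nm ce St)
open scoped commutatorElement

variable {G : Type*} [Group G] [Finite G] [Fact (Nat.Prime 3)] {u : V →* G} {E T : Subgroup V} {L : Subgroup G}

/-- the matrix of the conjugation by `h 1` on `Z2` and of the conjugation by `h 0` on `Z3 / Z1` -/
def mA : Mt := ((1, -1), (0, 1))

namespace GLx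

/-- words in `m` and `mA` -/
def wd (m : Mt) : List Bool → Mt
  | [] => mA
  | b :: l => cp (cond b m mA) (wd m l)

theorem wd_R (R : Mt → Prop) (c : ∀ m n, R m → R n → R (cp m n)) (a : R mA) {m : Mt} (r : R m) :
    ∀ l, R (wd m l)
  | [] => a
  | true :: l => c _ _ r (wd_R R c a r l)
  | false :: l => c _ _ a (wd_R R c a r l)

theorem w1 : ∀ m : Mt, (∀ v, ap m v = 0 → v = 0) → m.2.1 ≠ 0 →
    ∃ l ∈ [[true, false, true, true, true, false, true, false, true, true, true],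
      [true, true, false, true, true, false, true, true]], wd m l = ((-1, 0), (0, -1)) := by
  obtain rfl := Subsingleton.elim ‹Fact (Nat.Prime 3)› Nat.fact_prime_three
  decide +kernel

theorem w2 : ∀ m : Mt, cp m (cp m (cp m m)) = ((-1, 0), (0, -1)) →
    ∃ l ∈ [[true, false, false, true, true, true, false, true], [true, false, true, true, true, false, false, true],
      [false, true, false, false, true, true, true, false, true],
      [false, true, false, true, true, true, false, false, true],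
      [true, false, false, true, true, true, false, true, false],
      [true, false, true, true, true, false, false, true, false]], wd m l = ((1, 0), (0, -1)) := by
  obtain rfl := Subsingleton.elim ‹Fact (Nat.Prime 3)› Nat.fact_prime_three
  decide +kernel

theorem w3 : ∀ m : Mt, cp m (cp m (cp m m)) = ((-1, 0), (0, -1)) → m.2.1 ≠ 0 := by
  obtain rfl := Subsingleton.elim ‹Fact (Nat.Prime 3)› Nat.fact_prime_three
  decide +kernel

theorem w4 : ∀ m : Mt, cp m (cp m (cp m m)) = ((-1, 0), (0, -1)) → ∀ x, x = cp m (cp mA (cp m (cp mA mA))) →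
    cp x x ≠ ((1, 0), (0, 1)) ∧ cp (cp x x) (cp (cp x x) (cp x x)) = ((1, 0), (0, 1)) := by
  obtain rfl := Subsingleton.elim ‹Fact (Nat.Prime 3)› Nat.fact_prime_three
  simp only [forall_eq]
  decide +kernel

/-- two consecutive coordinates -/
def cc (k : ℕ) (b : V) : P2 := (b.co k, b.co (k + 1))

theorem add_ap (ψ : P2 → P2) (a : ∀ v w, ψ (v + w) = ψ v + ψ w) (v : P2) : ψ v = ap (ψ (1, 0), ψ (0, 1)) v := by
  have s : ∀ (i : ZMod 3) w, ψ (i • w) = i • ψ w := fun i w =>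
    ((AddMonoidHom.mk' ψ a).toZModLinearMap 3).map_smul i w
  have e : v = v.1 • ((1, 0) : P2) + v.2 • ((0, 1) : P2) := by ext <;> simp
  conv_lhs => rw [e, a, s, s]
  ext <;> simp [ap]

variable {k : ℕ} {B N : Subgroup V} {f : V → V}

theorem cc_inv (ad : ∀ a ∈ B, ∀ b ∈ B, cc k (a * b) = cc k a + cc k b) {a : V} (ha : a ∈ B) : cc k a⁻¹ = -cc k a := by
  have e := ad 1 (one_mem _) 1 (one_mem _)
  rw [mul_one, left_eq_add] at e
  have := ad _ (inv_mem ha) _ ha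
  rw [inv_mul_cancel, e] at this
  exact eq_neg_of_add_eq_zero_left this.symm

theorem gen (ad : ∀ a ∈ B, ∀ b ∈ B, cc k (a * b) = cc k a + cc k b) (le : N ≤ B)
    (ker : ∀ a ∈ B, cc k a = 0 → a ∈ N) (z : ∀ a ∈ N, cc k a = 0) (ex : ∀ v, ∃ b ∈ B, cc k b = v) (a : Au B f)
    (n : ∀ x ∈ N, f x ∈ N) : ∃ m, Mx k B f m ∧ ∀ v, ap m v = 0 → v = 0 := by
  choose s hs es using ex
  have k1 : ∀ b ∈ B, cc k (f b) = cc k (f (s (cc k b))) := fun b hb => by
    have m : (s (cc k b))⁻¹ * b ∈ B := mul_mem (inv_mem (hs _)) hb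
    have m' : (s (cc k b))⁻¹ * b ∈ N := ker _ m (by rw [ad _ (inv_mem (hs _)) _ hb, cc_inv ad (hs _), es]; simp)
    conv_lhs => rw [← mul_inv_cancel_left (s (cc k b)) b]
    rw [a.mul _ (hs _) _ m, ad _ (a.mem _ (hs _)) _ (a.mem _ m), z _ (n _ m'), add_zero]
  have k2 := add_ap (fun v => cc k (f (s v))) fun v w => by
    have := k1 _ (mul_mem (hs v) (hs w))
    rw [ad _ (hs v) _ (hs w), es, es, a.mul _ (hs v) _ (hs w), ad _ (a.mem _ (hs v)) _ (a.mem _ (hs w))] at this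
    exact this.symm
  refine ⟨_, fun b hb => (k1 b hb).trans (k2 _), fun v e => ?_⟩
  obtain ⟨x, hx, ex⟩ := (a.res le n).sur _ (ker _ (a.mem _ (hs v)) ((k2 v).trans e))
  rw [← es v, ← a.inj _ (le hx) _ (hs v) ex, z x hx]

theorem ad2 : ∀ a ∈ Z2, ∀ b ∈ Z2, cc 8 (a * b) = cc 8 a + cc 8 b := fun _ ha _ hb =>
  Prod.ext (co89 ha hb).1 (co89 ha hb).2

theorem ad3 : ∀ a ∈ Z3, ∀ b ∈ Z3, cc 7 (a * b) = cc 7 a + cc 7 b := fun _ ha _ hb =>
  Prod.ext (co78 ha hb).1 (co78 ha hb).2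

theorem e2 (v : P2) : ∃ b ∈ Z2, cc 8 b = v :=
  let ⟨b, hb, e, e'⟩ := ex2 v.1 v.2
  ⟨b, hb, Prod.ext e e'⟩

theorem e3 (v : P2) : ∃ b ∈ Z3, cc 7 b = v :=
  let ⟨b, hb, e, e'⟩ := ex3 v.1 v.2
  ⟨b, hb, Prod.ext e e'⟩

theorem k2 {a : V} (ha : a ∈ Z2) (e : cc 8 a = 0) : a = 1 := z20 ha (congrArg Prod.fst e) (congrArg Prod.snd e)

end GLx

open GLx

theorem gl1 (R : Mt → Prop) (c : ∀ m n, R m → R n → R (cp m n)) (a : R mA) {m : Mt} (r : R m)
    (i : ∀ v, ap m v = 0 → v = 0) (k : m.2.1 ≠ 0) : R ((-1, 0), (0, -1)) :=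
  let ⟨l, _, e⟩ := w1 m i k
  e ▸ wd_R R c a r l

theorem gl2 (R : Mt → Prop) (c : ∀ m n, R m → R n → R (cp m n)) (a : R mA) {m : Mt} (r : R m)
    (k : cp m (cp m (cp m m)) = ((-1, 0), (0, -1))) : R ((1, 0), (0, -1)) :=
  let ⟨l, _, e⟩ := w2 m k
  e ▸ wd_R R c a r l

theorem gl2' {m : Mt} (k : cp m (cp m (cp m m)) = ((-1, 0), (0, -1))) : m.2.1 ≠ 0 := w3 m k

theorem gl3 {m x : Mt} (k : cp m (cp m (cp m m)) = ((-1, 0), (0, -1))) (e : x = cp m (cp mA (cp m (cp mA mA)))) :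
    cp x x ≠ ((1, 0), (0, 1)) ∧ cp (cp x x) (cp (cp x x) (cp x x)) = ((1, 0), (0, 1)) := w4 m k x e

variable {f g : V → V} {m n : Mt}

theorem Mx.comp {k : ℕ} {B : Subgroup V} (a : Mx k B f m) (b : Mx k B g n) (c : ∀ x ∈ B, g x ∈ B) :
    Mx k B (fun x => f (g x)) (cp m n) := fun x hx => by
  rw [ap_cp, ← b x hx]
  exact a _ (c x hx)

theorem mx2 (a : Au Z2 f) : ∃ m, Mx 8 Z2 f m ∧ ∀ v, ap m v = 0 → v = 0 :=
  gen (N := ⊥) ad2 bot_le (fun _ ha e => k2 ha e) (fun x hx => by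
    have e := ad2 1 (one_mem _) 1 (one_mem _)
    rw [mul_one, left_eq_add] at e
    rw [Subgroup.mem_bot.1 hx, e]) e2 a fun x hx => by
    rw [Subgroup.mem_bot.1 hx, a.one]; exact one_mem _

theorem mx3 (a : Au Z3 f) (z : ∀ x ∈ Z1, f x ∈ Z1) : ∃ m, Mx 7 Z3 f m ∧ ∀ v, ap m v = 0 → v = 0 :=
  gen ad3 Z1_Z3 (fun _ ha e => z21 (z32 ha (congrArg Prod.fst e)) (congrArg Prod.snd e))
    (fun _ hx => Prod.ext (hx 7 (by decide)) (hx 8 (by decide))) e3 a z

theorem mx_cj1 : Mx 8 Z2 (fun x => h 1 * x * (h 1)⁻¹) mA := fun b hb =>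
  Prod.ext ((cj1 hb).1.trans (by simp [ap, mA])) ((cj1 hb).2.trans (by simp [ap, mA]; ring))

theorem mx_cj0 : Mx 7 Z3 (fun x => h 0 * x * (h 0)⁻¹) mA := fun b hb =>
  Prod.ext ((cj0 hb).1.trans (by simp [ap, mA])) ((cj0 hb).2.trans (by simp [ap, mA]; ring))

theorem mx2_uniq (a : Mx 8 Z2 f m) (b : Mx 8 Z2 f n) : m = n := by
  have k : ∀ v, ap m v = ap n v := fun v => by
    obtain ⟨x, hx, rfl⟩ := e2 v
    exact (a x hx).symm.trans (b x hx)
  have k1 := k (1, 0)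
  have k2 := k (0, 1)
  simp only [ap, one_mul, zero_mul, add_zero, zero_add] at k1 k2
  exact Prod.ext k1 k2

theorem mx2_ext (a : Mx 8 Z2 f m) (b : Mx 8 Z2 g m) (c : ∀ x ∈ Z2, f x ∈ Z2) (d : ∀ x ∈ Z2, g x ∈ Z2) :
    ∀ x ∈ Z2, f x = g x := fun x hx => by
  have e : cc 8 (f x) = cc 8 (g x) := (a x hx).trans (b x hx).symm
  refine inv_mul_eq_one.1 (k2 (mul_mem (inv_mem (c x hx)) (d x hx)) ?_)
  rw [ad2 _ (inv_mem (c x hx)) _ (d x hx), cc_inv ad2 (c x hx), e, neg_add_cancel]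

theorem mx2_id (a : ∀ x ∈ Z2, f x = x) : Mx 8 Z2 f ((1, 0), (0, 1)) := fun x hx => by
  rw [a x hx]; simp [ap]

theorem mx2_inv (a : ∀ x ∈ Z2, f x = x⁻¹) : Mx 8 Z2 f ((-1, 0), (0, -1)) := fun x hx => by
  rw [a x hx]
  refine (cc_inv ad2 hx).trans ?_
  simp [ap, cc]

/-- the automorphism of `E1` given by an element that normalizes `Z2` and whose fourth power inverts it -/
theorem mx_tor (i : Function.Injective u) {t : G} (a : Au Z2 f) (e : ∀ z ∈ Z2, t * u z * t⁻¹ = u (f z))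
    (k : ∀ z ∈ Z2, t ^ 4 * u z * (t ^ 4)⁻¹ = (u z)⁻¹) (b : Mx 8 Z2 f m) :
    cp m (cp m (cp m m)) = ((-1, 0), (0, -1)) := by
  have m1 := a.mem
  have m2 : ∀ x ∈ Z2, f (f x) ∈ Z2 := fun x hx => m1 _ (m1 x hx)
  have m3 : ∀ x ∈ Z2, f (f (f x)) ∈ Z2 := fun x hx => m1 _ (m2 x hx)
  refine mx2_uniq (b.comp (b.comp (b.comp b m1) m2) m3) (mx2_inv fun x hx => i ?_)
  rw [map_inv, ← k x hx, ← e _ (m3 x hx), ← e _ (m2 x hx), ← e _ (m1 x hx), ← e x hx]
  simp only [pow_succ, pow_zero, one_mul, mul_inv_rev, mul_assoc]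

end Cfsg.Agent.TH3
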