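import Cfsg.Agent.TH3.Inn
import Cfsg.Agent.TH3.GL

set_option autoImplicit false
set_option linter.unusedSectionVars false

namespace Cfsg.Agent.TH3

open FK
open RFS (Au)
open SR3 (nm ce St)
open scoped commutatorElement

theorem Chj.d1 : ¬ (0 + 1 : ZMod 3) = -1 := by decide
theorem Chj.d2 : ∀ e : ZMod 3, e ≠ 0 → e ≠ 1 → e = -1 := by decide

variable {G : Type*} [Group G] [Finite G] [Fact (Nat.Prime 3)] {u : V →* G} {E T : Subgroup V} {L : Subgroup G}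

namespace Chj

theorem h7 : h 7 ∈ Z3 := hm (by decide)
theorem h8 : h 8 ∈ Z2 := hm (by decide)

theorem neg (m : M2 u) : ∃ f, Fa u E2 f ∧ Mx 7 Z3 f ((-1, 0), (0, -1)) := by
  obtain ⟨f, hf, k⟩ := m
  have z3 := ch2_Z3.inv f hf.au
  obtain ⟨n, hn, i⟩ := mx3 (hf.au.res Z3_E2 z3) (ch2_Z1.inv f hf.au)
  refine gl1 (fun m => ∃ f, Fa u E2 f ∧ Mx 7 Z3 f m)
    (fun _ _ ⟨f, a, b⟩ ⟨g, c, d⟩ => ⟨_, a.comp c, b.comp d (ch2_Z3.inv g c.au)⟩)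
    ⟨_, Fa.conj u (h 0) (Nm.of_normal E2 _), mx_cj0⟩ ⟨f, hf, hn⟩ i fun e => k (z32 (z3 _ (Z2_Z3 h8)) ?_)
  have := congrArg Prod.fst (hn _ (Z2_Z3 h8))
  simp only [ap, e, h8 7 (by decide), mul_zero, zero_mul, add_zero] at this
  exact this

theorem ext (k : Sat 3 u) (m : M2 u) : ∃ F, Fa u ⊤ F ∧ (∀ b ∈ Z3, (F b).co 7 = -b.co 7) ∧
    ∀ b ∈ Z2, (F b).co 8 = -b.co 8 := by
  obtain ⟨f, hf, x⟩ := neg m
  have z3 := ch2_Z3.inv f hf.au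
  have x7 : ∀ b ∈ Z3, (f b).co 7 = -b.co 7 := fun b hb => by simpa [ap] using congrArg Prod.fst (x b hb)
  have x8 : ∀ b ∈ Z3, (f b).co 8 = -b.co 8 := fun b hb => by simpa [ap] using congrArg Prod.snd (x b hb)
  have z2 : ∀ b ∈ Z2, f b ∈ Z2 := fun b hb => z32 (z3 b (Z2_Z3 hb)) (by
    rw [x7 b (Z2_Z3 hb), hb 7 (by decide), neg_zero])
  obtain ⟨F, hF, a, c⟩ := flag k (Nm.of_normal E2) Z1_Z2 Z2_Z3 Z3_E2 (Nm.of_normal Z1)
    (fun _ _ hb => SR3.comm_symm (cZ2 hb)) (fun _ _ hb => SR3.comm_symm (cZ3 hb)) hf (ch2_Z1.inv f hf.au) z2 z3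
  refine ⟨F, hF, fun b hb => ?_, fun b hb => ?_⟩
  · rw [← mul_inv_cancel_left (f b) (F b), (co78 (z3 b hb) (Z2_Z3 (a b hb))).1, a b hb 7 (by decide), add_zero, x7 b hb]
  · rw [← mul_inv_cancel_left (f b) (F b), (co89 (z2 b hb) (Z1_Z2 (c b hb))).1, c b hb 8 (by decide), add_zero,
      x8 b (Z2_Z3 hb)]

end Chj

open Chj in
theorem chi2 (k : Sat 3 u) (m : M2 u) : ∃ F, Fa u ⊤ F ∧ Xi F 1 (-1) := by
  obtain ⟨F, hF, x7, x8⟩ := ext k m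
  obtain ⟨e₀, e₁, -, n1, x⟩ := xi_ex hF.au
  have e0 : e₀ = 1 := by
    have := x8 _ (cZ3 (b := h 0) h7)
    rw [hF.au.map_comm trivial trivial, pr3 (ch_Z3.inv F hF.au _ h7), pr3 h7, x7 _ h7, (x _).1, h_co (by decide),
      h_co (by decide)] at this
    simpa using this
  subst e0
  have e1 : e₁ ≠ 1 := by
    rintro rfl
    obtain ⟨s, hs⟩ := inn k hF x
    have := x8 _ h8
    have c : ⁅s, h 8⁆ ∈ Z1 := SR3.comm_symm (cZ2 h8)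
    rw [hs, SR3.conj_eq_comm, (co89 (Z1_Z2 c) h8).1, c 8 (by decide), h_co (by decide)] at this
    exact d1 this
  exact ⟨F, hF, d2 _ n1 e1 ▸ x⟩

end Cfsg.Agent.TH3
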