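import Cfsg.Agent.TH3.Chi
import Cfsg.Agent.TH3.Chj

set_option autoImplicit false
set_option linter.unusedSectionVars false

namespace Cfsg.Agent.TH3

open FK
open RFS (Au)
open SR3 (nm ce St)
open scoped commutatorElement

theorem EqA.un : ∀ a : ZMod 3, a ≠ 0 → a = 1 ∨ a = -1 := by decide
theorem EqA.sq : ∀ a : ZMod 3, a ≠ 0 → a * a = 1 := by decide

variable {G : Type*} [Group G] [Finite G] [Fact (Nat.Prime 3)] {u : V →* G} {E T : Subgroup V} {L : Subgroup G}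

namespace EqA

theorem comp {F F' : V → V} {a b c d : ZMod 3} (x : Xi F a b) (y : Xi F' c d) : Xi (fun v => F (F' v)) (a * c) (b * d) :=
  fun v => ⟨by rw [(x _).1, (y _).1, mul_assoc], by rw [(x _).2, (y _).2, mul_assoc]⟩

theorem all (k : Sat 3 u) (c : Cf u) {a b : ZMod 3} (ha : a ≠ 0) (hb : b ≠ 0) : ∃ F, Fa u ⊤ F ∧ Xi F a b := by
  obtain ⟨A, hA, xA⟩ := chi1 k (m1 k c)
  obtain ⟨B, hB, xB⟩ : ∃ F, Fa u ⊤ F ∧ Xi F 1 (-1) := by
    rcases m23 k c with m | m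
    · exact chi2 k m
    · obtain ⟨F, e, hF, x⟩ := chi3 k m
      obtain ⟨e₀, e₁, h0, -, y⟩ := xi_ex hF.au
      have z : Xi F e₀ (-1) := fun v => ⟨(y v).1, (x v).2⟩
      rcases un e₀ h0 with rfl | rfl
      · exact ⟨F, hF, z⟩
      · exact ⟨_, hA.comp hF, by simpa using comp xA z⟩
  rcases un a ha with rfl | rfl <;> rcases un b hb with rfl | rfl
  · exact ⟨_, Fa.id u ⊤, fun v => ⟨(one_mul _).symm, (one_mul _).symm⟩⟩
  · exact ⟨B, hB, xB⟩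
  · exact ⟨A, hA, xA⟩
  · exact ⟨_, hA.comp hB, by simpa using comp xA xB⟩

end EqA

theorem eq_aut {G' : Type*} [Group G'] [Finite G'] {u' : V →* G'} (k : Sat 3 u) (k' : Sat 3 u') (c : Cf u')
    (l : ∀ f, In u' ⊤ f → In u ⊤ f) (f : V → V) (hf : Fa u ⊤ f) : In u' ⊤ f := by
  obtain ⟨a, b, ha, hb, x⟩ := xi_ex hf.au
  obtain ⟨F, hF, y⟩ := EqA.all k' c ha hb
  have z := EqA.comp y x
  rw [EqA.sq a ha, EqA.sq b hb] at z
  obtain ⟨s, hs⟩ := inn k (Fa.comp ⟨hF.au, l F hF.ind⟩ hf) z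
  obtain ⟨g, hg, e, -⟩ := hF.exists_inv
  exact (hg.ind.comp (In.conj u' ⊤ s) fun _ _ => trivial).congr fun a _ => by rw [← hs, e _ trivial]

end Cfsg.Agent.TH3
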