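import Cfsg.Agent.TH3.Gen
import Cfsg.Agent.H91.Subn
import Cfsg.Agent.H91.Inv
import Cfsg.Agent.SR3.Rows

set_option autoImplicit false
set_option linter.unusedSectionVars false

namespace Cfsg.Agent.TH3

open FK
open RFS (Au)
open SR3 (nm ce St)
open scoped commutatorElement

variable {H G : Type*} [Group H] [Finite H] [Group G] [Finite G] [Fact (Nat.Prime 3)] {u : H →* G}
  {E V₁ V₂ W B C D : Subgroup H} {L : Subgroup G}

universe v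

variable {p : ℕ} [Fact p.Prime] {Ω : Type v} [Group Ω] {S : Subgroup Ω} [Finite S]

namespace Glue

variable {T : Subgroup Ω} {N : FusionSystem T} {ι : H →* Ω} {A X : Subgroup H} {f g : H → H}

theorem mo_comp (h : Mo N ι X f) (h' : Mo N ι A g) (hm : ∀ a ∈ A, g a ∈ X) : Mo N ι A fun a => f (g a) :=
  let ⟨_, hφ, e⟩ := h
  let ⟨_, hψ, e'⟩ := h'
  ⟨_, hφ.comp hψ (by rintro _ ⟨a, ha, rfl⟩; exact ⟨_, hm a ha, (e' a ha).symm⟩),
    fun a ha => by rw [e' a ha, e _ (hm a ha)]⟩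

theorem mo_inv (h : Mo N ι X f) (hm : ∀ a ∈ A, g a ∈ X) (k : ∀ a ∈ A, f (g a) = a) : Mo N ι A g := by
  obtain ⟨φ, hφ, e⟩ := h
  obtain ⟨ψ, hψ, e', -⟩ := hφ.exists_inv
  have q : ∀ a ∈ A, φ (ι (g a)) = ι a := fun a ha => by rw [e _ (hm a ha), k a ha]
  refine ⟨ψ, hψ.restrict ?_, fun a ha => by rw [← q a ha, e' _ ⟨_, hm a ha, rfl⟩]⟩
  rintro _ ⟨a, ha, rfl⟩
  exact q a ha ▸ H91.mem_im_of_mem φ ⟨_, hm a ha, rfl⟩

theorem mo_mono (h : Mo N ι X f) (le : A ≤ X) : Mo N ι A f :=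
  let ⟨φ, hφ, e⟩ := h
  ⟨φ, hφ.restrict (Subgroup.map_mono le), fun a ha => e a (le ha)⟩

theorem mo_conj (hA : A ≤ T.comap ι) {s : H} (hs : s ∈ T.comap ι) : Mo N ι A fun a => s * a * s⁻¹ :=
  ⟨_, H91.M.conj N (Subgroup.map_le_iff_le_comap.2 hA) hs, fun a _ => by simp⟩

theorem au_of (hu : Function.Injective u) {x : G} (h : ∀ a ∈ A, x * u a * x⁻¹ = u (f a)) (hm : ∀ a ∈ A, f a ∈ A) :
    Au A f :=
  .of_inj hm (fun a ha b hb => hu (by rw [map_mul, ← h a ha, ← h b hb, ← h _ (mul_mem ha hb), map_mul]; group))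
    fun a ha b hb e => hu (mul_left_cancel (mul_right_cancel ((h a ha).trans ((congrArg u e).trans (h b hb).symm))))

/-- the group inducing the automorphisms of the subsystem -/
def KK (u : H →* G) (N : FusionSystem T) (ι : H →* Ω) (A : Subgroup H) : Subgroup G where
  carrier := {x | A ≤ T.comap ι → ∃ f, Au A f ∧ Mo N ι A f ∧ ∀ a ∈ A, x * u a * x⁻¹ = u (f a)}
  one_mem' := fun hA => ⟨_, Au.id, ⟨_, H91.M.id N (Subgroup.map_le_iff_le_comap.2 hA), fun _ _ => rfl⟩,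
    fun a _ => by simp⟩
  mul_mem' := fun {x y} hx hy hA =>
    let ⟨_, a1, a2, a3⟩ := hx hA
    let ⟨_, b1, b2, b3⟩ := hy hA
    ⟨_, a1.comp b1, mo_comp a2 b2 b1.mem, fun a ha => by rw [← a3 _ (b1.mem a ha), ← b3 a ha]; group⟩
  inv_mem' := fun {x} hx hA =>
    let ⟨_, a1, a2, a3⟩ := hx hA
    let ⟨g, b1, _, b3⟩ := a1.exists_inv
    ⟨g, b1, mo_inv a2 b1.mem b3, fun a ha => by
      have := a3 _ (b1.mem a ha)
      rw [b3 a ha] at this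
      rw [← this]; group⟩

end Glue

theorem realize (hS : IsPGroup p S) {F : FusionSystem S} (hF : F.IsSaturated p) {ι : H →* Ω}
    (hι : Function.Injective ι) (hr : ι.range = S) : ∃ (G : Type v) (_ : Group G) (_ : Finite G) (u : H →* G),
      Sat p u ∧ (F.core = ⊥ → Cf u) ∧ ∀ X f, In u X f ↔ Mo F ι X f := by
  obtain ⟨G, _, _, R, j, k, h⟩ := SR3.Rows.realize hS F
  have m : ∀ a, ι a ∈ S := fun a => hr ▸ ⟨a, rfl⟩
  obtain ⟨u, hu⟩ : ∃ u : H →* G, ∀ a, u a = j (ι a) :=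
    ⟨MonoidHom.mk' (fun a => j (ι a)) fun a b => by rw [map_mul, h.g.hj _ (m a) _ (m b)], fun _ => rfl⟩
  obtain rfl : u.range = R := le_antisymm (by rintro _ ⟨a, rfl⟩; exact hu a ▸ h.g.mj _ (m a)) fun y hy => by
    obtain ⟨a, e⟩ := hr.ge (h.g.mk' y hy)
    exact ⟨a, by rw [hu, e, h.g.jk y hy]⟩
  refine ⟨G, inferInstance, inferInstance, u, ⟨hS.of_injective (ι.codRestrict S m)
    fun a b e => hι (congrArg Subtype.val e), fun a b e => hι (h.g.injOn (m a) (m b) (by rw [← hu, ← hu, e])),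
    h.isSaturated hF⟩, SR3.Rows.core_bot h, fun X f => ⟨fun ⟨g, hg⟩ => ?_, fun ⟨φ, hφ, e⟩ => ?_⟩⟩
  · have := h.bwd (H91.M_group_iff.2 ⟨Subgroup.map_le_range u X, by
      rintro _ ⟨a, ha, rfl⟩
      exact ⟨_, (hg a ha).symm⟩, g, fun _ _ => rfl⟩)
    refine ⟨_, this.restrict ?_, fun a ha => by rw [← hu, hg a ha, hu, h.g.kj _ (m _)]⟩
    rintro _ ⟨a, ha, rfl⟩
    rw [← h.g.kj _ (m a), ← hu]
    exact H91.mem_im_of_mem k ⟨a, ha, rfl⟩
  · obtain ⟨-, -, g, hg⟩ := H91.M_group_iff.1 (h.fwd hφ)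
    refine ⟨g, fun a ha => ?_⟩
    rw [hu, ← hg _ (H91.mem_im_of_mem j ⟨a, ha, rfl⟩), h.g.kj _ (m a), e a ha, hu]

theorem exists_nrm (hS : IsPGroup p S) {F : FusionSystem S} {ι : H →* Ω} (hι : Function.Injective ι)
    (hr : ι.range = S) (hu : Function.Injective u) (e : ∀ X f, In u X f ↔ Mo F ι X f) {T : Subgroup Ω}
    {N : FusionSystem T} (hN : N.IsWeaklyNormalIn F p) : ∃ K, Nrm p u (T.comap ι) K := by
  have hT : T ≤ S := hN.2.2.2.1.1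
  refine ⟨Glue.KK u N ι, fun a ha b g hg => ?_, fun A hA s hs n _ => ⟨_, .conj s n, Glue.mo_conj hA hs, by simp⟩,
    fun A hA => SR3.le_nm_of_conj fun x hx g hg _ => ?_, fun A hA B hB g hg n _ => ?_, fun A hA hc g hg hp => ?_⟩
  · have k : ∀ x ∈ Subgroup.zpowers a, g * u x * g⁻¹ = u (Function.invFun u (g * u x * g⁻¹)) := by
      rintro _ ⟨n, rfl⟩
      exact (Function.invFun_eq ⟨b ^ n, by rw [map_zpow, map_zpow, ← hg, conj_zpow]⟩).symm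
    obtain ⟨φ, hφ, e'⟩ := (e _ _).1 ⟨g, k⟩
    have := (H91.stronglyClosed_iff.1 hN.2.2.2.1).2 _ φ hφ _ ⟨a, Subgroup.mem_zpowers a, rfl⟩ ha
    rw [e' a (Subgroup.mem_zpowers a)] at this
    rw [hu (hg.symm.trans (k a (Subgroup.mem_zpowers a)))]
    exact this
  · obtain ⟨f, a1, ⟨φ, hφ, a2⟩, a3⟩ := hg hA
    obtain ⟨f₀, hf₀, b3⟩ := Fa.of_nm hu hx
    obtain ⟨f', c1, -, c3⟩ := hf₀.au.exists_inv
    obtain ⟨φ₀, hφ₀, b2⟩ := (e _ _).1 hf₀.ind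
    obtain ⟨χ, hχ, d⟩ := H91.strongInv_of_invariant hN.2.2 _ _ φ φ₀ hφ le_rfl (Subgroup.map_le_iff_le_comap.2 hA)
      (by rintro _ ⟨a, ha, rfl⟩; exact ⟨_, a1.mem a ha, (a2 a ha).symm⟩) hφ₀
    have q : ∀ a ∈ A, φ₀ (ι (f' a)) = ι a := fun a ha => by rw [b2 _ (c1.mem a ha), c3 a ha]
    refine ⟨fun a => f₀ (f (f' a)), hf₀.au.comp (a1.comp c1), ⟨χ, hχ.restrict ?_, fun a ha => ?_⟩, fun a ha => ?_⟩
    · rintro _ ⟨a, ha, rfl⟩
      exact q a ha ▸ H91.mem_im_of_mem φ₀ ⟨_, c1.mem a ha, rfl⟩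
    · rw [← q a ha, d _ ⟨_, c1.mem a ha, rfl⟩, a2 _ (c1.mem a ha), b2 _ (a1.mem _ (c1.mem a ha))]
    · rw [← b3 _ (a1.mem _ (c1.mem a ha)), ← a3 _ (c1.mem a ha), ← congrArg u (c3 a ha), ← b3 _ (c1.mem a ha)]
      group
  · obtain ⟨f, a1, a2, a3⟩ := hg hA
    refine ⟨f, a1.res hB fun b hb => ?_, Glue.mo_mono a2 hB, fun b hb => a3 b (hB hb)⟩
    obtain ⟨c, hc, e'⟩ := SR3.conj_mem n (⟨b, hb, rfl⟩ : u b ∈ B.map u)
    exact hu (e'.trans (a3 b (hB hb))) ▸ hc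
  · obtain ⟨f, a1, ⟨φ, hφ, a2⟩, a3⟩ := hg hA
    haveI := H91.finite_of_le hT
    have hP : A.map ι ≤ T := Subgroup.map_le_iff_le_comap.2 hA
    haveI := H91.finite_mulAut hP
    have him := hφ.im_eq_self (by rintro _ ⟨a, ha, rfl⟩; exact ⟨_, a1.mem a ha, (a2 a ha).symm⟩)
    obtain ⟨α, hα⟩ : ∃ α : MulAut (A.map ι), ∀ x, (α x : Ω) = φ x := ⟨hφ.equiv him, fun _ => rfl⟩
    have cen : ∀ t ∈ T, ∀ x ∈ A.map ι, t * x * t⁻¹ = x := fun t ht => by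
      obtain ⟨s, rfl⟩ := hr.ge (hT ht)
      rintro _ ⟨a, ha, rfl⟩
      rw [← map_mul, ← hc a ha s ht, map_mul, mul_inv_cancel_right]
    have it : ∀ n : ℕ, ∀ a (ha : a ∈ A), ∃ b ∈ A, g ^ n * u a * (g ^ n)⁻¹ = u b ∧
        ((α ^ n) ⟨ι a, a, ha, rfl⟩ : Ω) = ι b := fun n a ha => by
      induction n with
      | zero => exact ⟨a, ha, by simp, rfl⟩
      | succ n ih =>
        obtain ⟨b, hb, e1, e2⟩ := ih
        refine ⟨f b, a1.mem b hb, by rw [← a3 b hb, ← e1, pow_succ']; group, ?_⟩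
        rw [pow_succ', MulAut.mul_apply, hα, e2, a2 b hb]
    have p1 : α ^ p = 1 := MulEquiv.ext fun ⟨_, a, ha, rfl⟩ => Subtype.ext (by
      obtain ⟨b, -, e1, e2⟩ := it p a ha
      rw [← hp _ ⟨a, ha, rfl⟩, mul_inv_cancel_right] at e1
      exact e2.trans (congrArg ι (hu e1).symm))
    obtain ⟨c, -, hc'⟩ := (H91.sat_sylIn (hS.to_le hT) hN.1 (H91.isFullyNormalized_of_normal N hP
      fun t ht => Subgroup.mem_normalizer_iff.2 fun x => ⟨fun hx => (cen t ht x hx).symm ▸ hx, fun hx => by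
        have := cen _ (inv_mem ht) _ hx
        rw [show t⁻¹ * (t * x * t⁻¹) * t⁻¹⁻¹ = x by group] at this
        rwa [this]⟩)).exists_conj_mem (H := Subgroup.zpowers α)
      (fun ⟨_, n, rfl⟩ => ⟨1, Subtype.ext (by
        change (α ^ n) ^ p ^ 1 = 1
        rw [pow_one, ← zpow_natCast, ← zpow_mul, mul_comm, zpow_mul, zpow_natCast, p1, one_zpow])⟩)
      (Subgroup.zpowers_le.2 (hφ.mem_autGroup' hα))
    obtain ⟨t, ht, e1⟩ := H91.mem_autInducedBy_iff.1 (hc' α (Subgroup.mem_zpowers α))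
    have e2 : c * α * c⁻¹ = 1 := MulEquiv.ext fun x => Subtype.ext ((e1 x).trans (cen t ht x x.2))
    rw [conj_eq_one_iff] at e2
    rintro _ ⟨a, ha, rfl⟩
    have e3 := hα ⟨ι a, a, ha, rfl⟩
    rw [e2] at e3
    have e4 := a3 a ha
    rw [← hι (e3.trans (a2 a ha))] at e4
    exact (mul_inv_eq_iff_eq_mul.1 e4).symm

theorem simple_of (hS : IsPGroup p S) {F : FusionSystem S} (hF : F.IsSaturated p) (hc : F.core = ⊥) (h0 : S ≠ ⊥)
    {ι : H →* Ω} (hι : Function.Injective ι) (hr : ι.range = S)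
    (h1 : ∀ (G : Type v) [Group G] [Finite G] (u : H →* G) (T : Subgroup H) (K : Subgroup H → Subgroup G),
      Sat p u → Cf u → Nrm p u T K → T = ⊥ ∨ T = ⊤)
    (h2 : ∀ (G G' : Type v) [Group G] [Finite G] [Group G'] [Finite G'] (u : H →* G) (u' : H →* G'),
      Sat p u → Sat p u' → Cf u' → (∀ f, In u' ⊤ f → In u ⊤ f) → ∀ f, Fa u ⊤ f → In u' ⊤ f) :
    F.IsSimple p := by
  refine ⟨hF, h0, fun T N hN => ?_⟩
  obtain ⟨G, _, _, u, sat, cf, e⟩ := realize hS hF hι hr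
  obtain ⟨K, hK⟩ := exists_nrm hS hι hr sat.inj e hN.1
  have hT : (T.comap ι).map ι = T := Subgroup.map_comap_eq_self (hN.1.2.2.2.1.1.trans hr.ge)
  have tp : (⊤ : Subgroup H).map ι = S := (MonoidHom.range_eq_map ι).symm.trans hr
  refine (h1 G u _ K sat (cf hc) hK).imp (fun k => by rw [← hT, k, Subgroup.map_bot]) fun k => ?_
  obtain rfl : S = T := by rw [← hT, k, tp]
  obtain ⟨G', _, _, u', sat', cf', e'⟩ := realize hS hN.1.1 hι hr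
  have k2 := h2 G G' u u' sat sat' (cf' (by rw [H91.core_eq_inf_of_weaklyNormal hS hF hN.1, hc, bot_inf_eq]))
    fun f hf => (e _ _).2 (((e' _ _).1 hf).imp fun φ k => ⟨k.1.of_sub hN.1.2.2.1, k.2⟩)
  refine ⟨rfl, fun P => H91.Hom_eq_iff_M.2 fun f => ⟨fun h => h.of_sub hN.1.2.2.1, fun h => ?_⟩⟩
  obtain ⟨a, f₀, ha, -, hf₀, q⟩ := H92.inv_frattini hN.1.2.2 h.le h
  have q1 : ∀ x, a (ι x) = ι (Function.invFun ι (a (ι x))) := fun x =>
    (Function.invFun_eq (hr.ge (ha.mem (hr.le ⟨x, rfl⟩)))).symm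
  obtain ⟨g, hg⟩ := (e ⊤ _).2 ⟨a, ha.restrict tp.le, fun x _ => q1 x⟩
  obtain ⟨φ, hφ, q2⟩ := (e' _ _).1 (k2 _ ⟨Glue.au_of sat.inj hg fun _ _ => trivial, g, hg⟩)
  refine ((hφ.restrict tp.ge).comp hf₀ fun _ hx => hf₀.mem hx).congr fun x hx => ?_
  obtain ⟨y, hy⟩ := hr.ge (hf₀.mem hx)
  rw [q x hx, ← hy, q2 y trivial, ← q1]

end Cfsg.Agent.TH3
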