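import Cfsg.Agent.TH3.Fa5

/-! Project TH3: characteristic subgroups of the model.  See `notes/TH3.md`. -/

set_option autoImplicit false
set_option linter.unusedSectionVars false

namespace Cfsg.Agent.TH3

open FK
open RFS (Au)
open SR3 (nm ce St)
open scoped commutatorElement

variable {G : Type*} [Group G] [Finite G] [Fact (Nat.Prime 3)] {u : V →* G} {E T : Subgroup V} {L : Subgroup G}

private theorem cb {a b : V} : ⁅a, b⁆ ∈ (⊥ : Subgroup V) ↔ a * b = b * a := by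
  rw [Subgroup.mem_bot, commutatorElement_eq_one_iff_mul_comm]

private theorem tp (a : V) : a ∈ (⊤ : Subgroup V) := Subgroup.mem_top a

theorem ch_Z1 : RFS.Ch ⊤ Z1 :=
  RFS.Ch.cz RFS.Ch.top RFS.Ch.top RFS.Ch.bot fun a =>
    ⟨fun ha => ⟨tp a, fun _ _ => cb.2 (cZ1 ha)⟩,
     fun k => zS1 (cb.1 (k.2 _ (tp _))) (cb.1 (k.2 _ (tp _))) (cb.1 (k.2 _ (tp _)))⟩

theorem ch_Z2 : RFS.Ch ⊤ Z2 :=
  RFS.Ch.cz RFS.Ch.top RFS.Ch.top ch_Z1 fun a =>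
    ⟨fun ha => ⟨tp a, fun _ _ => cZ2 ha⟩, fun k => zS2 (k.2 _ (tp _)) (k.2 _ (tp _)) (k.2 _ (tp _))⟩

theorem ch_Z3 : RFS.Ch ⊤ Z3 :=
  RFS.Ch.cz RFS.Ch.top RFS.Ch.top ch_Z2 fun a =>
    ⟨fun ha => ⟨tp a, fun _ _ => cZ3 ha⟩, fun k => zS3 (k.2 _ (tp _)) (k.2 _ (tp _)) (k.2 _ (tp _))⟩

theorem ch_Z4 : RFS.Ch ⊤ Z4 :=
  RFS.Ch.cz RFS.Ch.top RFS.Ch.top ch_Z3 fun a =>
    ⟨fun ha => ⟨tp a, fun _ _ => cZ4 ha⟩, fun k => zS4 (k.2 _ (tp _)) (k.2 _ (tp _)) (k.2 _ (tp _))⟩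

theorem ch_Z5 : RFS.Ch ⊤ Z5 :=
  RFS.Ch.cz RFS.Ch.top RFS.Ch.top ch_Z4 fun a =>
    ⟨fun ha => ⟨tp a, fun _ _ => cZ5 ha⟩, fun k => zS5 (k.2 _ (tp _)) (k.2 _ (tp _)) (k.2 _ (tp _))⟩

theorem ch_Z6 : RFS.Ch ⊤ Z6 :=
  RFS.Ch.cz RFS.Ch.top RFS.Ch.top ch_Z5 fun a =>
    ⟨fun ha => ⟨tp a, fun _ _ => cZ6 ha⟩, fun k => zS6 (k.2 _ (tp _)) (k.2 _ (tp _)) (k.2 _ (tp _))⟩

theorem ch_E1 : RFS.Ch ⊤ E1 :=
  RFS.Ch.cz RFS.Ch.top ch_Z2 RFS.Ch.bot fun a =>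
    ⟨fun ha => ⟨tp a, fun _ hb => cb.2 (cZ2E1 hb ha).symm⟩,
     fun k => zE1 (cb.1 (k.2 _ (hm (by decide) : h 8 ∈ Z2)))⟩

theorem ch_E2 : RFS.Ch ⊤ E2 :=
  RFS.Ch.cz RFS.Ch.top ch_Z3 ch_Z1 fun a =>
    ⟨fun ha => ⟨tp a, fun _ hb => SR3.comm_symm (cZ3E2 hb ha)⟩,
     fun k => zE2 (k.2 _ (hm (by decide) : h 7 ∈ Z3))⟩

theorem ch_C3 : RFS.Ch ⊤ C3 :=
  RFS.Ch.cz RFS.Ch.top ch_Z3 RFS.Ch.bot fun a =>
    ⟨fun ha => ⟨tp a, fun _ hb => cb.2 (cZ3C3 hb ha).symm⟩,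
     fun k => zC3 (cb.1 (k.2 _ (hm (by decide) : h 7 ∈ Z3))) (cb.1 (k.2 _ (hm (by decide) : h 8 ∈ Z3)))⟩

private theorem d1_iff (a : V) : a ∈ D1 ↔ a ∈ E1 ∧ ∀ b ∈ E1, ⁅a, b⁆ ∈ Z2 :=
  ⟨fun ha => ⟨D1_E1 ha, fun _ hb => cD1E1 ha hb⟩,
   fun k => zE1b k.1 (k.2 _ (hm (by decide) : h 0 ∈ E1)) (k.2 _ (hm (by decide) : h 2 ∈ E1))
     (k.2 _ (hm (by decide) : h 3 ∈ E1)) (k.2 _ (hm (by decide) : h 4 ∈ E1))⟩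

theorem ch_D1 : RFS.Ch ⊤ D1 := RFS.Ch.cz ch_E1 ch_E1 ch_Z2 d1_iff

theorem ch_Ph : RFS.Ch ⊤ Ph := by
  refine ⟨le_top, fun f hf b hb => ?_⟩
  have h1 : f ⁅h 0, h 1⁆ ∈ Ph := by
    rw [hf.comm' (tp _) (tp _)]; exact cS
  rcases upPh (cS (a := h 0) (b := h 1)) hb q3 with k | k | k
  · exact Z5_Ph (ch_Z5.inv f hf b k)
  · have := Z5_Ph (ch_Z5.inv f hf _ k)
    rw [hf.mul _ (tp _) _ (tp _), hf.inv' (tp _)] at this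
    exact (Subgroup.mul_mem_cancel_left _ (inv_mem h1)).1 this
  · have := Z5_Ph (ch_Z5.inv f hf _ k)
    rw [hf.mul _ (tp _) _ (tp _)] at this
    exact (Subgroup.mul_mem_cancel_left _ h1).1 this

theorem ch1_Z2 : RFS.Ch E1 Z2 :=
  RFS.Ch.cz RFS.Ch.top RFS.Ch.top RFS.Ch.bot fun _ =>
    ⟨fun ha => ⟨Z2_E1 ha, fun _ hb => cb.2 (cZ2E1 ha hb)⟩,
     fun k => zE1a k.1 (cb.1 (k.2 _ (hm (by decide) : h 0 ∈ E1))) (cb.1 (k.2 _ (hm (by decide) : h 2 ∈ E1)))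
       (cb.1 (k.2 _ (hm (by decide) : h 3 ∈ E1))) (cb.1 (k.2 _ (hm (by decide) : h 4 ∈ E1)))⟩

theorem ch1_D1 : RFS.Ch E1 D1 := RFS.Ch.cz RFS.Ch.top RFS.Ch.top ch1_Z2 d1_iff

theorem ch2_Z1 : RFS.Ch E2 Z1 :=
  RFS.Ch.cz RFS.Ch.top RFS.Ch.top RFS.Ch.bot fun _ =>
    ⟨fun ha => ⟨Z3_E2 (Z1_Z3 ha), fun _ _ => cb.2 (cZ1 ha)⟩,
     fun k => zE2a k.1 (cb.1 (k.2 _ (hm (by decide) : h 1 ∈ E2))) (cb.1 (k.2 _ (hm (by decide) : h 2 ∈ E2)))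
       (cb.1 (k.2 _ (hm (by decide) : h 3 ∈ E2))) (cb.1 (k.2 _ (hm (by decide) : h 4 ∈ E2)))
       (cb.1 (k.2 _ (hm (by decide) : h 5 ∈ E2)))⟩

theorem ch2_Z3 : RFS.Ch E2 Z3 :=
  RFS.Ch.cz RFS.Ch.top RFS.Ch.top ch2_Z1 fun _ =>
    ⟨fun ha => ⟨Z3_E2 ha, fun _ hb => cZ3E2 ha hb⟩,
     fun k => zE2b k.1 (k.2 _ (hm (by decide) : h 1 ∈ E2)) (k.2 _ (hm (by decide) : h 2 ∈ E2))
       (k.2 _ (hm (by decide) : h 3 ∈ E2)) (k.2 _ (hm (by decide) : h 4 ∈ E2))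
       (k.2 _ (hm (by decide) : h 5 ∈ E2))⟩

theorem ch2_C3 : RFS.Ch E2 C3 :=
  RFS.Ch.cz RFS.Ch.top ch2_Z3 RFS.Ch.bot fun _ =>
    ⟨fun ha => ⟨C3_E2 ha, fun _ hb => cb.2 (cZ3C3 hb ha).symm⟩,
     fun k => zC3 (cb.1 (k.2 _ (hm (by decide) : h 7 ∈ Z3))) (cb.1 (k.2 _ (hm (by decide) : h 8 ∈ Z3)))⟩

theorem ch2_Z4 : RFS.Ch E2 Z4 :=
  RFS.Ch.cz ch2_C3 ch2_C3 ch2_Z1 fun _ =>
    ⟨fun ha => ⟨Z4_C3 ha, fun _ hb => cZ4C3 ha hb⟩,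
     fun k => zC3b k.1 (k.2 _ (hm (by decide) : h 2 ∈ C3)) (k.2 _ (hm (by decide) : h 4 ∈ C3))
       (k.2 _ (hm (by decide) : h 5 ∈ C3))⟩

theorem ch2_C4 : RFS.Ch E2 C4 :=
  RFS.Ch.cz RFS.Ch.top ch2_Z4 RFS.Ch.bot fun _ =>
    ⟨fun ha => ⟨C4_E2 ha, fun _ hb => cb.2 (cZ4C4 hb ha).symm⟩,
     fun k => zC4 (cb.1 (k.2 _ (hm (by decide) : h 6 ∈ Z4))) (cb.1 (k.2 _ (hm (by decide) : h 7 ∈ Z4)))
       (cb.1 (k.2 _ (hm (by decide) : h 8 ∈ Z4)))⟩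

/-- an additive coordinate whose kernel is invariant is scaled -/
private theorem scal {F : V → V} (k : Au ⊤ F) (c : V → ZMod 3) (add : ∀ a b, c (a * b) = c a + c b)
    (B : Subgroup V) (mem : ∀ a, a ∈ B ↔ c a = 0) (ch : RFS.Ch ⊤ B) (g : V) (hg : c g = 1)
    (up : ∀ a, L3 g a B) : c (F g) ≠ 0 ∧ ∀ a, c (F a) = c (F g) * c a := by
  have one : c 1 = 0 := (mem 1).1 (one_mem _)
  have neg : ∀ a, c a⁻¹ = -c a := fun a => by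
    have := add a⁻¹ a
    rw [inv_mul_cancel, one] at this
    exact eq_neg_of_add_eq_zero_left this.symm
  have key : ∀ a, c (F a) = c (F g) * c a := fun a => by
    rcases up a with e | e | e
    · rw [(mem _).1 (ch.inv F k a e), (mem _).1 e, mul_zero]
    · have e1 := (mem _).1 (ch.inv F k _ e)
      have e2 := (mem _).1 e
      rw [k.mul _ (tp _) _ (tp _), k.inv' (tp _), add, neg] at e1
      rw [add, neg, hg] at e2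
      linear_combination e1 - c (F g) * e2
    · have e1 := (mem _).1 (ch.inv F k _ e)
      have e2 := (mem _).1 e
      rw [k.mul _ (tp _) _ (tp _), add] at e1
      rw [add, hg] at e2
      linear_combination e1 - c (F g) * e2
  refine ⟨fun z => ?_, key⟩
  obtain ⟨a, -, e⟩ := k.sur g (tp g)
  have := key a
  rw [e, hg, z, zero_mul] at this
  exact one_ne_zero this

theorem xi_ex {F : V → V} (k : Au ⊤ F) : ∃ e₀ e₁, e₀ ≠ 0 ∧ e₁ ≠ 0 ∧ Xi F e₀ e₁ := by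
  obtain ⟨n0, k0⟩ := scal k (fun a => a.co 0) (fun _ _ => co01.1) E2 (fun _ => mem_E2) ch_E2 (h 0)
    (h_co (by decide)) fun _ => upS2 (hn (by decide) (by decide) : h 0 ∉ E2)
  obtain ⟨n1, k1⟩ := scal k (fun a => a.co 1) (fun _ _ => co01.2) E1 (fun _ => mem_E1) ch_E1 (h 1)
    (h_co (by decide)) fun _ => upS1 (hn (by decide) (by decide) : h 1 ∉ E1)
  exact ⟨_, _, n0, n1, fun a => ⟨k0 a, k1 a⟩⟩

end Cfsg.Agent.TH3
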