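import Cfsg.Agent.TH3.TriB
import Cfsg.Agent.TH3.Chr

set_option autoImplicit false
set_option linter.unusedSectionVars false

namespace Cfsg.Agent.TH3

open FK
open RFS (Au)
open SR3 (nm ce St)
open scoped commutatorElement

variable {G : Type*} [Group G] [Finite G] [Fact (Nat.Prime 3)] {u : V →* G} {E T : Subgroup V} {L : Subgroup G}

private theorem sca_t {A : Subgroup V} {f : V → V} (s : SC u T) (k : Fa u A f) {a : V} (ha : a ∈ T) (hA : a ∈ A) :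
    f a ∈ T := by
  obtain ⟨g, e⟩ := k.ind
  exact s a ha _ g (e a hA)

private theorem sca_cm [T.Normal] {a : V} (ha : a ∈ T) (b : V) : ⁅a, b⁆ ∈ T := by
  have := mul_mem ha (Subgroup.Normal.conj_mem ‹_› _ (inv_mem ha) b)
  simpa only [commutatorElement_def, mul_assoc] using this

/-- the elements of `A` that `f` maps into `B` -/
private def sca_pre {A : Subgroup V} {f : V → V} (k : Au A f) (B : Subgroup V) : Subgroup V where
  carrier := {a | a ∈ A ∧ f a ∈ B}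
  one_mem' := ⟨one_mem _, by rw [k.one]; exact one_mem _⟩
  mul_mem' := fun {a b} x y => ⟨mul_mem x.1 y.1, by rw [k.mul _ x.1 _ y.1]; exact mul_mem x.2 y.2⟩
  inv_mem' := fun {a} x => ⟨inv_mem x.1, by rw [k.map_inv x.1]; exact inv_mem x.2⟩

private theorem sca_l3 {A : Subgroup V} {f : V → V} (k : Au A f) {a b : V} (ha : a ∈ A) (hb : b ∈ A)
    (l : L3 a b ⊥) : L3 (f a) (f b) ⊥ := by
  simp only [L3, Subgroup.mem_bot] at l ⊢
  rcases l with l | l | l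
  · exact .inl (by rw [l, k.one])
  · exact .inr (.inl (by rw [← k.map_inv ha, ← k.mul _ (inv_mem ha) _ hb, l, k.one]))
  · exact .inr (.inr (by rw [← k.mul _ ha _ hb, l, k.one]))

/-- a map preserving `B` and `D` preserves the centralizer of `B` in `D` -/
private theorem sca_cz {A B C D : Subgroup V} {f : V → V} (k : Au A f) (lD : D ≤ A) (lB : B ≤ A)
    (hD : ∀ a ∈ D, f a ∈ D) (hB : ∀ a ∈ B, f a ∈ B) (l : C ≤ D) (c1 : ∀ a ∈ C, ∀ b ∈ B, a * b = b * a)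
    (c2 : ∀ a ∈ D, (∀ b ∈ B, a * b = b * a) → a ∈ C) : ∀ a ∈ C, f a ∈ C :=
  k.cz (D₃ := ⊥) lD lB hD hB (fun a ha _ => by rw [Subgroup.mem_bot.1 ha, k.one]; exact one_mem _) fun a =>
    ⟨fun ha => ⟨l ha, fun b hb => Subgroup.mem_bot.2 (commutatorElement_eq_one_iff_mul_comm.2 (c1 a ha b hb))⟩,
      fun ha => c2 a ha.1 fun b hb => commutatorElement_eq_one_iff_mul_comm.1 (Subgroup.mem_bot.1 (ha.2 b hb))⟩

theorem sc1 (s : SC u T) (n : T ≠ ⊥) (m : M1 u) : Z2 ≤ T := by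
  have := s.normal
  obtain ⟨f, k, nf⟩ := m
  have z1 : Z1 ≤ T := by
    by_contra c
    have k1 : ∀ a ∈ T, a ∈ Z1 → a = 1 := fun a ha h1 => by
      by_contra ne
      exact c fun b hb => (upZ1 h1 hb ne).mem bot_le ha
    have st : ∀ B C : Subgroup V, (∀ a ∈ T, a ∈ B → a = 1) → (∀ a ∈ C, ∀ b, ⁅a, b⁆ ∈ B) →
        ∀ a ∈ T, a ∈ C → a = 1 := fun B C k2 k3 a ha hc => by
      have e : ∀ b, a * b = b * a := fun b =>
        commutatorElement_eq_one_iff_mul_comm.1 (k2 _ (sca_cm ha b) (k3 a hc b))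
      exact k1 a ha (zS1 (e _) (e _) (e _))
    have k6 := st _ ⊤ (st _ Z6 (st _ Z5 (st _ Z4 (st _ Z3 (st _ Z2 k1 fun _ x _ => cZ2 x) fun _ x _ => cZ3 x)
      fun _ x _ => cZ4 x) fun _ x _ => cZ5 x) fun _ x _ => cZ6 x) fun _ _ _ => Ph_Z6 cS
    exact n (eq_bot_iff.2 fun a ha => Subgroup.mem_bot.2 (k6 a ha trivial))
  have h9 : h 9 ∈ Z1 := hm (by decide)
  intro b hb
  exact (upZ2 (ch1_Z2.inv f k.au _ (Z1_Z2 h9)) hb nf).mem z1 (sca_t s k (z1 h9) (Z2_E1 (Z1_Z2 h9)))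

private theorem sca_cube {A : Subgroup V} {f : V → V} (k : Au A f) {a : V} (ha : a ∈ A) : f (a ^ 3) = f a ^ 3 := by
  rw [pow_three', pow_three', k.mul _ (mul_mem ha ha) _ ha, k.mul _ ha _ ha]

private theorem sca_D1 (s : SC u T) (z : Z3 ≤ T) (m : M1 u) : D1 ≤ T := by
  have := s.normal
  obtain ⟨f, k, nf⟩ := m
  have z4 : Z4 ≤ T := by
    have : ∃ a ∈ Z3, f a ∉ Z3 := by
      by_contra! c
      have c3 := sca_cz (C := C3) k.au le_rfl (Z3_D1.trans D1_E1) k.au.mem c C3_E1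
        (fun a ha b hb => (cZ3C3 hb ha).symm) fun a _ e => zC3 (e _ (hm (by decide))) (e _ (hm (by decide)))
      have h4 : h 4 ∈ C3 := hm (by decide)
      exact nf (by rw [← h4_cube, sca_cube k.au (C3_E1 h4)]; exact pC3 (c3 _ h4))
    obtain ⟨a, ha, na⟩ := this
    have hT := sca_t s k (z ha) (D1_E1 (Z3_D1 ha))
    have hD := ch1_D1.inv f k.au _ (Z3_D1 ha)
    intro b hb
    by_cases c : f a ∈ Z4
    · exact (upZ4 c hb na).mem z hT
    · exact (upZ4 (cD1 hD) hb (n6 hD c)).mem z (sca_cm hT _)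
  have : ∃ a ∈ Z4, f a ∉ Z4 := by
    by_contra! c
    have c4 := sca_cz (C := C4) k.au le_rfl (Z4_D1.trans D1_E1) k.au.mem c C4_E1
      (fun a ha b hb => (cZ4C4 hb ha).symm) fun a _ e =>
        zC4 (e _ (hm (by decide))) (e _ (hm (by decide))) (e _ (hm (by decide)))
    have h5 : h 5 ∈ C4 := hm (by decide)
    have h2 : h 2 ∈ C4 := hm (by decide)
    exact nf (by rw [← h52, k.au.map_comm (C4_E1 h5) (C4_E1 h2)]; exact cC4C4 (c4 _ h5) (c4 _ h2))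
  obtain ⟨a, ha, na⟩ := this
  intro b hb
  exact (upD1 (ch1_D1.inv f k.au _ (Z4_D1 ha)) hb na).mem z4 (sca_t s k (z4 ha) (D1_E1 (Z4_D1 ha)))

private theorem sca_C4 (s : SC u T) (z : D1 ≤ T) (m : M2 u) : C4 ≤ T := by
  obtain ⟨f, k, nf⟩ := m
  have h5 : h 5 ∈ D1 := hm (by decide)
  have h4 : h 4 ∈ C3 := hm (by decide)
  have h8 : h 8 ∈ Z2 := hm (by decide)
  have e5 : h 5 ∈ E2 := C4_E2 (D1_C4 h5)
  have nd : f (h 5) ∉ D1 := fun c => by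
    have c2 : ⁅h 5, h 4⁆ ∈ sca_pre k.au Z2 := ⟨Z3_E2 (Z2_Z3 (cD1E1 h5 (C3_E1 h4))), by
      rw [k.au.map_comm e5 (C3_E2 h4)]; exact cD1E1 c (C3_E1 (ch2_C3.inv f k.au _ h4))⟩
    exact nf ((upZ2 (cD1E1 h5 (C3_E1 h4)) h8 h54).mem (C := sca_pre k.au Z2)
      (fun a ha => ⟨Z3_E2 (Z1_Z3 ha), Z1_Z2 (ch2_Z1.inv f k.au _ ha)⟩) c2).2
  intro b hb
  exact (upC4 (ch2_C4.inv f k.au _ (D1_C4 h5)) hb nd).mem z (sca_t s k (z h5) e5)

private theorem sca_E1 (s : SC u T) (z : C4 ≤ T) (m : M1 u) : E1 ≤ T := by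
  have := s.normal
  obtain ⟨f, k, nf⟩ := m
  have h2 : h 2 ∈ C4 := hm (by decide)
  have h5 : h 5 ∈ D1 := hm (by decide)
  have h9 : h 9 ∈ Z1 := hm (by decide)
  have e2 := C4_E1 h2
  have hT := sca_t s k (z h2) e2
  have pD := ch1_D1.inv f k.au
  have ny : f (h 2) ∉ Z6 := fun c => by
    have l : ∀ d ∈ D1, L3 (f (h 9)) ⁅d, f (h 2)⁆ ⊥ := fun d hd => by
      obtain ⟨d', hd', rfl⟩ := (k.au.res D1_E1 pD).sur d hd
      have k1 := cC4C4 (D1_C4 hd') h2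
      rw [← k.au.map_comm (D1_E1 hd') e2]
      exact sca_l3 k.au (Z2_E1 (Z1_Z2 h9)) (Z2_E1 (Z1_Z2 k1)) (upZ1 h9 k1 h9_ne)
    have y4 : f (h 2) ∈ C4 := (s7 c (ch1_Z2.inv f k.au _ (Z1_Z2 h9)) (l _ h5) (l _ (hm (by decide)))
      (l _ (hm (by decide)))).elim id (@D1_C4 _)
    exact nf (by rw [← h52, k.au.map_comm (D1_E1 h5) e2]; exact cC4C4 (D1_C4 (pD _ h5)) y4)
  have ph : Ph ≤ T := ncl hT (k.au.mem _ e2) ny
  have z6 : Z6 ≤ T := fun b hb =>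
    (upZ6 (a := h 2) (hm (by decide)) hb (hn (by decide) (by decide))).mem ph (z h2)
  intro b hb
  exact (upE1 (k.au.mem _ e2) hb ny).mem z6 hT

theorem sc2 (s : SC u T) (z : Z2 ≤ T) (m : M1 u) (m' : M2 u) : T = ⊤ := by
  obtain ⟨f, k, nf⟩ := id m'
  have h8 : h 8 ∈ Z2 := hm (by decide)
  have z3 : Z3 ≤ T := fun b hb =>
    (upZ3 (ch2_Z3.inv f k.au _ (Z2_Z3 h8)) hb nf).mem z (sca_t s k (z h8) (Z3_E2 (Z2_Z3 h8)))
  have e1 := sca_E1 s (sca_C4 s (sca_D1 s z3 m) m') m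
  have : ∃ a ∈ Z6, f a ∉ E1 := by
    by_contra! c
    have c6 : ∀ a ∈ Z6, f a ∈ Z6 := fun a ha => m12 (c a ha) (k.au.mem _ (Z6_E2 ha))
    exact nf (sca_cz (C := Z2) k.au Z6_E2 Z6_E2 c6 c6 (Z2_D1.trans D1_Z6) (fun a ha b hb => cZ2E1 ha (Z6_E1 hb))
      (fun a ha e => zZ6 ha (e _ (hm (by decide))) (e _ (hm (by decide))) (e _ (hm (by decide)))
        (e _ (hm (by decide)))) _ h8)
  obtain ⟨a, ha, na⟩ := this
  exact eq_top_iff.2 fun b _ => (upS1 na).mem e1 (sca_t s k (e1 (Z6_E1 ha)) (Z6_E2 ha))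

end Cfsg.Agent.TH3
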