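import Cfsg.Agent.TH3.TriA
import Cfsg.Agent.TH3.GL

set_option autoImplicit false
set_option linter.unusedSectionVars false

namespace Cfsg.Agent.TH3

open FK
open RFS (Au)
open SR3 (nm ce St)
open scoped commutatorElement

variable {G : Type*} [Group G] [Finite G] [Fact (Nat.Prime 3)] {u : V →* G} {E T : Subgroup V} {L : Subgroup G}

namespace SCb

/-- `g` acts on `Z2` with matrix `m` -/
def Rp (u : V →* G) (g : G) (m : Mt) : Prop :=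
  ∃ f : V → V, (∀ z ∈ Z2, f z ∈ Z2) ∧ (∀ z ∈ Z2, g * u z * g⁻¹ = u (f z)) ∧ Mx 8 Z2 f m

theorem Rp.mul {g g' : G} {m n : Mt} (a : Rp u g m) (b : Rp u g' n) : Rp u (g * g') (cp m n) :=
  let ⟨_, a1, a2, a3⟩ := a
  let ⟨_, b1, b2, b3⟩ := b
  ⟨_, fun z hz => a1 _ (b1 z hz), fun z hz => by rw [← a2 _ (b1 z hz), ← b2 z hz]; group, a3.comp b3 b1⟩

theorem Rp.iff (i : Function.Injective u) {g : G} {m : Mt} (a : Rp u g m) :
    g ∈ ce (Z2.map u) ↔ m = ((1, 0), (0, 1)) := by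
  obtain ⟨f, a1, a2, a3⟩ := a
  refine ⟨fun e => mx2_uniq a3 (mx2_id fun z hz => i ?_), ?_⟩
  · rw [← a2 z hz, ← e _ ⟨z, hz, rfl⟩, mul_inv_cancel_right]
  · rintro rfl _ ⟨z, hz, rfl⟩
    have := a2 z hz
    rw [mx2_ext a3 (mx2_id (f := fun z => z) fun _ _ => rfl) a1 (fun _ h => h) z hz] at this
    exact (mul_inv_eq_iff_eq_mul.1 this).symm

end SCb

theorem sc3 {K : Subgroup V → Subgroup G} (n : Nrm 3 u E1 K) (m : M3 u) : False := by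
  obtain ⟨E, k, t⟩ := m
  obtain ⟨g, hg, gn, g4⟩ := triA k t (n.nor E t.le) fun d hd => n.inn E t.le d (D1_E1 hd)
  have zE : Z2 ≤ E := fun z hz => k.cen z fun e he => cZ2E1 hz (t.le he)
  have gK := n.res E t.le Z2 zE g hg gn
  obtain ⟨f, hf, e⟩ := Fa.of_nm k.inj gn
  obtain ⟨m, hm, -⟩ := mx2 hf.au
  have rg : SCb.Rp u g m := ⟨f, hf.au.mem, e, hm⟩
  have nz : ∀ s, ∀ z ∈ Z2, s * z * s⁻¹ ∈ Z2 := fun s z hz => Subgroup.Normal.conj_mem inferInstance z hz s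
  have es : ∀ z ∈ Z2, u (h 1) * u z * (u (h 1))⁻¹ = u (h 1 * z * (h 1)⁻¹) := fun z _ => by simp
  have rs : SCb.Rp u (u (h 1)) mA := ⟨_, nz _, es, mx_cj1⟩
  have rx := rg.mul (rs.mul (rg.mul (rs.mul rs)))
  have xK : g * (u (h 1) * (g * (u (h 1) * u (h 1)))) ∈ K Z2 := by
    have := mul_mem gK (mul_mem (SR3.conj_mem (n.nor Z2 Z2_E1 (nm_of_ind (nz _) es)) gK)
      (n.inn Z2 Z2_E1 _ (Z6_E1 (Z5_Z6 (pS (a := h 1)))) (nz _)))
    convert this using 1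
    simp only [pow_three, map_mul, mul_assoc, inv_mul_cancel_left]
  obtain ⟨c1, c2⟩ := gl3 (mx_tor k.inj hf.au e g4 hm) rfl
  have r2 := rx.mul rx
  refine c1 ((r2.iff k.inj).1 (n.syl Z2 Z2_E1 (fun a ha s hs => cZ2E1 ha hs) _ (mul_mem xK xK) ?_))
  rw [pow_three]
  exact ((r2.mul (r2.mul r2)).iff k.inj).2 c2

end Cfsg.Agent.TH3
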