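import Cfsg.Agent.TH3.Gen
import Cfsg.Agent.FK.TI

set_option autoImplicit false
set_option linter.unusedSectionVars false

namespace Cfsg.Agent.TH3

open FK
open RFS (Au)
open SR3 (nm ce St)
open scoped commutatorElement

variable {H G : Type*} [Group H] [Finite H] [Group G] [Finite G] [Fact (Nat.Prime 3)] {u : H →* G}
  {E V₁ V₂ W B C D : Subgroup H} {L : Subgroup G}

variable {p : ℕ} [Fact p.Prime] {A B₀ B₁ B₂ Z R : Subgroup H}

/-- a characteristic subgroup is moved by an essential subgroup -/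
theorem mov (h : Sat p u) (hc : Cf u) (h0 : Z ≠ ⊥) (hS : ∀ F, Au ⊤ F → ∀ z ∈ Z, F z ∈ Z) :
    ∃ E, Pr p u E (nm (E.map u)) ∧ ¬ Iv u E (nm (E.map u)) Z := by
  by_contra hx
  push Not at hx
  have key : ∀ {R : Subgroup G}, R ≤ u.range → Z.map u ≤ R → nm R ≤ nm (Z.map u) →
      Z.map u ≤ R ∧ ∀ α ∈ (groupFusionSystem u.range).autGroup R, H91.im (H91.efn α) (Z.map u) = Z.map u :=
    fun h1 h2 h3 => ⟨h2, fun α hα => by
      obtain ⟨g, hg, rfl⟩ := (SR3.fus_mem_aut h1).1 hα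
      rw [H91.im_congr fun x hx => H91.efn_cjAut _ g hg (h2 hx)]
      exact H91.mem_normalizer_iff_im_conj.1 (h3 hg)⟩
  have hn := H91.normal_of_essential h.pg_range h.sat (Subgroup.map_le_range u Z) fun R hR => by
    rcases hR with rfl | hR
    · refine key le_rfl (Subgroup.map_le_range u Z) fun n hn => ?_
      obtain ⟨F, hF, e⟩ := TI.of_nmS h.inj hn
      exact nm_of_ind (hS F hF.au) fun a _ => e a
    · have e0 : (R.comap u).map u = R := Subgroup.map_comap_eq_self hR.1.1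
      have i := hx _ (by rw [e0]; exact h.pr hR)
      exact key hR.1.1 (e0 ▸ Subgroup.map_mono i.le) (e0 ▸ i.nm)
  exact h0 ((Subgroup.map_eq_bot_iff_of_injective Z h.inj).1 (le_bot_iff.1 ((H91.le_core hn).trans hc.le)))

/-- extension to the centralizer -/
theorem ext_cent (h : Sat p u) (hZ : ∀ s, Nm Z s) (hR : ∀ r, r ∈ R ↔ ∀ z ∈ Z, r * z = z * r) (le : Z ≤ R)
    {g : G} (hg : g ∈ nm (Z.map u)) : ∃ f, Fa u R f ∧ ∀ z ∈ Z, g * u z * g⁻¹ = u (f z) := by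
  have l := h.loc hZ
  have hf : H91.M (groupFusionSystem u.range) (Z.map u) fun y => g * y * g⁻¹ :=
    H91.M_group_iff.2 ⟨l.le, fun y hy => l.le (SR3.conj_mem hg hy), g, fun _ _ => rfl⟩
  obtain ⟨φ, hφ, e1, e2⟩ := hf.extend_centralizer (H91.mem_normalizer_iff_im_conj.1 hg)
    (H91.sat_receptive' l.pg h.sat (H91.isFullyNormalized_of_normal _ l.le l.norm))
  obtain ⟨-, -, n, hn⟩ := H91.M_group_iff.1 hφ
  have eR : R.map u = u.range ⊓ ce (Z.map u) := by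
    ext y
    constructor
    · rintro ⟨r, hr, rfl⟩
      refine ⟨⟨r, rfl⟩, SR3.mem_ce.2 ?_⟩
      rintro _ ⟨z, hz, rfl⟩
      rw [← map_mul, ← map_mul, (hR r).1 hr z hz]
    · rintro ⟨⟨r, rfl⟩, hr⟩
      refine ⟨r, (hR r).2 fun z hz => h.inj ?_, rfl⟩
      rw [map_mul, map_mul, SR3.mem_ce.1 hr _ ⟨z, hz, rfl⟩]
  obtain ⟨f, hf, e⟩ := Fa.of_nm h.inj (A := R) (x := n) (SR3.mem_nm_of_conj fun y hy => by
    rw [eR] at hy ⊢
    rw [← hn y (Subgroup.mem_sup_right hy)]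
    exact e2 y hy)
  refine ⟨f, hf, fun z hz => ?_⟩
  rw [← e z (le hz), ← hn _ (Subgroup.mem_sup_left ⟨z, hz, rfl⟩), e1 _ ⟨z, hz, rfl⟩]

/-- Frattini argument for a flag -/
theorem flag (h : Sat p u) (hA : ∀ s, Nm A s) (l0 : B₀ ≤ B₁) (l1 : B₁ ≤ B₂) (l2 : B₂ ≤ A) (n0 : ∀ s, Nm B₀ s)
    (c1 : ∀ s : H, ∀ b ∈ B₁, ⁅s, b⁆ ∈ B₀) (c2 : ∀ s : H, ∀ b ∈ B₂, ⁅s, b⁆ ∈ B₁) {f : H → H} (hf : Fa u A f)
    (i0 : ∀ b ∈ B₀, f b ∈ B₀) (i1 : ∀ b ∈ B₁, f b ∈ B₁) (i2 : ∀ b ∈ B₂, f b ∈ B₂) :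
    ∃ F, Fa u ⊤ F ∧ (∀ b ∈ B₂, (f b)⁻¹ * F b ∈ B₁) ∧ ∀ b ∈ B₁, (f b)⁻¹ * F b ∈ B₀ := by
  obtain ⟨g, hg⟩ := hf.ind
  have n1 : ∀ s, Nm B₁ s := fun s => .of_comm fun b hb => l0 (c1 s b hb)
  have gA : g ∈ nm (A.map u) := nm_of_ind hf.au.mem hg
  have g0 : g ∈ nm (B₀.map u) := nm_of_ind i0 fun b hb => hg b (l2 (l1 (l0 hb)))
  have g1 : g ∈ nm (B₁.map u) := nm_of_ind i1 fun b hb => hg b (l2 (l1 hb))
  have g2 : g ∈ nm (B₂.map u) := nm_of_ind i2 fun b hb => hg b (l2 hb)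
  have rs : ∀ {X Y : Subgroup H}, (∀ s, Nm Y s) → (∀ s : H, ∀ b ∈ X, ⁅s, b⁆ ∈ Y) →
      u.range ≤ St (X.map u) (Y.map u) := fun n c => SR3.le_St (Fus.range_nm n) (by
    rintro _ ⟨s, rfl⟩ _ ⟨b, hb, rfl⟩
    exact ⟨_, c s b hb, map_commutatorElement u s b⟩)
  obtain ⟨l, hl, e⟩ := (h.loc hA).frat (nm (A.map u) ⊓ (St (B₂.map u) (B₁.map u) ⊓ St (B₁.map u) (B₀.map u)))
    (le_inf (Fus.range_nm hA) (le_inf (rs n1 c2) (rs n0 c1)))
    (le_inf (SR3.ce_le_nm le_rfl) (le_inf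
      (SR3.ce_le_St (Subgroup.map_mono l2) (Subgroup.map_mono (l1.trans l2)))
      (SR3.ce_le_St (Subgroup.map_mono (l1.trans l2)) (Subgroup.map_mono (l0.trans (l1.trans l2))))))
    inf_le_left g gA (SR3.nm_inf (SR3.nm_nm gA) (SR3.nm_inf (SR3.nm_St g2 g1) (SR3.nm_St g1 g0)))
  obtain ⟨F, hF, eF⟩ := TI.of_nmS h.inj e
  have key : ∀ {X Y : Subgroup H}, X ≤ A → (∀ s, Nm Y s) → g ∈ nm (Y.map u) → l ∈ St (X.map u) (Y.map u) →
      ∀ b ∈ X, (f b)⁻¹ * F b ∈ Y := fun hX n gY hl b hb => by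
    have := SR3.conj_mem (inv_mem (Fus.range_nm n ⟨f b, rfl⟩))
      (SR3.conj_mem gY ((SR3.mem_St.1 hl).2 (u b) ⟨b, hb, rfl⟩))
    rw [← Subgroup.mem_map_iff_mem h.inj, map_mul, map_inv, ← eF]
    convert this using 1
    rw [← hg b (hX hb), commutatorElement_def]
    group
  exact ⟨F, hF, key l2 n1 g1 hl.2.1, key (l1.trans l2) n0 g0 hl.2.2⟩

/-- an automorphism that stabilizes a chain is inner -/
theorem inner_of_chain (h : Sat p u) {F : H → H} (hF : Fa u ⊤ F) (X : ℕ → Subgroup H) (n : ℕ) (h0 : X 0 = ⊤)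
    (hn : X n = ⊥) (k : ∀ i < n, ∀ a ∈ X i, a⁻¹ * F a ∈ X (i + 1)) (le : ∀ i < n, X (i + 1) ≤ X i) :
    ∃ s, ∀ a, F a = s * a * s⁻¹ := by
  have mul : ∀ j a b, F^[j] (a * b) = F^[j] a * F^[j] b := fun j => by
    induction j with
    | zero => exact fun _ _ => rfl
    | succ j ih =>
      intro a b
      rw [Function.iterate_succ_apply, Function.iterate_succ_apply, Function.iterate_succ_apply,
        hF.au.mul a trivial b trivial, ih]
  obtain ⟨e, he⟩ := h.pg.exists_card_eq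
  have Q : ∀ d i, i + d = n → ∃ m, ∀ a ∈ X i, F^[p ^ m] a = a := fun d => by
    induction d with
    | zero =>
      rintro i rfl
      refine ⟨0, fun a ha => ?_⟩
      rw [show X i = ⊥ from hn, Subgroup.mem_bot] at ha
      subst ha
      simpa using hF.au.mul 1 trivial 1 trivial
    | succ d ih =>
      intro i hi
      obtain ⟨m, hm⟩ := ih (i + 1) (by omega)
      have k1 : ∀ j, ∀ a ∈ X i, a⁻¹ * F^[j] a ∈ X (i + 1) := fun j => by
        induction j with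
        | zero => simp
        | succ j ih =>
          intro a ha
          have k0 := k i (by omega) a ha
          have := mul_mem k0 (ih _ ((mul_mem_cancel_left (inv_mem ha)).1 (le i (by omega) k0)))
          rwa [mul_assoc, mul_inv_cancel_left] at this
      refine ⟨m + e, fun a ha => ?_⟩
      have k2 : ∀ j, (F^[p ^ m])^[j] a = a * (a⁻¹ * F^[p ^ m] a) ^ j := fun j => by
        induction j with
        | zero => simp
        | succ j ih =>
          rw [Function.iterate_succ_apply', ih, mul, hm _ (pow_mem (k1 _ a ha) j), pow_succ', ← mul_assoc,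
            mul_inv_cancel_left]
      rw [pow_add, Function.iterate_mul, k2, ← he, pow_card_eq_one', mul_one]
  obtain ⟨m, hm⟩ := Q n 0 (zero_add n)
  obtain ⟨c, hc, s, hs⟩ := h.cop hF
  let φ : Function.End H := F
  have h1 : φ ^ p ^ m = 1 := funext fun a => hm a (h0 ▸ trivial)
  obtain ⟨r, hr⟩ := exists_pow_eq_self_of_coprime (x := φ) (n := c)
    ((hc.pow_right m).coprime_dvd_right (orderOf_dvd_of_pow_eq_one h1))
  have k3 : ∀ j a, (F^[c])^[j] a = s ^ j * a * (s ^ j)⁻¹ := fun j a => by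
    induction j with
    | zero => simp
    | succ j ih => rw [Function.iterate_succ_apply', ih, hs, pow_succ']; group
  exact ⟨s ^ r, fun a => (congrFun hr a).symm.trans (k3 r a)⟩

end Cfsg.Agent.TH3
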