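import Cfsg.Agent.TH3.Chr
import Cfsg.Agent.TH3.Fus

set_option autoImplicit false
set_option linter.unusedSectionVars false

namespace Cfsg.Agent.TH3

open FK
open RFS (Au)
open SR3 (nm ce St)
open scoped commutatorElement

variable {G : Type*} [Group G] [Finite G] [Fact (Nat.Prime 3)] {u : V →* G} {E T : Subgroup V} {L : Subgroup G}

namespace Inn

/-- the elements fixed modulo `Y` -/
def Wf {H : Type*} [Group H] {F : H → H} (k : Au ⊤ F) (Y : Subgroup H) [n : Y.Normal] : Subgroup H where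
  carrier := {a | a⁻¹ * F a ∈ Y}
  one_mem' := by simp [k.one]
  mul_mem' := fun {a b} ha hb => by
    have := mul_mem (n.conj_mem _ ha b⁻¹) hb
    change (a * b)⁻¹ * F (a * b) ∈ Y
    rw [k.mul a trivial b trivial]
    convert this using 1
    group
  inv_mem' := fun {a} ha => by
    have := n.conj_mem _ (inv_mem ha) a
    change a⁻¹⁻¹ * F a⁻¹ ∈ Y
    rw [k.map_inv trivial]
    convert this using 1
    group

variable {H : Type*} [Group H] {F : H → H} (k : Au ⊤ F)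
include k

theorem mw {Y : Subgroup H} [Y.Normal] {a : H} : a ∈ Wf k Y ↔ a⁻¹ * F a ∈ Y := Iff.rfl

theorem self {Y : Subgroup H} [Y.Normal] (c : RFS.Ch ⊤ Y) : Y ≤ Wf k Y :=
  fun a ha => mul_mem (inv_mem ha) (c.inv F k a ha)

theorem cm (a b : H) : F ⁅a, b⁆ = ⁅a * (a⁻¹ * F a), b * (b⁻¹ * F b)⁆ := by
  rw [k.map_comm trivial trivial, mul_inv_cancel_left, mul_inv_cancel_left]

theorem cw {Y : Subgroup H} [Y.Normal] {a b : H}
    (e : ⁅a, b⁆⁻¹ * ⁅a * (a⁻¹ * F a), b * (b⁻¹ * F b)⁆ ∈ Y) : ⁅a, b⁆ ∈ Wf k Y := by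
  rw [mw, cm k]
  exact e

theorem cw' {Y : Subgroup H} [Y.Normal] {a b : H} (e : ⁅a, b⁆ ∈ Wf k Y) :
    ⁅a, b⁆⁻¹ * ⁅F a, b * (b⁻¹ * F b)⁆ ∈ Y := by
  rwa [mw, cm k, mul_inv_cancel_left] at e

theorem cb {a b : H} (e : ⁅a * (a⁻¹ * F a), b * (b⁻¹ * F b)⁆ = ⁅a, b⁆) : ⁅a, b⁆ ∈ Wf k ⊥ :=
  cw k (by rw [e, inv_mul_cancel]; exact one_mem _)

attribute [irreducible] Wf

omit k in
theorem h01 : (h 0).co 1 = 0 ∧ (h 1).co 0 = 0 :=
  ⟨(hm (j := 0) (ks := [1]) (by decide)) 1 (by simp), (hm (j := 1) (ks := [0]) (by decide)) 0 (by simp)⟩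

end Inn

open Inn in
theorem inn (k : Sat 3 u) {F : V → V} (hF : Fa u ⊤ F) (x : Xi F 1 1) : ∃ s, ∀ a, F a = s * a * s⁻¹ := by
  have A := hF.au
  have a0 : (h 0)⁻¹ * F (h 0) ∈ Z6 := x0 (by rw [(x _).1, one_mul]) (by rw [(x _).2, one_mul, h01.1])
  have a1 : (h 1)⁻¹ * F (h 1) ∈ Z6 := x1 (by rw [(x _).1, one_mul, h01.2]) (by rw [(x _).2, one_mul])
  have t0 : ∀ a, a ∈ Wf A Z6 := fun a => g01.mem (self A ch_Z6) ((mw A).2 a0) ((mw A).2 a1)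
  have q : ⁅h 0, h 1⁆ ∈ Wf A Z5 := cw A (i3 a0 a1)
  have qs : ⁅h 0, h 1⁆ ∈ Ph := cS
  have t3 : Ph ≤ Wf A Z5 := fun b hb => (upPh qs hb q3).mem (self A ch_Z5) q
  have t4 : Z5 ≤ Wf A Z4 := fun b hb => (g54 qs hb q3).mem (self A ch_Z4)
    (cw A (i4 qs ((mw A).1 q) a1).1) (cw A (i4 qs ((mw A).1 q) a0).2)
  have d1 := (n4 qs q3).2.2.1
  have e6 := cD1 (b := h 1) d1
  have e6' := n6 d1 (n4 qs q3).2.2.2
  have w6 := cw A (i6 d1 ((mw A).1 (t4 (D1_Z5 d1))) a1)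
  have t6 : Z4 ≤ Wf A Z3 := fun b hb => (upZ4 e6 hb e6').mem (self A ch_Z3) w6
  have e7 := cZ4 (b := h 1) e6
  have e7' := n7 e6 e6'
  have w7 := cw A (i7 e6 ((mw A).1 w6) a1)
  have t7 : Z3 ≤ Wf A Z2 := fun b hb => (upZ3 e7 hb e7').mem (self A ch_Z2) w7
  have e8 := cZ3 (b := h 0) e7
  have e8' := n8 e7 e7'
  have w8 := cw A (i8 e7 ((mw A).1 w7) a0)
  have t8 : Z2 ≤ Wf A Z1 := fun b hb => (upZ2 e8 hb e8').mem (self A ch_Z1) w8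
  have w9 := cb A (i9 e8 ((mw A).1 w8) a1)
  have t9 : Z1 ≤ Wf A ⊥ := fun b hb => (upZ1 (cZ2 e8) hb (n9 e8 e8')).mem bot_le w9
  have h2 : h 2 ∈ C3 := hm (by decide)
  have h2' : h 2 ∉ Ph := hn (by decide) (by decide)
  have w2 : h 2 ∈ Wf A Ph := (mw A).2 (Z5_Ph (i2 (ch_C3.inv F A _ h2) a0
    (cw' A (t4 (cZ6 (b := h 0) (C3_Z6 h2))))))
  have t2 : Z6 ≤ Wf A Ph := fun b hb => (upZ6 (C3_Z6 h2) hb h2').mem (self A ch_Ph) w2
  refine inner_of_chain k hF (fun i => [⊤, Z6, Ph, Z5, Z4, Z3, Z2, Z1].getD i ⊥) 8 rfl rfl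
    (fun i hi => ?_) fun i hi => ?_
  · match i, hi with
    | 0, _ => exact fun a _ => (mw A (Y := Z6)).1 (t0 a)
    | 1, _ => exact fun a ha => (mw A (Y := Ph)).1 (t2 ha)
    | 2, _ => exact fun a ha => (mw A (Y := Z5)).1 (t3 ha)
    | 3, _ => exact fun a ha => (mw A (Y := Z4)).1 (t4 ha)
    | 4, _ => exact fun a ha => (mw A (Y := Z3)).1 (t6 ha)
    | 5, _ => exact fun a ha => (mw A (Y := Z2)).1 (t7 ha)
    | 6, _ => exact fun a ha => (mw A (Y := Z1)).1 (t8 ha)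
    | 7, _ => exact fun a ha => (mw A (Y := ⊥)).1 (t9 ha)
  · match i, hi with
    | 0, _ => exact le_top
    | 1, _ => exact Ph_Z6
    | 2, _ => exact Z5_Ph
    | 3, _ => exact Z4_Z5
    | 4, _ => exact Z3_Z4
    | 5, _ => exact Z2_Z3
    | 6, _ => exact Z1_Z2
    | 7, _ => exact bot_le

end Cfsg.Agent.TH3
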