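import Cfsg.Agent.TH3.Mov
import Cfsg.Agent.TH3.Inn

set_option autoImplicit false
set_option linter.unusedSectionVars false

namespace Cfsg.Agent.TH3

open FK
open RFS (Au)
open SR3 (nm ce St)
open scoped commutatorElement

theorem Chi.z3 : (∀ e : ZMod 3, -1 = -1 * e → e = 1) ∧ (¬ (1 : ZMod 3) = -1) ∧ ∀ e : ZMod 3, e ≠ 0 → e ≠ 1 → e = -1 := by
  decide

variable {G : Type*} [Group G] [Finite G] [Fact (Nat.Prime 3)] {u : V →* G} {E T : Subgroup V} {L : Subgroup G}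

namespace Chi

theorem key (k : Sat 3 u) {f : V → V} {a b : ZMod 3} (hf : Fa u E1 f) (mx : Mx 8 Z2 f ((a, 0), (0, b))) :
    ∃ F e₀ e₁, Fa u ⊤ F ∧ e₀ ≠ 0 ∧ Xi F e₀ e₁ ∧ b = a * e₁ ∧ ∃ c ∈ Z1, c.co 9 = 1 ∧ (F c).co 9 = b := by
  have m8 : ∀ x ∈ Z2, (f x).co 8 = x.co 8 * a := fun x hx => by
    have := congrArg Prod.fst (mx x hx)
    simpa [ap] using this
  have m9 : ∀ x ∈ Z2, (f x).co 9 = x.co 9 * b := fun x hx => by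
    have := congrArg Prod.snd (mx x hx)
    simpa [ap] using this
  have i2 := ch1_Z2.inv f hf.au
  obtain ⟨F, hF, e2, e1⟩ := flag k (A := E1) (B₀ := ⊥) (B₁ := Z1) (B₂ := Z2) (Nm.of_normal _) bot_le Z1_Z2 Z2_E1
    (Nm.of_normal _) (fun s x hx => Subgroup.mem_bot.2 (commutatorElement_eq_one_iff_mul_comm.2 (cZ1 hx).symm))
    (fun s x hx => SR3.comm_symm (cZ2 hx)) hf
    (fun x hx => by rw [Subgroup.mem_bot.1 hx, hf.au.one]; exact one_mem _)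
    (fun x hx => z21 (i2 x (Z1_Z2 hx)) (by rw [m8 x (Z1_Z2 hx), hx 8 (by decide), zero_mul])) i2
  obtain ⟨e₀, e₁, n0, -, xi⟩ := xi_ex hF.au
  have h8 : h 8 ∈ Z2 := hm (by decide)
  have c1 : ⁅h 8, h 1⁆ ∈ Z1 := cZ2 h8
  have c9 : ⁅h 8, h 1⁆.co 9 = 1 := by rw [pr2 h8, h_co (by decide), h_co (by decide), mul_one]
  have f9 : (F ⁅h 8, h 1⁆).co 9 = b := by
    rw [← inv_mul_eq_one.1 (Subgroup.mem_bot.1 (e1 _ c1)), m9 _ (Z1_Z2 c1), c9, one_mul]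
  have f8 : (F (h 8)).co 8 = a := by
    have := (co89 (i2 _ h8) (Z1_Z2 (e2 _ h8))).1
    rwa [mul_inv_cancel_left, e2 _ h8 8 (by decide), add_zero, m8 _ h8, h_co (by decide), one_mul] at this
  refine ⟨F, e₀, e₁, hF, n0, xi, ?_, _, c1, c9, f9⟩
  rw [← f9, hF.au.map_comm trivial trivial, pr2 (ch_Z2.inv F hF.au _ h8), f8, (xi _).2, h_co (by decide), mul_one]

/-- matrices of automorphisms of `E1` on `Z2` -/
def RR (u : V →* G) (m : Mt) : Prop := ∃ f, Fa u E1 f ∧ Mx 8 Z2 f m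

theorem RR_cp (m n : Mt) (a : RR u m) (b : RR u n) : RR u (cp m n) :=
  let ⟨_, hf, x⟩ := a
  let ⟨g, hg, y⟩ := b
  ⟨_, hf.comp hg, x.comp y (ch1_Z2.inv g hg.au)⟩

theorem RR_A : RR u mA := ⟨_, Fa.conj u (h 1) (Nm.of_normal E1 _), mx_cj1⟩

end Chi

theorem chi1 (k : Sat 3 u) (m : M1 u) : ∃ F, Fa u ⊤ F ∧ Xi F (-1) 1 := by
  obtain ⟨f, hf, n9⟩ := m
  have i2 := ch1_Z2.inv f hf.au
  obtain ⟨m, mx, inj⟩ := mx2 (hf.au.res Z2_E1 i2)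
  have h9 : h 9 ∈ Z2 := hm (by decide)
  obtain ⟨g, hg, y⟩ := gl1 (Chi.RR u) Chi.RR_cp Chi.RR_A ⟨f, hf, mx⟩ inj fun e => n9 (z21 (i2 _ h9) (by
    have := congrArg Prod.fst (mx _ h9)
    have z : (h 9).co 8 = 0 := (hm (by decide) : h 9 ∈ Z1) 8 (by decide)
    simpa [ap, e, z] using this))
  obtain ⟨F, e₀, e₁, hF, n0, xi, e, c, c1, c9, f9⟩ := Chi.key k hg y
  obtain rfl : e₁ = 1 := Chi.z3.1 _ e
  refine ⟨F, hF, ?_⟩
  have n1 : e₀ ≠ 1 := by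
    rintro rfl
    obtain ⟨s, hs⟩ := inn k hF xi
    rw [hs, ← cZ1 c1, mul_inv_cancel_right, c9] at f9
    exact Chi.z3.2.1 f9
  obtain rfl : e₀ = -1 := Chi.z3.2.2 _ n0 n1
  exact xi

theorem chi3 (k : Sat 3 u) (m : M3 u) : ∃ F e, Fa u ⊤ F ∧ Xi F e (-1) := by
  obtain ⟨f, m, hf, mx, e4⟩ := tri_aut k m
  obtain ⟨g, hg, y⟩ := gl2 (Chi.RR u) Chi.RR_cp Chi.RR_A ⟨f, hf, mx⟩ e4
  obtain ⟨F, e₀, e₁, hF, -, xi, e, -⟩ := Chi.key k hg y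
  rw [one_mul] at e
  exact ⟨F, e₀, hF, e ▸ xi⟩

end Cfsg.Agent.TH3
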