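import Cfsg.Agent.FK.FF
import Cfsg.Agent.FK.Fus

/-! Project TH3: generic definitions (on top of the kit FK, `p = 3`).  See `notes/TH3.md`. -/

set_option autoImplicit false
set_option linter.unusedSectionVars false

namespace Cfsg.Agent.TH3

open FK
open SR3 (nm ce St)
open scoped commutatorElement

variable {H G : Type*} [Group H] [Group G]

/-- `b ∈ ⟨a⟩ B` (when `a ^ 3 ∈ B`) -/
def L3 (a b : H) (B : Subgroup H) : Prop := b ∈ B ∨ a⁻¹ * b ∈ B ∨ a * b ∈ B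

/-- `c ∈ ⟨a, b⟩ B` -/
def P9 (a b c : H) (B : Subgroup H) : Prop := L3 a c B ∨ L3 a (b⁻¹ * c) B ∨ L3 a (b * c) B

section l3
variable {a b c d : H} {B C : Subgroup H}

theorem L3.mono (h : L3 a b B) (k : B ≤ C) : L3 a b C := h.imp (@k _) (.imp (@k _) (@k _))

theorem P9.mono (h : P9 a b c B) (k : B ≤ C) : P9 a b c C :=
  h.imp (·.mono k) (.imp (·.mono k) (·.mono k))

/-- `⟨a⟩ B ≤ C` -/
theorem L3.mem (h : L3 a b B) (k : B ≤ C) (ha : a ∈ C) : b ∈ C :=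
  h.elim (@k _) fun h => h.elim (fun h => (mul_mem_cancel_left (inv_mem ha)).1 (k h))
    fun h => (mul_mem_cancel_left ha).1 (k h)

theorem P9.mem (h : P9 a b c B) (k : B ≤ C) (ha : a ∈ C) (hb : b ∈ C) : c ∈ C :=
  h.elim (·.mem k ha) fun h => h.elim (fun h => (mul_mem_cancel_left (inv_mem hb)).1 (h.mem k ha))
    fun h => (mul_mem_cancel_left hb).1 (h.mem k ha)

/-- intersect with a subgroup containing `a` and `b` -/
theorem L3.inf (h : L3 a b B) (ha : a ∈ C) (hb : b ∈ C) : L3 a b (B ⊓ C) :=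
  h.imp (⟨·, hb⟩) (.imp (⟨·, C.mul_mem (C.inv_mem ha) hb⟩) (⟨·, C.mul_mem ha hb⟩))

theorem P9.inf (h : P9 a b c B) (ha : a ∈ C) (hb : b ∈ C) (hc : c ∈ C) : P9 a b c (B ⊓ C) :=
  h.imp (·.inf ha hc) (.imp (·.inf ha (mul_mem (inv_mem hb) hc)) (·.inf ha (mul_mem hb hc)))

theorem L3.self (a : H) (B : Subgroup H) : L3 a a B := .inr (.inl (by simp))

theorem L3.ex (h : L3 a b B) : ∃ i : ℤ, ∃ e ∈ B, b = a ^ i * e :=
  h.elim (fun h => ⟨0, b, h, by simp⟩) fun h => h.elim (fun h => ⟨1, _, h, by simp⟩) fun h => ⟨-1, _, h, by simp⟩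

theorem L3.of_ex (h3 : a ^ 3 ∈ B) (i : ℤ) {e : H} (he : e ∈ B) : L3 a (a ^ i * e) B := by
  have k : ∀ j : ℤ, a ^ (3 * j) * e ∈ B := fun j => by
    rw [zpow_mul]; exact mul_mem (zpow_mem (by simpa using h3) j) he
  obtain ⟨j, rfl | rfl | rfl⟩ : ∃ j, i = 3 * j ∨ i = 3 * j + 1 ∨ i = 3 * j - 1 := ⟨(i + 1) / 3, by omega⟩
  · exact .inl (k j)
  · exact .inr (.inl (by convert k j using 1; group))
  · exact .inr (.inr (by convert k j using 1; group))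

/-- `⟨a⟩ B` as a subgroup -/
theorem L3_iff [Finite H] (h3 : a ^ 3 ∈ B) (hn : Nm B a) : L3 a b B ↔ b ∈ B ⊔ Subgroup.zpowers a := by
  refine ⟨fun h => h.mem le_sup_left (Subgroup.mem_sup_right (Subgroup.mem_zpowers a)), fun h => ?_⟩
  have n : a ∈ nm B := SR3.mem_nm_of_conj hn
  obtain ⟨e, he, i, rfl⟩ := (SR3.mem_sup_zpowers n).1 h
  have := L3.of_ex h3 i (SR3.conj_mem (inv_mem (zpow_mem n i)) he)
  convert this using 1
  group

/-- `⟨a⟩ B = ⟨b⟩ B` if `b ∈ ⟨a⟩ B ∖ B` -/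
theorem L3.swap [B.Normal] (h : L3 a b B) (hb : b ∉ B) : L3 b a B :=
  h.elim (absurd · hb) fun h => h.elim (fun h => .inr (.inl (by simpa using inv_mem h)))
    fun h => .inr (.inr (by simpa [mul_assoc] using Subgroup.Normal.conj_mem ‹_› _ h b))

theorem L3.trans [Finite H] [B.Normal] (h3 : a ^ 3 ∈ B) (h : L3 a b B) (k : L3 b c B) : L3 a c B :=
  (L3_iff h3 (.of_normal B a)).2 (k.mem le_sup_left ((L3_iff h3 (.of_normal B a)).1 h))

end l3

/-- `O_p(F) = 1` -/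
def Cf (u : H →* G) : Prop := (groupFusionSystem u.range).core = ⊥

/-- `T` is strongly closed -/
def SC (u : H →* G) (T : Subgroup H) : Prop := ∀ a ∈ T, ∀ b g, g * u a * g⁻¹ = u b → b ∈ T

/-- the trace of a weakly normal subsystem over `T`: `K A` is the group inducing its automorphisms of `A` -/
structure Nrm (p : ℕ) (u : H →* G) (T : Subgroup H) (K : Subgroup H → Subgroup G) : Prop where
  sc : SC u T
  inn : ∀ A ≤ T, ∀ s ∈ T, Nm A s → u s ∈ K A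
  nor : ∀ A ≤ T, nm (A.map u) ≤ nm (K A)
  res : ∀ A ≤ T, ∀ B ≤ A, ∀ g ∈ K A, g ∈ nm (B.map u) → g ∈ K B
  syl : ∀ A ≤ T, (∀ a ∈ A, ∀ s ∈ T, a * s = s * a) → ∀ g ∈ K A, g ^ p ∈ ce (A.map u) → g ∈ ce (A.map u)

/-- `f`, read through `ι`, is a morphism of `F` on `X` -/
def Mo {Ω : Type*} [Group Ω] {S : Subgroup Ω} (F : FusionSystem S) (ι : H →* Ω) (X : Subgroup H) (f : H → H) : Prop :=
  ∃ φ : Ω → Ω, H91.M F (X.map ι) φ ∧ ∀ a ∈ X, φ (ι a) = ι (f a)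

/-- 2 × 2 matrices over `ZMod 3`: the images of `(1, 0)` and `(0, 1)` -/
abbrev P2 := ZMod 3 × ZMod 3
abbrev Mt := P2 × P2

def ap (m : Mt) (v : P2) : P2 := (v.1 * m.1.1 + v.2 * m.2.1, v.1 * m.1.2 + v.2 * m.2.2)

/-- `m` after `n` -/
def cp (m n : Mt) : Mt := (ap m n.1, ap m n.2)

theorem ap_cp (m n : Mt) (v : P2) : ap (cp m n) v = ap m (ap n v) := by
  simp only [ap, cp, Prod.mk.injEq]; constructor <;> ring

end Cfsg.Agent.TH3
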