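import Cfsg.Agent.TH3.Grp
import Cfsg.Agent.TH3.Gen

/-! Project TH3: the subgroups of the model.  See `notes/TH3.md`. -/

set_option autoImplicit false
set_option maxRecDepth 100000

namespace Cfsg.Agent.TH3

open RFS (Au)
open scoped commutatorElement

noncomputable def Z1 : Subgroup V := sg [0, 1, 2, 3, 4, 5, 6, 7, 8] 9 (by decide +kernel)
instance : Z1.Normal := sg_normal (by decide +kernel)
noncomputable def Z2 : Subgroup V := sg [0, 1, 2, 3, 4, 5, 6, 7] 8 (by decide +kernel)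
instance : Z2.Normal := sg_normal (by decide +kernel)
noncomputable def Z3 : Subgroup V := sg [0, 1, 2, 3, 4, 5, 6] 7 (by decide +kernel)
instance : Z3.Normal := sg_normal (by decide +kernel)
noncomputable def Z4 : Subgroup V := sg [0, 1, 2, 3, 4, 5] 6 (by decide +kernel)
instance : Z4.Normal := sg_normal (by decide +kernel)
noncomputable def D1 : Subgroup V := sg [0, 1, 2, 3, 4] 5 (by decide +kernel)
instance : D1.Normal := sg_normal (by decide +kernel)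
noncomputable def Z5 : Subgroup V := sg [0, 1, 2, 3] 4 (by decide +kernel)
instance : Z5.Normal := sg_normal (by decide +kernel)
noncomputable def Ph : Subgroup V := sg [0, 1, 2] 3 (by decide +kernel)
instance : Ph.Normal := sg_normal (by decide +kernel)
noncomputable def Z6 : Subgroup V := sg [0, 1] 2 (by decide +kernel)
instance : Z6.Normal := sg_normal (by decide +kernel)
noncomputable def E2 : Subgroup V := sg [0] 1 (by decide +kernel)
instance : E2.Normal := sg_normal (by decide +kernel)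
noncomputable def E1 : Subgroup V := sg [1] 2 (by decide +kernel)
instance : E1.Normal := sg_normal (by decide +kernel)
noncomputable def C3 : Subgroup V := sg [0, 1, 3] 4 (by decide +kernel)
instance : C3.Normal := sg_normal (by decide +kernel)
noncomputable def C4 : Subgroup V := sg [0, 1, 3, 4] 5 (by decide +kernel)
instance : C4.Normal := sg_normal (by decide +kernel)
noncomputable def D2 : Subgroup V := sg [0, 1, 2, 3, 5] 6 (by decide +kernel)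
instance : D2.Normal := sg_normal (by decide +kernel)

theorem le_of_sub {ks ls : List ℕ} (e : ∀ k ∈ ks, k ∈ ls) {a : V} (ha : ∀ k ∈ ls, a.co k = 0) :
    ∀ k ∈ ks, a.co k = 0 := fun k hk => ha k (e k hk)

theorem km {e ks : List ℕ} (k : ∀ i ∈ ks, e.getD i 0 = 0) : ∀ i ∈ ks, (kv e).co i = 0 := fun i hi => by
  by_cases c : i < 10
  · rw [kv, co_ofF _ c, k i hi]; rfl
  · exact dif_neg c

/-- use: `(hm (by decide) : h 4 ∈ E1)` -/
theorem hm {j : ℕ} {ks : List ℕ} (k : ∀ i ∈ ks, (List.replicate j 0 ++ [1]).getD i 0 = 0) :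
    ∀ i ∈ ks, (h j).co i = 0 := km k

theorem h_co {j : ℕ} (k : j < 10) : (h j).co j = 1 := by interval_cases j <;> rfl

/-- use: `(hn (by decide) (by decide) : h 1 ∉ E1)` -/
theorem hn {j : ℕ} {ks : List ℕ} (k : j < 10) (m : j ∈ ks) : ¬ ∀ i ∈ ks, (h j).co i = 0 := fun e =>
  absurd ((h_co k).symm.trans (e j m)) (by decide)

theorem Z1_Z2 : Z1 ≤ Z2 := fun _ ha => le_of_sub (by decide) ha
theorem Z2_Z3 : Z2 ≤ Z3 := fun _ ha => le_of_sub (by decide) ha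
theorem Z3_Z4 : Z3 ≤ Z4 := fun _ ha => le_of_sub (by decide) ha
theorem Z4_D1 : Z4 ≤ D1 := fun _ ha => le_of_sub (by decide) ha
theorem D1_Z5 : D1 ≤ Z5 := fun _ ha => le_of_sub (by decide) ha
theorem Z5_Ph : Z5 ≤ Ph := fun _ ha => le_of_sub (by decide) ha
theorem Ph_Z6 : Ph ≤ Z6 := fun _ ha => le_of_sub (by decide) ha
theorem Z6_E1 : Z6 ≤ E1 := fun _ ha => le_of_sub (by decide) ha
theorem Z6_E2 : Z6 ≤ E2 := fun _ ha => le_of_sub (by decide) ha
theorem Z4_D2 : Z4 ≤ D2 := fun _ ha => le_of_sub (by decide) ha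
theorem D2_Z5 : D2 ≤ Z5 := fun _ ha => le_of_sub (by decide) ha
theorem D1_C4 : D1 ≤ C4 := fun _ ha => le_of_sub (by decide) ha
theorem C4_C3 : C4 ≤ C3 := fun _ ha => le_of_sub (by decide) ha
theorem Z5_C3 : Z5 ≤ C3 := fun _ ha => le_of_sub (by decide) ha
theorem C3_Z6 : C3 ≤ Z6 := fun _ ha => le_of_sub (by decide) ha
theorem Z1_Z3 : Z1 ≤ Z3 := fun _ ha => le_of_sub (by decide) ha
theorem Z1_Z4 : Z1 ≤ Z4 := fun _ ha => le_of_sub (by decide) ha
theorem Z2_Z4 : Z2 ≤ Z4 := fun _ ha => le_of_sub (by decide) ha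
theorem Z2_D1 : Z2 ≤ D1 := fun _ ha => le_of_sub (by decide) ha
theorem Z3_D1 : Z3 ≤ D1 := fun _ ha => le_of_sub (by decide) ha
theorem Z4_Z5 : Z4 ≤ Z5 := fun _ ha => le_of_sub (by decide) ha
theorem Z4_C4 : Z4 ≤ C4 := fun _ ha => le_of_sub (by decide) ha
theorem Z4_C3 : Z4 ≤ C3 := fun _ ha => le_of_sub (by decide) ha
theorem Z3_C3 : Z3 ≤ C3 := fun _ ha => le_of_sub (by decide) ha
theorem D2_C3 : D2 ≤ C3 := fun _ ha => le_of_sub (by decide) ha
theorem D1_C3 : D1 ≤ C3 := fun _ ha => le_of_sub (by decide) ha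
theorem D1_E1 : D1 ≤ E1 := fun _ ha => le_of_sub (by decide) ha
theorem Z2_E1 : Z2 ≤ E1 := fun _ ha => le_of_sub (by decide) ha
theorem Z3_E2 : Z3 ≤ E2 := fun _ ha => le_of_sub (by decide) ha
theorem Z4_E2 : Z4 ≤ E2 := fun _ ha => le_of_sub (by decide) ha
theorem C3_E1 : C3 ≤ E1 := fun _ ha => le_of_sub (by decide) ha
theorem C3_E2 : C3 ≤ E2 := fun _ ha => le_of_sub (by decide) ha
theorem C4_E1 : C4 ≤ E1 := fun _ ha => le_of_sub (by decide) ha
theorem C4_E2 : C4 ≤ E2 := fun _ ha => le_of_sub (by decide) ha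
theorem D1_Z6 : D1 ≤ Z6 := fun _ ha => le_of_sub (by decide) ha
theorem Z5_Z6 : Z5 ≤ Z6 := fun _ ha => le_of_sub (by decide) ha
theorem D2_E2 : D2 ≤ E2 := fun _ ha => le_of_sub (by decide) ha
theorem Z3_D2 : Z3 ≤ D2 := fun _ ha => le_of_sub (by decide) ha

def B5 (a b : V) : ZMod 3 :=
  ((((-(a.co 2 * b.co 0)) + (a.co 3 * b.co 0)) + (a.co 0 * b.co 2)) + (-(a.co 0 * b.co 3)))
def B6 (a b : V) : ZMod 3 :=
  ((((((((-(a.co 2 * b.co 0)) + (-(a.co 3 * b.co 0))) + (a.co 4 * b.co 0)) + (a.co 0 * b.co 2)) + (-(a.co 3 * b.co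
    2))) + (a.co 0 * b.co 3)) + (a.co 2 * b.co 3)) + (-(a.co 0 * b.co 4)))
def B7 (a b : V) : ZMod 3 :=
  ((((((((-(a.co 3 * b.co 0)) + (-(a.co 3 * b.co 2))) + (-(a.co 4 * b.co 2))) + (a.co 0 * b.co 3)) + (a.co 2 * b.co
    3)) + (-(a.co 4 * b.co 3))) + (a.co 2 * b.co 4)) + (a.co 3 * b.co 4))
def P8c (a : V) (x y z : ZMod 3) : ZMod 3 :=
  (((((a.co 0 * x) + (-(a.co 3 * x))) + (a.co 4 * x)) + (-(a.co 3 * y))) + (-(a.co 0 * z)))
def P9c (a : V) (x y z : ZMod 3) : ZMod 3 :=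
  (((((-(a.co 2 * x)) + (-(a.co 4 * x))) + (a.co 3 * y)) + (a.co 4 * y)) + (a.co 3 * z))
def Q8 (a : V) : ZMod 3 :=
  (((((((a.co 0 * a.co 0) * a.co 2) + (-(a.co 3))) + ((a.co 0 * a.co 0) * a.co 3)) + (-((a.co 0 * a.co 2) * a.co
    3))) + ((a.co 2 * a.co 3) * a.co 3)) + (-((a.co 0 * a.co 2) * a.co 4)))
def Q9 (a : V) : ZMod 3 :=
  (((((((((((a.co 0 * a.co 2) * a.co 2) + (-(a.co 3))) + ((a.co 0 * a.co 2) * a.co 3)) + ((a.co 0 * a.co 3) * a.co
    3)) + ((a.co 2 * a.co 3) * a.co 3)) + a.co 4) + (-((a.co 0 * a.co 3) * a.co 4))) + ((a.co 2 * a.co 3) * a.co 4))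
    + ((a.co 3 * a.co 3) * a.co 4)) + ((a.co 0 * a.co 4) * a.co 4))

def Bl (a b : V) : Prop := B5 a b = 0 ∧ B6 a b = 0 ∧ B7 a b = 0
def Cd (a d : V) : Prop := P8c a (d.co 5) (d.co 6) (d.co 7) = 0 ∧ P9c a (d.co 5) (d.co 6) (d.co 7) = 0
def O3 (a : V) : Prop := Q8 a = 0 ∧ Q9 a = 0
def Dt (a b : V) : Prop := a.co 3 * b.co 1 + -(a.co 1 * b.co 3) = 0

/-- the third family of candidates -/
structure Tri (E : Subgroup V) : Prop where
  le : E ≤ E1
  ex : ∃ y ∈ FK.Om 3 E ⊥, ∃ y' ∈ FK.Om 3 E ⊥, y ∉ D1 ∧ ¬ L3 y y' D1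

/-- the action on `V / E2` and `V / E1` -/
def Xi (F : V → V) (e₀ e₁ : ZMod 3) : Prop := ∀ a, (F a).co 0 = e₀ * a.co 0 ∧ (F a).co 1 = e₁ * a.co 1

/-- the matrix of `f` on the coordinates `k`, `k + 1` of `B` -/
def Mx (k : ℕ) (B : Subgroup V) (f : V → V) (m : Mt) : Prop :=
  ∀ b ∈ B, ((f b).co k, (f b).co (k + 1)) = ap m (b.co k, b.co (k + 1))

variable {G : Type*} [Group G]

def M1 (u : V →* G) : Prop := ∃ f, FK.Fa u E1 f ∧ f (h 9) ∉ Z1
def M2 (u : V →* G) : Prop := ∃ f, FK.Fa u E2 f ∧ f (h 8) ∉ Z2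
def M3 (u : V →* G) : Prop := ∃ E, FK.Pr 3 u E (SR3.nm (E.map u)) ∧ Tri E

end Cfsg.Agent.TH3
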