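import Cfsg.Agent.TH3.Gen

set_option autoImplicit false
set_option linter.unusedSectionVars false

namespace Cfsg.Agent.TH3

open FK
open RFS (Au)
open SR3 (nm ce St)
open scoped commutatorElement

namespace Tv

variable {H : Type*} [Group H] {B : Subgroup H}

/-- representatives -/
def rp (a : H) (i : ZMod 3) : H := if i = 0 then 1 else if i = 1 then a⁻¹ else a

theorem l3_rp {a b : H} (h : L3 a b B) : ∃ i, rp a i * b ∈ B := by
  rcases h with h | h | h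
  · exact ⟨0, by simpa [rp] using h⟩
  · exact ⟨1, by rw [rp, if_neg (by decide), if_pos rfl]; exact h⟩
  · exact ⟨2, by rw [rp, if_neg (by decide), if_neg (by decide)]; exact h⟩

theorem p9_rp {a b c : H} (h : P9 a b c B) :
    ∃ i : ZMod 3 × ZMod 3, rp a i.1 * rp b i.2 * c ∈ B := by
  rcases h with h | h | h <;> obtain ⟨i, hi⟩ := l3_rp h
  · exact ⟨(i, 0), by simpa [rp] using hi⟩
  · refine ⟨(i, 1), ?_⟩
    have e : rp b 1 = b⁻¹ := by rw [rp, if_neg (by decide), if_pos rfl]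
    rw [mul_assoc]; exact e ▸ hi
  · refine ⟨(i, 2), ?_⟩
    have e : rp b 2 = b := by rw [rp, if_neg (by decide), if_neg (by decide)]
    rw [mul_assoc]; exact e.symm ▸ hi

end Tv

variable {H G : Type*} [Group H] [Finite H] [Group G] [Finite G] [Fact (Nat.Prime 3)] {u : H →* G}
  {E V₁ V₂ W B C D : Subgroup H} {L : Subgroup G}

namespace Tv

theorem exists_lam {I : Type*} [Inhabited I] (r : I → H) (g : H → H)
    (h : ∀ w ∈ V₂, ∃ i, r i * g w ∈ W) :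
    ∃ lam : H → I, ∀ v ∈ V₂, ∀ w ∈ V₂, lam v = lam w → (g v)⁻¹ * g w ∈ W := by
  have k : ∀ w, ∃ i, w ∈ V₂ → r i * g w ∈ W := fun w => by
    by_cases hw : w ∈ V₂
    · exact (h w hw).imp fun _ k _ => k
    · exact ⟨default, fun k => absurd k hw⟩
  choose lam hl using k
  refine ⟨lam, fun v hv w hw e => ?_⟩
  have := mul_mem (inv_mem (hl v hv)) (e ▸ hl w hw : r (lam v) * g w ∈ W)
  convert this using 1
  group

theorem nm_pow {x : H} (h : Nm B x) (n : ℕ) : Nm B (x ^ n) := by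
  induction n with
  | zero => intro e he; simpa using he
  | succ n ih => rw [pow_succ]; exact ih.mul h

theorem cz_mul {x y a : H} (h : Nm B x) (hx : ⁅x, a⁆ ∈ B) (hy : ⁅y, a⁆ ∈ B) : ⁅x * y, a⁆ ∈ B := by
  rw [SR3.comm_mul_left]; exact mul_mem (h _ hy) hx

theorem cz_pow {x a : H} (h : Nm B x) (hx : ⁅x, a⁆ ∈ B) (n : ℕ) : ⁅x ^ n, a⁆ ∈ B := by
  induction n with
  | zero => simp
  | succ n ih => rw [pow_succ']; exact cz_mul h hx ih

theorem dvd_of {Q : Type*} [Group Q] {a : Q} (h3 : a ^ 3 = 1) (h : a ≠ 1) {n : ℤ} (e : a ^ n = 1) :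
    (3 : ℤ) ∣ n := by
  have o : orderOf a = 3 := orderOf_eq_prime h3 h
  have := orderOf_dvd_iff_zpow_eq_one.2 e
  rwa [o] at this

theorem indep {Q : Type*} [Group Q] {a b : Q} (a3 : a ^ 3 = 1) (b3 : b ^ 3 = 1) (h : a ≠ 1)
    (k : ¬ L3 a b ⊥) {m n : ℤ} (e : b ^ m = a ^ n) : (3 : ℤ) ∣ m ∧ (3 : ℤ) ∣ n := by
  have b3' : b ^ (3 : ℤ) = 1 := by exact_mod_cast b3
  have hm : (3 : ℤ) ∣ m := by
    by_contra hm
    apply k
    obtain ⟨t, ht⟩ : ∃ t, m * m = 3 * t + 1 := by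
      obtain ⟨j, rfl | rfl⟩ : ∃ j, m = 3 * j + 1 ∨ m = 3 * j - 1 := ⟨(m + 1) / 3, by omega⟩
      · exact ⟨3 * j * j + 2 * j, by ring⟩
      · exact ⟨3 * j * j - 2 * j, by ring⟩
    have e1 : b = a ^ (n * m) * 1 := by
      rw [mul_one, zpow_mul, ← e, ← zpow_mul, ht, zpow_add, zpow_mul, b3', one_zpow, one_mul, zpow_one]
    rw [e1]
    exact L3.of_ex (B := ⊥) (by simpa using a3) _ (one_mem _)
  refine ⟨hm, dvd_of a3 h ?_⟩
  obtain ⟨t, rfl⟩ := hm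
  rw [← e, zpow_mul, b3', one_zpow]

theorem val_eq {i j : ZMod 3} (h : (3 : ℤ) ∣ (j.val : ℤ) - i.val) : i = j := by
  have h1 := ZMod.val_lt i
  have h2 := ZMod.val_lt j
  exact ZMod.val_injective 3 (by omega)

theorem exists_q.{w} {H : Type w} [Group H] [Finite H] (E : Subgroup H) :
    ∃ (Q : Type w) (_ : Group Q) (φ : FF.NE E →* Q),
    ∀ n : FF.NE E, φ n = 1 ↔ (n : H) ∈ E := by
  have : (E.subgroupOf (FF.NE E)).Normal := ⟨fun a ha g => g.2 _ ha⟩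
  exact ⟨FF.NE E ⧸ E.subgroupOf (FF.NE E), inferInstance, QuotientGroup.mk' _, fun n =>
    QuotientGroup.eq_one_iff n⟩

theorem off3 (h : Pr 3 u E L) (i1 : Iv u E L V₁) {x : H} (hx : Nm E x) (hx' : x ∉ E) (h3 : x ^ 3 ∈ E)
    {lam : H → ZMod 3} (hl : ∀ v ∈ V₂, ∀ w ∈ V₂, lam v = lam w → ⁅x, v⁻¹ * w⁆ ∈ V₁) :
    Off 3 E V₁ V₂ (fun i : ZMod 3 => x ^ i.val) lam := by
  refine ⟨fun i => nm_pow hx _, fun i j => ?_, fun i => ?_, fun i j e => ?_, ⟨1, ?_⟩,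
    fun v hv w hw e i => cz_pow (i1.nm_of h hx) (hl v hv w hw e) _⟩
  · rw [commutatorElement_eq_one_iff_commute.2 (Commute.pow_pow_self x _ _)]; exact one_mem _
  · rw [← pow_mul, mul_comm, pow_mul]; exact pow_mem h3 _
  · obtain ⟨Q, _, φ, hφ⟩ := exists_q E
    let y : FF.NE E := ⟨x, hx⟩
    have a3 : φ y ^ 3 = 1 := by rw [← map_pow]; exact (hφ _).2 h3
    have a1 : φ y ≠ 1 := fun k => hx' ((hφ _).1 k)
    have e' : φ ((y ^ i.val)⁻¹ * y ^ j.val) = 1 := (hφ _).2 e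
    refine val_eq (dvd_of a3 a1 ?_)
    rw [map_mul, map_inv, map_pow, map_pow] at e'
    rw [← e']; group
  · show x ^ (1 : ZMod 3).val ∉ E
    rw [show (1 : ZMod 3).val = 1 from rfl, pow_one]; exact hx'

theorem gen3 {x : H} (h3 : x ^ 3 ∈ E) {lam : H → ZMod 3}
    (b : Be 3 u E L V₁ V₂ (fun i : ZMod 3 => x ^ i.val) lam) (y : H) (hy : Nm E y) : L3 x y E := by
  obtain ⟨i, e, he, rfl⟩ := b.gen y hy
  have := L3.of_ex h3 (i.val : ℤ) he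
  rwa [zpow_natCast] at this

end Tv

open Tv

/-- transvections given by their axis -/
theorem tv_axis (h : Pr 3 u E L) (s : Sec 3 u E L V₁ V₂) {x v : H} (hx : Nm E x) (hx' : x ∉ E) (h3 : x ^ 3 ∈ E)
    (hv : ∀ w ∈ V₂, L3 v w W) (hW : ∀ a ∈ W, a ∈ V₂ → ⁅x, a⁆ ∈ V₁) :
    Al 3 u E L V₁ V₂ ∨ ∀ y, Nm E y → L3 x y E := by
  obtain ⟨lam, hl⟩ := exists_lam (rp v) (fun w => w) fun w hw => l3_rp (hv w hw)
  exact (h.ff s (off3 h s.i1 hx hx' h3 fun a ha b hb e =>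
    hW _ (hl a ha b hb e) (mul_mem (inv_mem ha) hb))).imp_right (gen3 h3)

/-- transvections given by their centre -/
theorem tv_centre (h : Pr 3 u E L) (s : Sec 3 u E L V₁ V₂) {x z : H} (hx : Nm E x) (hx' : x ∉ E) (h3 : x ^ 3 ∈ E)
    (hz : ∀ w ∈ V₂, L3 z ⁅x, w⁆ V₁) :
    Al 3 u E L V₁ V₂ ∨ ((∀ y, Nm E y → L3 x y E) ∧ ∃ w ∈ V₂, ⁅x, w⁆ ∉ V₁) := by
  by_cases k : ∀ w ∈ V₂, ⁅x, w⁆ ∈ V₁
  · exact .inl (h.red s.i1 s.i2 hx hx' k)
  push Not at k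
  obtain ⟨lam, hl⟩ := exists_lam (rp z) (fun w => ⁅x, w⁆) fun w hw => l3_rp (hz w hw)
  refine (h.ff s (off3 h s.i1 hx hx' h3 (lam := lam) fun a ha b hb e => ?_)).imp_right fun b => ⟨gen3 h3 b, k⟩
  have := s.i1.nm_of h (Nm.of_mem (inv_mem (s.i2.le ha))) _ (hl a ha b hb e)
  convert this using 1
  simp only [commutatorElement_def]; group

/-- the offender of order nine -/
theorem off9 (h : Pr 3 u E L) {s s' v v' : H} (n1 : Nm E s) (n2 : Nm E s') (p1 : s ^ 3 ∈ E) (p2 : s' ^ 3 ∈ E)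
    (c : ⁅s, s'⁆ ∈ E) (o1 : s ∉ E) (o2 : ¬ L3 s s' E) (i1 : Iv u E L V₁) (hv : ∀ w ∈ V₂, P9 v v' w W)
    (hW : ∀ a ∈ W, a ∈ V₂ → ⁅s, a⁆ ∈ V₁ ∧ ⁅s', a⁆ ∈ V₁) :
    ∃ lam : H → ZMod 3 × ZMod 3, Off 3 E V₁ V₂ (fun i : ZMod 3 × ZMod 3 => s' ^ i.2.val * s ^ i.1.val) lam := by
  obtain ⟨lam, hl⟩ := exists_lam (fun i : ZMod 3 × ZMod 3 => rp v i.1 * rp v' i.2) (fun w => w)
    fun w hw => p9_rp (hv w hw)
  obtain ⟨Q, _, φ, hφ⟩ := exists_q E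
  let y : FF.NE E := ⟨s, n1⟩
  let y' : FF.NE E := ⟨s', n2⟩
  have a3 : φ y ^ 3 = 1 := by rw [← map_pow]; exact (hφ _).2 p1
  have b3 : φ y' ^ 3 = 1 := by rw [← map_pow]; exact (hφ _).2 p2
  have a1 : φ y ≠ 1 := fun k => o1 ((hφ _).1 k)
  have cm : Commute (φ y) (φ y') := by
    rw [← commutatorElement_eq_one_iff_commute, ← map_commutatorElement]; exact (hφ _).2 c
  have nl : ¬ L3 (φ y) (φ y') ⊥ := by
    rintro (k | k | k)
    · exact o2 (.inl ((hφ y').1 k))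
    · exact o2 (.inr (.inl ((hφ (y⁻¹ * y')).1 (by rw [map_mul, map_inv]; exact k))))
    · exact o2 (.inr (.inr ((hφ (y * y')).1 (by rw [map_mul]; exact k))))
  have cp : ∀ i j : ℕ, Commute (φ y' ^ i) (φ y ^ j) := fun i j => cm.symm.pow_pow i j
  refine ⟨lam, fun i => (nm_pow n2 _).mul (nm_pow n1 _), fun i j => ?_, fun i => ?_, fun i j e => ?_,
    ⟨(1, 0), ?_⟩, fun a ha b hb e i => ?_⟩
  · refine (hφ ⁅y' ^ i.2.val * y ^ i.1.val, y' ^ j.2.val * y ^ j.1.val⁆).1 ?_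
    rw [map_commutatorElement, commutatorElement_eq_one_iff_commute]
    simp only [map_mul, map_pow]
    exact ((Commute.pow_pow_self _ _ _).mul_right (cp _ _)).mul_left
      ((cp _ _).symm.mul_right (Commute.pow_pow_self _ _ _))
  · refine (hφ ((y' ^ i.2.val * y ^ i.1.val) ^ 3)).1 ?_
    simp only [map_mul, map_pow]
    rw [(cp _ _).mul_pow, ← pow_mul, ← pow_mul, mul_comm _ 3, mul_comm _ 3, pow_mul, pow_mul, a3, b3]
    simp
  · have e' : φ ((y' ^ i.2.val * y ^ i.1.val)⁻¹ * (y' ^ j.2.val * y ^ j.1.val)) = 1 := (hφ _).2 e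
    simp only [map_mul, map_pow, map_inv] at e'
    rw [inv_mul_eq_one] at e'
    have e2 : φ y' ^ ((j.2.val : ℤ) - i.2.val) = φ y ^ ((i.1.val : ℤ) - j.1.val) := by
      calc φ y' ^ ((j.2.val : ℤ) - i.2.val)
          = (φ y' ^ i.2.val)⁻¹ * (φ y' ^ j.2.val * φ y ^ j.1.val) * (φ y ^ j.1.val)⁻¹ := by group
        _ = _ := by rw [← e']; group
    obtain ⟨k1, k2⟩ := indep a3 b3 a1 nl e2
    exact Prod.ext (val_eq k2).symm (val_eq k1)
  · show s' ^ (0 : ZMod 3).val * s ^ (1 : ZMod 3).val ∉ E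
    rw [show (1 : ZMod 3).val = 1 from rfl, show (0 : ZMod 3).val = 0 from rfl, pow_zero, pow_one, one_mul]
    exact o1
  · obtain ⟨k1, k2⟩ := hW _ (hl a ha b hb e) (mul_mem (inv_mem ha) hb)
    exact cz_mul (nm_pow (i1.nm_of h n2) _) (cz_pow (i1.nm_of h n2) k2 _) (cz_pow (i1.nm_of h n1) k1 _)

theorem ff9 (h : Pr 3 u E L) (t : Sec 3 u E L V₁ V₂) {s s' v v' : H} (n1 : Nm E s) (n2 : Nm E s') (p1 : s ^ 3 ∈ E)
    (p2 : s' ^ 3 ∈ E) (c : ⁅s, s'⁆ ∈ E) (o1 : s ∉ E) (o2 : ¬ L3 s s' E) (hv : ∀ w ∈ V₂, P9 v v' w W)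
    (hW : ∀ a ∈ W, a ∈ V₂ → ⁅s, a⁆ ∈ V₁ ∧ ⁅s', a⁆ ∈ V₁) :
    Al 3 u E L V₁ V₂ ∨ ∀ y, Nm E y → P9 s s' y E := by
  obtain ⟨lam, o⟩ := off9 h n1 n2 p1 p2 c o1 o2 t.i1 hv hW
  refine (h.ff t o).imp_right fun b y hy => ?_
  obtain ⟨⟨i, j⟩, e, he, rfl⟩ := b.gen y hy
  have k : ∀ e ∈ E, L3 s (s ^ i.val * e) E := fun e he => by
    have := L3.of_ex p1 (i.val : ℤ) he
    rwa [zpow_natCast] at this
  have hj := ZMod.val_lt j
  show P9 s s' (s' ^ j.val * s ^ i.val * e) E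
  generalize j.val = m at hj
  interval_cases m
  · exact .inl (by simpa using k e he)
  · refine .inr (.inl ?_)
    convert k e he using 1
    group
  · refine .inr (.inr ?_)
    convert k _ (mul_mem ((nm_pow n1 i.val).inv _ p2) he) using 1
    group

/-- relative centralizers with a condition on a power -/
theorem iv_czp (h : Pr 3 u E L) {D₁ D₂ D₃ : Subgroup H} (h1 : Iv u E L D₁) (h2 : Iv u E L D₂) (h3 : Iv u E L D₃)
    (n : ℕ) (e : ∀ a, a ∈ D ↔ a ∈ D₁ ∧ a ^ n = 1 ∧ ∀ b ∈ D₂, ⁅a, b⁆ ∈ D₃) : Iv u E L D := by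
  refine h.iv_of (fun a ha => h1.le ((e a).1 ha).1) fun f hf k a ha => ?_
  obtain ⟨a1, a2, a3⟩ := (e a).1 ha
  have aE := h1.le a1
  have pw : ∀ n : ℕ, f (a ^ n) = f a ^ n := fun n => by
    induction n with
    | zero => simpa using hf.one
    | succ n ih => rw [pow_succ, hf.mul _ (pow_mem aE n) _ aE, ih, pow_succ]
  refine (e _).2 ⟨k _ h1 a a1, by rw [← pw, a2, hf.one], fun b hb => ?_⟩
  obtain ⟨b, hb', rfl⟩ := (hf.res h2.le (k _ h2)).sur b hb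
  exact hf.map_comm aE (h2.le hb') ▸ k _ h3 _ (a3 b hb')

end Cfsg.Agent.TH3
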