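import Cfsg.Agent.TH3.Fa4
import Cfsg.Agent.TH3.Tv

set_option autoImplicit false
set_option linter.unusedSectionVars false

namespace Cfsg.Agent.TH3

open FK
open RFS (Au)
open SR3 (nm ce St)
open scoped commutatorElement

variable {G : Type*} [Group G] [Finite G] [Fact (Nat.Prime 3)] {u : V →* G} {E T : Subgroup V} {L : Subgroup G}

theorem ci1 (k : Pr 3 u E L) (l : E ≤ E1) (d : ¬ D1 ≤ E) : Tri E := by
  obtain ⟨x, hx, hx'⟩ := SetLike.not_le_iff_exists.1 d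
  have zE : Z2 ≤ E := fun z hz => k.cen z fun e he => cZ2E1 hz (l he)
  have zV : Z2 ≤ Om 3 E ⊥ := fun z hz => ⟨zE hz, Subgroup.mem_bot.2 (pD1 (Z2_D1 hz)), fun e he =>
    Subgroup.mem_bot.2 (commutatorElement_eq_one_iff_mul_comm.2 (cZ2E1 hz (l he)).symm)⟩
  have nD : ∀ a ∈ D1, Nm E a := fun a ha => Nm.of_comm fun e he => zE (cD1E1 ha (l he))
  have cD : ∀ a ∈ D1, ⁅x, a⁆ ∈ (⊥ : Subgroup V) := fun a ha =>
    Subgroup.mem_bot.2 (commutatorElement_eq_one_iff_mul_comm.2 (cD1D1 hx ha))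
  have nAl : ¬ Al 3 u E L ⊥ (Om 3 E ⊥) := fun a => by
    obtain ⟨L', -, k', i⟩ := a.normal Z2 bot_le zV
    exact hx' (k'.chain1 i (fun e he => cD1E1 hx (l he)) fun b hb => (cZ2E1 hb (D1_E1 hx)).symm)
  have nV : ¬ Om 3 E ⊥ ≤ D1 := fun m =>
    nAl (k.red k.iv_bot (k.iv_om k.iv_bot) (nD x hx) hx' fun v hv => cD v (m hv))
  obtain ⟨y, hy, hy'⟩ := SetLike.not_le_iff_exists.1 nV
  by_contra nT
  have hv : ∀ w ∈ Om 3 E ⊥, L3 y w D1 := fun w hw => by
    by_contra c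
    exact nT ⟨l, y, hy, w, hw, hy', c⟩
  have gen := (tv_axis k (k.sec_om k.iv_bot) (nD x hx) hx' (by rw [pD1 hx]; exact one_mem _) hv
    fun a ha _ => cD a ha).resolve_left nAl
  have cy : ∀ e ∈ E, y * e = e * y := fun e he =>
    (commutatorElement_eq_one_iff_mul_comm.1 (Subgroup.mem_bot.1 (hy.2.2 e he))).symm
  obtain ⟨r1, s, hs, s1, s2⟩ := rk (l hy.1) hx hy' fun a ha =>
    (gen a (nD a ha)).imp (cy _) (.imp (cy _) (cy _))
  have lE : ∀ e ∈ E, L3 y e D1 := fun e he => r1 e (l he) (by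
    rw [Subgroup.mem_bot.1 (hy.2.2 e he)]; exact one_mem _)
  have nS : Nm E s := Nm.of_comm fun e he => k.cen _ fun e' he' =>
    (Subgroup.mem_centralizer_singleton_iff.1 ((lE e' he').mem (C := Subgroup.centralizer {⁅s, e⁆})
      (fun a ha => Subgroup.mem_centralizer_singleton_iff.2 (cD1D1 ha (cE1E1 hs (l he))))
      (Subgroup.mem_centralizer_singleton_iff.2 (s2 e (l he) (lE e he))))).symm
  have y3 : y ^ 3 ∈ D1 := by rw [Subgroup.mem_bot.1 hy.2.1]; exact one_mem _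
  have iff := fun b => L3_iff (b := b) y3 (Nm.of_normal D1 y)
  exact s1 ((iff s).2 ((gen s nS).mem (fun e he => (iff e).1 (lE e he)) (Subgroup.mem_sup_left hx)))

end Cfsg.Agent.TH3
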