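import Cfsg.Agent.TH3.Fa4
import Cfsg.Agent.TH3.Tv

set_option autoImplicit false
set_option linter.unusedSectionVars false

namespace Cfsg.Agent.TH3

open FK
open RFS (Au)
open SR3 (nm ce St)
open scoped commutatorElement

variable {G : Type*} [Group G] [Finite G] [Fact (Nat.Prime 3)] {u : V →* G} {E T : Subgroup V} {L : Subgroup G}

theorem ci2a (k : Pr 3 u E L) (l : E ≤ E1) (d : D1 ≤ E) (n : E ≠ E1) : ∃ L', Pr 3 u E L' ∧ Iv u E L' Z2 := by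
  have s0 := k.sec_om k.iv_bot
  have nm1 : ∀ y ∈ E1, Nm E y := fun y hy => .of_comm fun e he => d (cE1E1 hy (l he))
  have cb : ∀ y ∈ E1, y ^ 3 ∈ E := fun y hy => d (Z2_D1 (pE1 hy))
  have cm : ∀ g ∈ Om 3 E ⊥, ∀ e ∈ E, e * g = g * e := fun g hg e he =>
    commutatorElement_eq_one_iff_mul_comm.1 (Subgroup.mem_bot.1 (hg.2.2 e he))
  have m5 : h 5 ∈ E := d (hm (by decide))
  have m6 : h 6 ∈ E := d (hm (by decide))
  have m7 : h 7 ∈ E := d (hm (by decide))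
  have m8 : h 8 ∈ E := d (hm (by decide))
  have m0 : h 0 ∈ E1 := hm (by decide)
  have m2 : h 2 ∈ E1 := hm (by decide)
  have m3 : h 3 ∈ E1 := hm (by decide)
  have m4 : h 4 ∈ E1 := hm (by decide)
  have vD : Om 3 E ⊥ ≤ D1 := fun g hg =>
    zD1 (cm g hg _ m5).symm (cm g hg _ m6).symm (cm g hg _ m7).symm (cm g hg _ m8).symm
  have zV : Z2 ≤ Om 3 E ⊥ := fun z hz => ⟨d (Z2_D1 hz), Subgroup.mem_bot.2 (pD1 (Z2_D1 hz)), fun e he =>
    Subgroup.mem_bot.2 (commutatorElement_eq_one_iff_mul_comm.2 (cZ2E1 hz (l he)).symm)⟩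
  have fin : ∀ U ≤ Z2, Al 3 u E L U (Om 3 E ⊥) → ∃ L', Pr 3 u E L' ∧ Iv u E L' Z2 := fun U hU a =>
    (a.normal Z2 hU zV).imp fun _ b => b.2
  obtain ⟨x, hx, hx'⟩ := SetLike.exists_of_lt (lt_of_le_of_ne l n)
  by_cases c : Om 3 E ⊥ ≤ Z2
  · exact ⟨L, k, le_antisymm c zV ▸ s0.i2⟩
  obtain ⟨a, ha, ha'⟩ := SetLike.not_le_iff_exists.1 c
  by_cases c1 : ∀ w ∈ Om 3 E ⊥, L3 a w Z2
  · refine (tv_axis k s0 (nm1 x hx) hx' (cb x hx) c1 fun b hb _ => Subgroup.mem_bot.2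
      (commutatorElement_eq_one_iff_mul_comm.2 (cZ2E1 hb hx).symm)).elim (fin _ bot_le) fun g => ?_
    have r := fun y hy => (g y (nm1 y hy)).imp (cm a ha _) (Or.imp (cm a ha _) (cm a ha _))
    exact (a1 (vD ha) hx ha' ⟨r _ m0, r _ m2, r _ m3, r _ m4⟩).elim
  push Not at c1
  obtain ⟨a', hb, hb'⟩ := c1
  by_cases c2 : E ≤ D1
  · refine (tv_centre (z := h 9) k s0 (nm1 _ m2) (fun e => hn (by decide) (by decide) (c2 e)) (cb _ m2) fun w hw =>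
      upZ1 (hm (by decide)) (cC4C4 (hm (by decide)) (D1_C4 (vD hw))) h9_ne).elim (fin _ bot_le) fun g => ?_
    exact (h20 ((g.1 _ (nm1 _ m0)).mono c2)).elim
  obtain ⟨y, hy, hy'⟩ := SetLike.not_le_iff_exists.1 c2
  have ly : ∀ w ∈ E, L3 y w D1 := fun w hw => a2 (vD ha) (vD hb) (l hy) (l hw) ha' hb' hy' (cm a ha _ hy)
    (cm a' hb _ hy) (cm a ha _ hw) (cm a' hb _ hw)
  have UZ : ⁅E, E⁆ ≤ Z2 := Subgroup.commutator_le.2 fun p hp q hq => l3bl (l hy) (l hp) (l hq) (ly p hp) (ly q hq)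
  have iU := k.iv_comm k.iv_top k.iv_top
  obtain ⟨s, hs, s1⟩ : ∃ s ∈ ⁅E, E⁆, s ≠ 1 := by
    by_contra e
    push Not at e
    have r := fun w hw => commutatorElement_eq_one_iff_mul_comm.1 (e _ (Subgroup.commutator_mem_commutator hy (g₂ := w) hw))
    exact hy' (zD1 (r _ m5) (r _ m6) (r _ m7) (r _ m8))
  by_cases c3 : Z2 ≤ ⁅E, E⁆
  · exact ⟨L, k, le_antisymm UZ c3 ▸ iU⟩
  obtain ⟨z, hz, hz'⟩ := SetLike.not_le_iff_exists.1 c3
  have lz : ∀ t ∈ Z2, L3 z t ⁅E, E⁆ := fun t ht =>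
    (a3 (UZ hs) hz ht s1 fun e => hz' (e.mem bot_le hs)).imp (·.mem bot_le hs)
      (.imp (·.mem bot_le hs) (·.mem bot_le hs))
  refine (tv_centre k ⟨iU, s0.i2, UZ.trans zV, fun v hv => bot_le (a := ⁅E, E⁆) (s0.pow v hv),
    fun e he v hv => bot_le (a := ⁅E, E⁆) (s0.com e he v hv)⟩ (nm1 x hx) hx' (cb x hx) fun w hw =>
      lz _ (SR3.comm_symm (cD1E1 (vD hw) hx))).elim (fin _ UZ) fun g => ?_
  have r : ∀ w ∈ E1, P9 y x w D1 := fun w hw => (g.1 w (nm1 w hw)).imp (ly _) (.imp (ly _) (ly _))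
  exact (a4 hx (l hy) ⟨r _ m0, r _ m2, r _ m3, r _ m4⟩).elim

end Cfsg.Agent.TH3
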