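import Cfsg.Agent.TH3.Gen
import Cfsg.Agent.S0058

set_option autoImplicit false
set_option linter.unusedSectionVars false

namespace Cfsg.Agent.TH3

open FK
open RFS (Au)
open SR3 (nm ce St)
open scoped commutatorElement

variable {H G : Type*} [Group H] [Finite H] [Group G] [Finite G] [Fact (Nat.Prime 3)] {u : H →* G}
  {E V₁ V₂ W B C D : Subgroup H} {L : Subgroup G}

theorem Nc.ncyc {Q : Type*} [Group Q] [Finite Q] {A : Subgroup Q} {a b : Q} (ha : a ∈ A) (hb : b ∈ A)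
    (a3 : a ^ 3 = 1) (b3 : b ^ 3 = 1) (a1 : a ≠ 1) (b1 : b ≠ 1) (b2 : a⁻¹ * b ≠ 1) (b4 : a * b ≠ 1) :
    ¬ IsCyclic A := fun _ => by
  classical
  have := Fintype.ofFinite A
  have k := (Finset.card_le_card (s := {1, ⟨a, ha⟩, ⟨a, ha⟩⁻¹, ⟨b, hb⟩}) (fun x hx => by
    simp only [Finset.mem_insert, Finset.mem_singleton] at hx
    rcases hx with rfl | rfl | rfl | rfl <;> refine Finset.mem_filter.2 ⟨Finset.mem_univ _, Subtype.ext ?_⟩ <;>
      simp [a3, b3])).trans (IsCyclic.card_pow_eq_one_le (α := A) three_pos)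
  have a2 : a ≠ a⁻¹ := fun e => a1 (by rwa [pow_three', eq_inv_iff_mul_eq_one.1 e, one_mul] at a3)
  rw [Finset.card_insert_of_notMem (by simp [Subtype.ext_iff, a1, a1.symm, b1.symm]), Finset.card_insert_of_notMem (by
    simpa [Subtype.ext_iff, a2] using fun e => b2 (inv_mul_eq_one.2 e)),
    Finset.card_pair fun e => b4 (mul_eq_one_iff_inv_eq.2 (congrArg Subtype.val e))] at k
  omega

/-- a non-cyclic automizer cannot act faithfully on an invariant subgroup centralizing an invariant chain -/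
theorem nc (h : Pr 3 u E L) (i1 : Iv u E L B) (i2 : Iv u E L C) (le : C ≤ B)
    (k1 : ∀ x, Nm E x → ∀ b ∈ B, ⁅x, b⁆ ∈ C) (k2 : ∀ x, Nm E x → ∀ c ∈ C, x * c = c * x)
    (ft : ∀ x, Nm E x → (∀ b ∈ B, x * b = b * x) → x ∈ E)
    {s s' : H} (n1 : Nm E s) (n2 : Nm E s') (p1 : s ^ 3 ∈ E) (p2 : s' ^ 3 ∈ E) (c : ⁅s, s'⁆ ∈ E) (o1 : s ∉ E)
    (o2 : ¬ L3 s s' E) : False := by
  have _ := le
  obtain ⟨X, a, b, sX, d⟩ := h.chain_aux n1 (.step i2 (k1 s n1) (.step h.iv_bot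
    (fun y hy => commutatorElement_eq_one_iff_mul_comm.2 (k2 s n1 y hy)) .bot)) i1
  obtain ⟨M, a', b', c'⟩ := h.se
  have cB : ce (E.map u) ≤ ce (B.map u) := Subgroup.centralizer_le (Subgroup.map_mono i1.le)
  have nK : L ≤ nm (L ⊓ ce (B.map u)) := fun g hg => SR3.nm_inf (Subgroup.le_normalizer hg) (SR3.nm_ce (i1.nm hg))
  have uN : ∀ {y}, Nm E y → u y ∈ NC u E := fun hy => Subgroup.mem_sup_left ⟨⟨_, rfl⟩, (nm_iff h.inj).2 hy⟩
  suffices KM : L ⊓ ce (B.map u) ≤ M by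
    refine h.not_le b n1 o1 sX b' c' fun g hg => ?_
    obtain ⟨y, hy, z, hz, rfl⟩ := h.max (le_inf (le_sup_right.trans h.le) cB) nK a b
      (fun g hg => (d g hg).imp fun m hm => ⟨pow_mem (a hg) _, hm⟩) g hg
    exact mul_mem (a' (uN hy)) (KM hz)
  have n0 : L ≤ nm (E.map u ⊔ ce (E.map u)) := fun g hg => SR3.nm_sup (h.norm hg) (SR3.nm_ce (h.norm hg))
  have l0 : E.map u ⊔ ce (E.map u) ≤ NC u E := sup_le_sup_right (le_inf (Subgroup.map_le_range u E) Subgroup.le_normalizer) _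
  have dec : ∀ {g}, g ∈ E.map u ⊔ ce (E.map u) → ∃ e ∈ E, (u e)⁻¹ * g ∈ ce (E.map u) := fun hg => by
    obtain ⟨_, ⟨e, he, rfl⟩, z, hz, rfl⟩ := (SR3.mem_sup_of_nm fun _ k => SR3.nm_ce (Subgroup.le_normalizer k)).1 hg
    exact ⟨e, he, by simpa using hz⟩
  have cm : ∀ {y : H} {A : Subgroup H}, u y ∈ ce (A.map u) → ∀ e ∈ A, y * e = e * y := fun k e he =>
    h.inj (by rw [map_mul, map_mul, SR3.mem_ce.1 k _ ⟨e, he, rfl⟩])
  have := Subgroup.normal_subgroupOf_of_le_normalizer n0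
  have nK' := Subgroup.normal_subgroupOf_of_le_normalizer nK
  obtain ⟨f, sur, one⟩ : ∃ f : L →* L ⧸ (E.map u ⊔ ce (E.map u)).subgroupOf L, Function.Surjective f ∧
      ∀ g, f g = 1 ↔ (g : G) ∈ E.map u ⊔ ce (E.map u) :=
    ⟨QuotientGroup.mk' _, QuotientGroup.mk'_surjective _, fun g => QuotientGroup.eq_one_iff g⟩
  have eq : ∀ {g k : L}, f g = f k → (g : G)⁻¹ * k ∈ E.map u ⊔ ce (E.map u) := fun {g k} e =>
    (one (g⁻¹ * k)).1 (by rw [map_mul, map_inv, e, inv_mul_cancel])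
  have nN : ∀ x : nm E, Nm E x := fun x _ he => SR3.conj_mem x.2 he
  let φ := f.comp ((u.comp (nm E).subtype).codRestrict L fun x => h.mem_L (nN x))
  have ker : ∀ x : nm E, φ x = 1 ↔ (x : H) ∈ E := fun x => (one _).trans ⟨fun k => by
    obtain ⟨e, he, k⟩ := dec k
    exact (E.mul_mem_cancel_left (inv_mem he)).1 (h.cen _ (cm (by rw [map_mul, map_inv]; exact k))),
    fun k => Subgroup.mem_sup_left ⟨_, k, rfl⟩⟩
  have pg : IsPGroup 3 φ.range := (h.pg.to_subgroup _).of_surjective _ φ.rangeRestrict_surjective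
  have hs : H91.SylIn 3 φ.range ⊤ := by
    refine ⟨le_top, pg, fun e => h.syl (e.trans ?_)⟩
    rw [Subgroup.relIndex_top_right, ← Subgroup.index_comap_of_surjective _ sur]
    refine Subgroup.index_dvd_of_le fun x hx => ?_
    obtain ⟨_, ⟨⟨y, rfl⟩, hy⟩, z, hz, e⟩ :=
      (SR3.mem_sup_of_nm (X := u.range ⊓ nm (E.map u)) fun _ hn => SR3.nm_ce hn.2).1 hx
    have hy' := (nm_iff h.inj).1 hy
    have : x = ⟨_, h.mem_L hy'⟩ * ⟨z, h.le (Subgroup.mem_sup_right hz)⟩ := Subtype.ext e.symm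
    exact ⟨⟨y, SR3.mem_nm_of_conj hy'⟩, by
      rw [this, map_mul, (one ⟨z, _⟩).2 (Subgroup.mem_sup_right hz), mul_one]; rfl⟩
  have nb := nK'.map f sur
  have c3 : ¬ 3 ∣ Nat.card (((L ⊓ ce (B.map u)).subgroupOf L).map f) := fun k => by
    obtain ⟨q, hq⟩ := exists_prime_orderOf_dvd_card' 3 k
    rw [← Subgroup.orderOf_coe] at hq
    obtain ⟨g, -, e⟩ := hs.exists_conj_mem (H := Subgroup.zpowers q.1)
      (IsPGroup.of_card (n := 1) (by rw [Nat.card_zpowers, hq, pow_one])) le_top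
    obtain ⟨x, hx⟩ := e _ (Subgroup.mem_zpowers _)
    obtain ⟨k, hk, ek⟩ := nb.conj_mem _ q.2 g
    obtain ⟨e, he, l⟩ := dec (eq (hx.trans ek.symm))
    have l' : u (x * e) ∈ ce (B.map u) := by
      simpa [mul_assoc] using (ce (B.map u)).mul_mem hk.2 (inv_mem (cB l))
    rw [(ker x).2 ((E.mul_mem_cancel_right he).1 (ft _ ((nN x).mul (.of_mem he)) (cm l'))), eq_comm,
      mul_inv_eq_one, mul_eq_left] at hx
    simp [hx] at hq
  obtain ⟨s, hs1, rfl⟩ : ∃ x : nm E, φ x ≠ 1 ∧ x = s := ⟨⟨s, SR3.mem_nm_of_conj n1⟩, fun k => o1 ((ker _).1 k), rfl⟩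
  obtain ⟨s', rfl⟩ : ∃ x : nm E, x = s' := ⟨⟨s', SR3.mem_nm_of_conj n2⟩, rfl⟩
  have Al : Subgroup.closure {φ s, φ s'} ≤ φ.range := (Subgroup.closure_le _).2 (by
    rintro _ (rfl | rfl) <;> exact ⟨_, rfl⟩)
  have cs : φ s * φ s' = φ s' * φ s :=
    commutatorElement_eq_one_iff_mul_comm.1 (by rw [← map_commutatorElement]; exact (ker _).2 c)
  have : IsMulCommutative (Subgroup.closure {φ s, φ s'}) := Subgroup.isMulCommutative_closure (by
    rintro _ (rfl | rfl) _ (rfl | rfl) <;> simp [cs])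
  obtain ⟨n, hn⟩ := (pg.to_le Al).exists_card_eq
  have gen := S0058.result (Subgroup.closure {φ s, φ s'}) (((L ⊓ ce (B.map u)).subgroupOf L).map f)
    (Nc.ncyc (a := φ s) (b := φ s') (Subgroup.subset_closure (by simp)) (Subgroup.subset_closure (by simp))
      (by rw [← map_pow]; exact (ker _).2 p1) (by rw [← map_pow]; exact (ker _).2 p2) hs1
      (fun k => o2 (.inl ((ker _).1 k))) (fun k => o2 (.inr (.inl ((ker (s⁻¹ * s')).1 (by rwa [map_mul, map_inv])))))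
      fun k => o2 (.inr (.inr ((ker (s * s')).1 (by rwa [map_mul])))))
    (le_top.trans (Subgroup.normalizer_eq_top _).ge) (hn ▸ ((Nat.prime_three.coprime_iff_not_dvd.2 c3).pow_left n))
  have KM : ((L ⊓ ce (B.map u)).subgroupOf L).map f ≤ (M.subgroupOf L).map f := by
    rw [← gen]
    refine iSup₂_le fun q hq => ?_
    obtain ⟨x, rfl⟩ := Al hq.1
    rintro _ ⟨⟨k, -, rfl⟩, hk⟩
    refine ⟨k, c' k k.2 x (nN x) (fun e => hq.2 ((ker x).2 e)) (a' ?_), rfl⟩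
    have e : φ x = f (k * ⟨_, h.mem_L (nN x)⟩ * k⁻¹) := by
      rw [map_mul, map_mul, map_inv, eq_mul_inv_iff_mul_eq]
      exact (Subgroup.mem_centralizer_singleton_iff.1 hk).symm
    simpa using mul_mem (uN (nN x)) (l0 (eq e))
  intro k hk
  obtain ⟨m, hm, e⟩ := KM (Subgroup.mem_map_of_mem f (x := ⟨k, hk.1⟩) hk)
  exact (M.mul_mem_cancel_left (inv_mem hm)).1 (a' (l0 (eq e)))

end Cfsg.Agent.TH3
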