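import Cfsg.Agent.TH3.Fa4
import Cfsg.Agent.TH3.Tv
import Cfsg.Agent.TH3.Nc

set_option autoImplicit false
set_option linter.unusedSectionVars false

namespace Cfsg.Agent.TH3

open FK
open RFS (Au)
open SR3 (nm ce St)
open scoped commutatorElement

variable {G : Type*} [Group G] [Finite G] [Fact (Nat.Prime 3)] {u : V →* G} {E T : Subgroup V} {L : Subgroup G}

theorem ci2b (k : Pr 3 u E L) (l : E ≤ E1) (d : D1 ≤ E) (n : E ≠ E1) (i : Iv u E L Z2) : False := by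
  have cE : ∀ {a x}, a ∈ D1 → x ∈ E1 → ⁅x, a⁆ ∈ Z2 := fun ha hx => SR3.comm_symm (cD1E1 ha hx)
  have nE : ∀ x ∈ E1, Nm E x := fun x hx => .of_comm fun e he => d (cE1E1 hx (l he))
  have p3 : ∀ x ∈ E1, x ^ 3 ∈ E := fun x hx => d (Z2_D1 (pE1 hx))
  obtain ⟨s, hs, hsE⟩ := SetLike.exists_of_lt (lt_of_le_of_ne l n)
  have DV : D1 ≤ Om 3 E Z2 := fun a ha => ⟨d ha, pD1 ha ▸ one_mem _, fun e he => cE ha (l he)⟩
  have t := k.sec_om i
  have fin : ∀ L', Pr 3 u E L' → Iv u E L' D1 → Iv u E L' Z2 → False := fun L' k' iD iZ =>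
    hsE (k'.chain2 iD iZ (fun e he => cE1E1 hs (l he)) (fun b hb => cE hb hs) fun c hc => (cZ2E1 hc hs).symm)
  have nAl : ¬ Al 3 u E L Z2 (Om 3 E Z2) := fun a =>
    let ⟨L', hl, k', iD⟩ := a.normal D1 Z2_D1 DV
    fin L' k' iD (i.mono hl)
  obtain ⟨y, hy, hyD⟩ : ∃ y ∈ Om 3 E Z2, y ∉ D1 :=
    SetLike.exists_of_lt (lt_of_le_of_ne DV fun e => fin L k (e ▸ t.i2) i)
  have star : ¬ ∀ w ∈ E1, L3 s w E := fun H =>
    have c : ∀ w ∈ E1, ⁅w, y⁆ ∈ Z2 ∨ ⁅s⁻¹ * w, y⁆ ∈ Z2 ∨ ⁅s * w, y⁆ ∈ Z2 := fun w hw =>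
      (H w hw).imp (hy.2.2 _) (.imp (hy.2.2 _) (hy.2.2 _))
    b1 hs (l hy.1) hyD
      ⟨c (h 0) (hm (by decide)), c (h 2) (hm (by decide)), c (h 3) (hm (by decide)), c (h 4) (hm (by decide))⟩
  by_cases H : ∀ w ∈ Om 3 E Z2, L3 y w D1
  · exact (tv_axis k t (nE s hs) hsE (p3 s hs) H fun a ha _ => cE ha hs).elim nAl fun g => star fun w hw => g w (nE w hw)
  push Not at H star
  obtain ⟨y', hy', o⟩ := H
  obtain ⟨s', hs', o2⟩ := star
  have c' := hy.2.2 y' hy'.1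
  have hP : ∀ w ∈ E, P9 y y' w D1 := fun w hw => b2 (l hy.1) (l hy'.1) (l hw) hyD o c' (hy.2.2 w hw)
  have gen : ∀ x, Nm E x → x ∈ E1 := fun x hx =>
    ((ff9 k t (nE s hs) (nE s' hs') (p3 s hs) (p3 s' hs') (d (cE1E1 hs hs')) hsE o2 (fun w hw => hP w hw.1)
      fun a ha _ => ⟨cE ha hs, cE ha hs'⟩).resolve_left nAl x hx).mem l hs hs'
  by_cases y3 : y ^ 3 = 1
  · obtain ⟨c, hc, c1, c2, c3⟩ := b4 (l hy.1) (l hy'.1) hyD o c' y3
    have cV : c ∈ Om 3 E ⊥ := ⟨d hc, pD1 hc, fun e he => commutatorElement_eq_one_iff_mul_comm.2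
      (Subgroup.mem_centralizer_singleton_iff.1 ((hP e he).mem
        (fun a ha => Subgroup.mem_centralizer_singleton_iff.2 (cD1D1 ha hc))
        (Subgroup.mem_centralizer_singleton_iff.2 c1) (Subgroup.mem_centralizer_singleton_iff.2 c2)))⟩
    have VD : Om 3 E ⊥ ≤ D1 := fun a ha =>
      have c := fun w (hw : w ∈ D1) => (commutatorElement_eq_one_iff_mul_comm.1 (ha.2.2 w (d hw))).symm
      zD1 (c _ (hm (by decide))) (c _ (hm (by decide))) (c _ (hm (by decide))) (c _ (hm (by decide)))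
    exact nc k (k.iv_om k.iv_bot) i (fun a ha => ⟨i.le ha, pD1 (Z2_D1 ha), fun e he =>
      commutatorElement_eq_one_iff_mul_comm.2 (cZ2E1 ha (l he)).symm⟩) (fun x hx b hb => cE (VD hb) (gen x hx))
      (fun x hx b hb => (cZ2E1 hb (gen x hx)).symm) (fun x hx e => (c3 x (gen x hx) (e c cV)).mem d hy.1 hy'.1)
      (nE s hs) (nE s' hs') (p3 s hs) (p3 s' hs') (d (cE1E1 hs hs')) hsE o2
  · obtain ⟨c1, c2, c3⟩ := b3 (l hy.1) (l hy'.1) hyD o c' y3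
    have Z5E : Z5 ≤ E := fun b hb =>
      (upZ5 (a := h 4) (hm (by decide)) hb (hn (by decide) (by decide))).mem d (c3.mem d hy.1 hy'.1)
    exact (hn (by decide) (by decide) : h 1 ∉ E1)
      (gen _ (.of_comm fun e he => Z5E (SR3.comm_symm (cZ6 ((hP e he).mem D1_Z6 c1 c2)))))

end Cfsg.Agent.TH3
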