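import Cfsg.Agent.TH3.Fa2
import Cfsg.Agent.TH3.Tv

set_option autoImplicit false
set_option linter.unusedSectionVars false

namespace Cfsg.Agent.TH3

open FK
open RFS (Au)
open SR3 (nm ce St)
open scoped commutatorElement

variable {G : Type*} [Group G] [Finite G] [Fact (Nat.Prime 3)] {u : V →* G} {E T : Subgroup V} {L : Subgroup G}

namespace IIa

theorem z1E (k : Pr 3 u E L) : Z1 ≤ E := fun _ ha => k.cen _ fun _ _ => cZ1 ha

theorem cube {a : V} (ha : a ∈ Z4) : a ^ 3 = 1 := pD1 (Z4_D1 ha)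

theorem z1V (k : Pr 3 u E L) : Z1 ≤ Om 3 E ⊥ := fun _ ha =>
  ⟨z1E k ha, cube (Z1_Z4 ha), fun _ _ => commutatorElement_eq_one_iff_mul_comm.2 (cZ1 ha).symm⟩

theorem com {y e : V} (hy : y ∈ Om 3 E ⊥) (he : e ∈ E) : ⁅e, y⁆ = 1 := hy.2.2 e he

end IIa

open IIa

theorem iia (k : Pr 3 u E L) (l : E ≤ E2) : Z3 ≤ E := by
  intro x hx
  by_contra hx'
  have nx : Nm E x := .of_comm fun e he => z1E k (cZ3E2 hx (l he))
  rcases tv_centre k (k.sec_om k.iv_bot) (z := h 9) nx hx' (by rw [cube (Z3_Z4 hx)]; exact one_mem _)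
    (fun w hw => upZ1 (hm (by decide)) (cZ3E2 hx (l hw.1)) h9_ne) with al | ⟨gen, y, hy, xy⟩
  · obtain ⟨L', -, k', i⟩ := al.normal Z1 bot_le (z1V k)
    exact hx' (k'.chain1 i (fun e he => cZ3E2 hx (l he)) fun b hb => (cZ1 hb).symm)
  have yC : y ∉ C3 := fun c => xy (commutatorElement_eq_one_iff_mul_comm.2 (cZ3C3 hx c))
  have h6 : h 6 ∈ Z4 := hm (by decide)
  have h6' : h 6 ∉ Z3 := hn (by decide) (by decide)
  have n6 : Nm E (h 6) := .of_comm fun v hv => k.cen _ fun e he => by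
    have a : L3 y e C3 := ly (l hy.1) (l he) yC (SR3.comm_symm (by rw [com hy he]; exact one_mem _))
    have b : e ∈ Subgroup.centralizer {⁅h 6, v⁆} :=
      a.mem (fun c hc => Subgroup.mem_centralizer_singleton_iff.2 (cZ3C3 (cZ4 h6) hc).symm)
        (Subgroup.mem_centralizer_singleton_iff.2
          (ty h6 (l hv) (l hy.1) (by rw [com hy hv]; exact one_mem _)).symm)
    exact (Subgroup.mem_centralizer_singleton_iff.1 b).symm
  have fin : ∀ z ∈ Z4, z ∈ E → z ∈ Z3 := fun z hz he =>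
    nz hz (l hy.1) yC (by rw [com hy he]; exact one_mem _)
  rcases gen _ n6 with a | a | a
  · exact h6' (fin _ h6 a)
  · exact h6' ((mul_mem_cancel_left (inv_mem hx)).1 (fin _ (mul_mem (inv_mem (Z3_Z4 hx)) h6) a))
  · exact h6' ((mul_mem_cancel_left hx).1 (fin _ (mul_mem (Z3_Z4 hx) h6) a))

theorem iib1 (k : Pr 3 u E L) (l : E ≤ E2) (z : Z3 ≤ E) : Z4 ≤ E := by
  intro x hx
  by_contra hx'
  have nx : Nm E x := .of_comm fun e _ => z (cZ4 hx)
  have v4 : Om 3 E ⊥ ≤ C4 := fun v hv => o3c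
    (zC3 (commutatorElement_eq_one_iff_mul_comm.1 (com hv (z (hm (by decide))))).symm
      (commutatorElement_eq_one_iff_mul_comm.1 (com hv (z (hm (by decide))))).symm) hv.2.1
  have xv : ∀ v ∈ Om 3 E ⊥, x * v = v * x := fun v hv => cZ4C4 hx (v4 hv)
  obtain ⟨L', -, k', i⟩ := (k.red k.iv_bot (k.iv_om k.iv_bot) nx hx'
    fun v hv => commutatorElement_eq_one_iff_mul_comm.2 (xv v hv)).normal Z1 bot_le (z1V k)
  have z2 : Z3 ≤ Om 3 E Z1 := fun a ha =>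
    ⟨z ha, by rw [cube (Z3_Z4 ha)]; exact one_mem _, fun e he => SR3.comm_symm (cZ3E2 ha (l he))⟩
  by_cases c : Om 3 E Z1 ≤ C3
  · exact hx' (k'.chain2 (k'.iv_om i) i (fun e _ => z2 (cZ4 hx)) (fun b hb => cZ4C3 hx (c hb))
      fun b hb => (cZ1 hb).symm)
  obtain ⟨v, hv, vC⟩ := SetLike.not_le_iff_exists.1 c
  have ab : ∀ a ∈ E, ∀ b ∈ E, ⁅a, b⁆ ∈ Z4 := fun a ha b hb =>
    dt_tr (l hv.1) (l ha) (l hb) vC (Z1_Z4 (SR3.comm_symm (hv.2.2 a ha))) (Z1_Z4 (SR3.comm_symm (hv.2.2 b hb)))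
  exact hx' (k.chain1 (k.iv_om k.iv_bot) (fun a ha => ⟨z (cZ4 hx), cube (Z3_Z4 (cZ4 hx)), fun b hb =>
    commutatorElement_eq_one_iff_mul_comm.2 (ty hx (l ha) (l hb) (ab a ha b hb)).symm⟩) xv)

end Cfsg.Agent.TH3
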