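import Cfsg.Agent.TH3.Fa2
import Cfsg.Agent.TH3.Tv

set_option autoImplicit false
set_option linter.unusedSectionVars false

namespace Cfsg.Agent.TH3

open FK
open RFS (Au)
open SR3 (nm ce St)
open scoped commutatorElement

variable {G : Type*} [Group G] [Finite G] [Fact (Nat.Prime 3)] {u : V →* G} {E T : Subgroup V} {L : Subgroup G}

theorem iib2 (k : Pr 3 u E L) (l : E ≤ E2) (n : ¬ E ≤ E1) (z : Z4 ≤ E) (c : ¬ C4 ≤ E) :
    ∃ L', Pr 3 u E L' ∧ Iv u E L' Z1 := by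
  have one : ∀ {a b : V}, a * b = b * a → ⁅a, b⁆ = 1 := fun e => commutatorElement_eq_one_iff_mul_comm.2 e
  have hZ : Z1 ≤ Om 3 E ⊥ := fun a ha =>
    mem_Om.2 ⟨z (Z1_Z4 ha), Subgroup.mem_bot.2 (pD1 (Z4_D1 (Z1_Z4 ha))), fun e _ =>
      Subgroup.mem_bot.2 (one (cZ1 ha).symm)⟩
  have cm : ∀ v ∈ Om 3 E ⊥, ∀ e ∈ E, e * v = v * e := fun v hv e he =>
    commutatorElement_eq_one_iff_mul_comm.1 (Subgroup.mem_bot.1 ((mem_Om.1 hv).2.2 e he))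
  have fin : Al 3 u E L ⊥ (Om 3 E ⊥) → ∃ L', Pr 3 u E L' ∧ Iv u E L' Z1 := fun a =>
    let ⟨L', _, h1, h2⟩ := a.normal Z1 bot_le hZ
    ⟨L', h1, h2⟩
  have m6 : h 6 ∈ E := z (hm (by decide))
  have m7 : h 7 ∈ E := z (hm (by decide))
  have m8 : h 8 ∈ E := z (hm (by decide))
  have n3 : ∀ x ∈ C3, Nm E x := fun x hx => Nm.of_comm fun e he => z (cC3E2 hx (l he))
  by_cases d : D1 ≤ E
  · obtain ⟨e, he, he'⟩ := SetLike.not_le_iff_exists.1 n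
    obtain ⟨x, hx, hx'⟩ := SetLike.not_le_iff_exists.1 c
    have m5 : h 5 ∈ E := d (hm (by decide))
    refine fin (k.red k.iv_bot (k.iv_om k.iv_bot) (n3 x (C4_C3 hx)) hx' fun v hv => ?_)
    have v1 : v ∈ D1 := zD1 (cm v hv _ m5).symm (cm v hv _ m6).symm (cm v hv _ m7).symm (cm v hv _ m8).symm
    have e1 : ⁅v, e⁆ = 1 := one (cm v hv e he).symm
    have v4 : v ∈ Z4 := o4 v1 he' (e1 ▸ one_mem _)
    have v3 : v ∈ Z3 := nz v4 (l he) (fun e3 => he' (C3_E1 e3)) (e1 ▸ one_mem _)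
    exact Subgroup.mem_bot.2 (one (cZ3C3 v3 (C4_C3 hx)).symm)
  · obtain ⟨x, hx, hx'⟩ := SetLike.not_le_iff_exists.1 d
    have v4 : ∀ v ∈ Om 3 E ⊥, v ∈ C4 := fun v hv =>
      zC4 (cm v hv _ m6).symm (cm v hv _ m7).symm (cm v hv _ m8).symm
    have m9 : h 9 ∈ Z1 := hm (by decide)
    rcases tv_centre (z := h 9) k (k.sec_om k.iv_bot) (n3 x (D1_C3 hx)) hx' (pD1 hx ▸ one_mem _)
      (fun w hw => upZ1 m9 (cC4C4 (D1_C4 hx) (v4 w hw)) h9_ne) with a | ⟨gen, w, hw, hw'⟩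
    · exact fin a
    · have m4 : h 4 ∈ C3 := hm (by decide)
      have w4 : w ∉ Z4 := fun w4 => hw' (Subgroup.mem_bot.2 (one (cD1D1 hx (Z4_D1 w4))))
      have le : E ⊓ C3 ≤ C4 := fun a ha => k8 (v4 w hw) ha.2 w4 (one (cm w hw a ha.1) ▸ one_mem _)
      exact absurd (((gen _ (n3 _ m4)).inf (D1_C3 hx) m4).mem le (D1_C4 hx)) (hn (by decide) (by decide))

end Cfsg.Agent.TH3
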