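import Cfsg.Agent.TH3.Fa2
import Cfsg.Agent.TH3.Tv

set_option autoImplicit false
set_option linter.unusedSectionVars false

namespace Cfsg.Agent.TH3

open FK
open RFS (Au)
open SR3 (nm ce St)
open scoped commutatorElement

variable {G : Type*} [Group G] [Finite G] [Fact (Nat.Prime 3)] {u : V →* G} {E T : Subgroup V} {L : Subgroup G}

theorem iib3 (k : Pr 3 u E L) (l : E ≤ E2) (n : ¬ E ≤ E1) (z : Z4 ≤ E) (c : ¬ C4 ≤ E) (i : Iv u E L Z1) :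
    ∃ L', Pr 3 u E L' ∧ Iv u E L' Z3 := by
  have s := k.sec_om i
  have z3 : Z3 ≤ Om 3 E Z1 := fun a ha =>
    ⟨z (Z3_Z4 ha), by rw [pD1 (Z3_D1 ha)]; exact one_mem _, fun e he => SR3.comm_symm (cZ3E2 ha (l he))⟩
  have al : Al 3 u E L Z1 (Om 3 E Z1) → ∃ L', Pr 3 u E L' ∧ Iv u E L' Z3 := fun a =>
    let ⟨L', _, k'⟩ := a.normal Z3 Z1_Z3 z3; ⟨L', k'⟩
  have n3 : ∀ {y}, y ∈ C3 → Nm E y := fun hy => .of_comm fun e he => z (cC3E2 hy (l he))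
  have p3 : ∀ {y}, y ∈ C3 → y ^ 3 ∈ E := fun hy => z (Z1_Z4 (pC3 hy))
  have h6 : h 6 ∈ Z4 := hm (by decide)
  have v3 : Om 3 E Z1 ≤ C3 := fun v hv => by_contra fun v' =>
    (hn (by decide) (by decide) : h 6 ∉ Z3) (nz h6 (l hv.1) v' (hv.2.2 _ (z h6)))
  obtain ⟨e, he, e1⟩ := SetLike.not_le_iff_exists.1 n
  have e3 : e ∉ C3 := fun e' => e1 (C3_E1 e')
  have hW : ∀ {x}, x ∈ C3 → ∀ a ∈ Z4, a ∈ Om 3 E Z1 → ⁅x, a⁆ ∈ Z1 := fun hx a ha _ => SR3.comm_symm (cZ4C3 ha hx)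
  by_cases v4 : Om 3 E Z1 ≤ C4
  · by_cases w4 : Om 3 E Z1 ≤ Z4
    · exact ⟨L, k, le_antisymm (fun a ha => nz (w4 ha) (l he) e3 (SR3.comm_symm (ha.2.2 e he))) z3 ▸ s.i2⟩
    obtain ⟨v, hv, v'⟩ := SetLike.not_le_iff_exists.1 w4
    have e4 : E ⊓ C3 ≤ C4 := fun a ha => k8 (v4 hv) ha.2 v' (hv.2.2 a ha.1)
    have h4 : h 4 ∈ C3 := hm (by decide)
    have h4' : h 4 ∉ C4 := hn (by decide) (by decide)
    refine (tv_axis k s (n3 h4) (fun e' => h4' (e4 ⟨e', h4⟩)) (p3 h4) (fun w hw => k12 (v4 hv) (v4 hw) (l he) v' e3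
      (Z1_Z3 (SR3.comm_symm (hv.2.2 e he))) (Z1_Z3 (SR3.comm_symm (hw.2.2 e he)))) (hW h4)).elim al fun g =>
        absurd (fun y hy => ?_) c
    rcases (g y (n3 (C4_C3 hy))).inf h4 (C4_C3 hy) with t | t | t
    · exact t.1
    · exact absurd (inv_mem_iff.1 ((mul_mem_cancel_right hy).1 (e4 t))) h4'
    · exact absurd ((mul_mem_cancel_right hy).1 (e4 t)) h4'
  · obtain ⟨v, hv, v'⟩ := SetLike.not_le_iff_exists.1 v4
    have q : ∀ a ∈ E, a ∈ C3 → L3 v a Z4 := fun a ha a3 => k10 (v3 hv) a3 v' (hv.2.2 a ha)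
    have e4 : E ⊓ C4 ≤ Z4 := fun a ha => by_contra fun a' =>
      v' (((q a ha.1 (C4_C3 ha.2)).swap a').mem Z4_C4 ha.2)
    obtain ⟨x, hx, x'⟩ := SetLike.not_le_iff_exists.1 c
    have h2 : h 2 ∈ C4 := hm (by decide)
    have h5 : h 5 ∈ C4 := hm (by decide)
    exact (tv_axis k s (n3 (C4_C3 hx)) x' (p3 (C4_C3 hx)) (fun w hw => q w hw.1 (v3 hw)) (hW (C4_C3 hx))).elim al
      fun g => absurd ⟨((g _ (n3 (C4_C3 h2))).inf hx h2).mono e4, ((g _ (n3 (C4_C3 h5))).inf hx h5).mono e4⟩ (k11 hx)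

end Cfsg.Agent.TH3
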