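import Cfsg.Agent.TH3.Fa2
import Cfsg.Agent.TH3.Tv

set_option autoImplicit false
set_option linter.unusedSectionVars false

namespace Cfsg.Agent.TH3

open FK
open RFS (Au)
open SR3 (nm ce St)
open scoped commutatorElement

variable {G : Type*} [Group G] [Finite G] [Fact (Nat.Prime 3)] {u : V →* G} {E T : Subgroup V} {L : Subgroup G}

namespace IIs

theorem cb {a b : V} : ⁅a, b⁆ ∈ (⊥ : Subgroup V) ↔ a * b = b * a :=
  Subgroup.mem_bot.trans commutatorElement_eq_one_iff_mul_comm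

theorem cm {a b : V} (ha : a ∈ E) (hb : b ∈ E) : ⁅a, b⁆ ∈ E :=
  mul_mem (mul_mem (mul_mem ha hb) (inv_mem ha)) (inv_mem hb)

end IIs

open IIs

theorem iis (k : Pr 3 u E L) (l : E ≤ E2) (n : ¬ E ≤ E1) (c : C4 ≤ E) : Iv u E L Z3 ∨ E = E2 := by
  obtain ⟨e, he, e1⟩ := SetLike.not_le_iff_exists.1 n
  have e3 : e ∉ C3 := fun m => e1 (C3_E1 m)
  have m2 : h 2 ∈ C4 := hm (by decide)
  have m5 : h 5 ∈ C4 := hm (by decide)
  by_cases hA : ∀ a ∈ E, ∀ b ∈ E, ⁅a, b⁆ ∈ Z4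
  · have BZ : ⁅E, E⁆ ≤ Z4 := Subgroup.commutator_le.2 hA
    obtain ⟨z, hz, z3⟩ : ∃ z ∈ ⁅E, E⁆, z ∉ Z3 := (k5 (l he) e3).elim
      (fun m => ⟨_, Subgroup.commutator_mem_commutator (c m2) he, m⟩)
      fun m => ⟨_, Subgroup.commutator_mem_commutator (c m5) he, m⟩
    have iC : Iv u E L C4 := k.iv_cz k.iv_top (k.iv_comm k.iv_top k.iv_top) k.iv_bot fun a =>
      ⟨fun ha => ⟨c ha, fun b hb => cb.2 (cZ4C4 (BZ hb) ha).symm⟩, fun ⟨ha, hc⟩ =>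
        k6 (BZ hz) (by_contra fun m => z3 (nz (BZ hz) (l ha) m (bot_le (a := Z1) (SR3.comm_symm (hc z hz))))) z3
          (cb.1 (hc z hz))⟩
    have i4 : Iv u E L Z4 := k.iv_cz iC iC k.iv_bot fun a =>
      ⟨fun ha => ⟨Z4_C4 ha, fun b hb => cb.2 (cZ4C4 ha hb)⟩, fun ⟨ha, hc⟩ =>
        zC4a ha (cb.1 (hc _ m2)) (cb.1 (hc _ m5))⟩
    have e1 : ⁅C4, C4⁆ = Z1 := le_antisymm (Subgroup.commutator_le.2 fun _ ha _ hb => cC4C4 ha hb) fun b hb =>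
      (upZ1 (hm (by decide)) hb h9_ne).mem bot_le (h52 ▸ Subgroup.commutator_mem_commutator m5 m2)
    have i1 : Iv u E L Z1 := e1 ▸ k.iv_comm iC iC
    exact .inl (k.iv_cz i4 k.iv_top i1 fun a =>
      ⟨fun ha => ⟨Z3_Z4 ha, fun b hb => cZ3E2 ha (l hb)⟩, fun ⟨ha, hc⟩ => nz ha (l he) e3 (hc e he)⟩)
  · simp only [not_forall] at hA
    obtain ⟨a, ha, b, hb, hab⟩ := hA
    have d := cE2E2 (l ha) (l hb)
    have c3 : C3 ≤ E := fun x hx => (upC3 (D2_C3 d) hx fun m => hab (m24 d m)).mem c (cm ha hb)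
    exact .inr (le_antisymm l fun x hx =>
      (up2 (l ha) (l hb) hx (fun m => hab (cC3E2 m (l hb))) hab).mem c3 ha hb)

theorem iifin (k : Pr 3 u E L) (l : E ≤ E2) (n : ¬ E ≤ E1) (i : Iv u E L Z3) : E = E2 := by
  obtain ⟨e, he, e1⟩ := SetLike.not_le_iff_exists.1 n
  have m7 : h 7 ∈ Z3 := hm (by decide)
  have m8 : h 8 ∈ Z3 := hm (by decide)
  have d2 : D2 ≤ E := fun x hx =>
    k.chain1 i (fun e he => cD2E2 hx (l he)) fun b hb => (cZ3C3 hb (D2_C3 hx)).symm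
  have iE : Iv u E L (E ⊓ C3) := k.iv_cz k.iv_top i k.iv_bot fun a =>
    ⟨fun ha => ⟨ha.1, fun b hb => cb.2 (cZ3C3 hb ha.2).symm⟩, fun ⟨ha, hc⟩ =>
      ⟨ha, zC3 (cb.1 (hc _ m7)) (cb.1 (hc _ m8))⟩⟩
  have c3 : C3 ≤ E := fun x hx => k.chain2 iE i
    (fun e he => ⟨d2 (Z4_D2 (cC3E2 hx (l he))), Z4_C3 (cC3E2 hx (l he))⟩) (fun b hb => cC3C3 hx hb.2)
    fun b hb => (cZ3C3 hb hx).symm
  rw [inf_eq_right.2 c3] at iE
  have e2 : ⁅Z3, E⁆ = Z1 := le_antisymm (Subgroup.commutator_le.2 fun _ ha _ hb => cZ3E2 ha (l hb)) fun b hb =>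
    (upZ1 (cZ3E2 m8 (l he)) hb fun m => e1 (zE1 (commutatorElement_eq_one_iff_mul_comm.1 m).symm)).mem bot_le
      (Subgroup.commutator_mem_commutator m8 he)
  have i1 : Iv u E L Z1 := e2 ▸ k.iv_comm i k.iv_top
  have i4 : Iv u E L Z4 := k.iv_cz iE iE i1 fun a =>
    ⟨fun ha => ⟨Z4_C3 ha, fun b hb => cZ4C3 ha hb⟩, fun ⟨ha, hc⟩ =>
      zC3b ha (hc _ (hm (by decide))) (hc _ (hm (by decide))) (hc _ (hm (by decide)))⟩
  exact le_antisymm l fun x hx => k.chain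
    (.step iE (fun b hb => D2_C3 (cE2E2 hx (l hb)))
      (.step i4 (fun b hb => SR3.comm_symm (cC3E2 hb hx))
        (.step i (fun b hb => SR3.comm_symm (cZ4 hb))
          (.step i1 (fun b hb => SR3.comm_symm (cZ3E2 hb hx))
            (.step k.iv_bot (fun b hb => cb.2 (cZ1 hb).symm) .bot)))))

end Cfsg.Agent.TH3
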