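import Cfsg.Agent.TH3.III
import Cfsg.Agent.TH3.IIa
import Cfsg.Agent.TH3.IIs
import Cfsg.Agent.TH3.IIb
import Cfsg.Agent.TH3.IIc
import Cfsg.Agent.TH3.I1
import Cfsg.Agent.TH3.I2a
import Cfsg.Agent.TH3.I2b

/-! Project TH3: the candidates for essential subgroups.  See `notes/TH3.md`. -/

set_option autoImplicit false
set_option linter.unusedSectionVars false

namespace Cfsg.Agent.TH3

open FK
open RFS (Au)
open SR3 (nm ce St)
open scoped commutatorElement

variable {G : Type*} [Group G] [Finite G] [Fact (Nat.Prime 3)] {u : V →* G} {E T : Subgroup V} {L : Subgroup G}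

theorem ess (k : Pr 3 u E L) : E = E1 ∨ E = E2 ∨ Tri E := by
  by_cases l : E ≤ E1
  · by_cases d : D1 ≤ E
    · refine .inl (by_contra fun n => ?_)
      obtain ⟨L', k', i⟩ := ci2a k l d n
      exact ci2b k' l d n i
    · exact .inr (.inr (ci1 k l d))
  by_cases l' : E ≤ E2
  · refine .inr (.inl ?_)
    have z := iib1 k l' (iia k l')
    by_cases c : C4 ≤ E
    · exact (iis k l' l c).elim (iifin k l' l) id
    · obtain ⟨L', k', i⟩ := iib2 k l' l z c
      obtain ⟨L'', k'', i'⟩ := iib3 k' l' l z c i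
      exact iifin k'' l' l i'
  · exact (caseIII k l l').elim

end Cfsg.Agent.TH3
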