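import Cfsg.Agent.TH3.Fa1

/-! Project TH3: facts for the cases `E ≰ E1`.  Generated; see `notes/TH3.md`. -/

set_option autoImplicit false
set_option maxRecDepth 100000
set_option Elab.async false
set_option linter.unusedVariables false
set_option linter.unusedSimpArgs false

namespace Cfsg.Agent.TH3

open scoped commutatorElement

theorem oo {w : V} : w ∉ E1 → w ∉ E2 → ¬ (w ^ 3) ^ 3 = 1 := by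
  have H : w ∉ E1 → w ∉ E2 → ¬ w * w * w * (w * w * w) * (w * w * w) = 1 := c1 [] 10 (.imp (.not (.z (.v 0) [1]))
    (.imp (.not (.z (.v 0) [0])) (.not (.eq (.p3 (.p3 (.v 0))) (.k []))))) (by decide +kernel) w (nil0 _)
  simpa only [pow_three'] using H

theorem w3 {w : V} : w ∉ E1 → w ∉ E2 → w ^ 3 ∉ D1 := by
  have H : w ∉ E1 → w ∉ E2 → w * w * w ∉ D1 := c1 [] 5 (.imp (.not (.z (.v 0) [1])) (.imp (.not (.z (.v 0) [0]))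
    (.not (.z (.p3 (.v 0)) [0, 1, 2, 3, 4])))) (by decide +kernel) w (nil0 _)
  simpa only [pow_three'] using H

theorem oS {v w : V} : w ∉ E1 → w ∉ E2 → v ∈ E1 ∨ v ∈ E2 → ⁅v, w⁆ ∈ Z5 → v ∈ Z6 :=
  c2 [] 4 [] 4 (.imp (.not (.z (.v 1) [1])) (.imp (.not (.z (.v 1) [0])) (.imp (.or (.z (.v 0) [1]) (.z (.v 0) [0]))
    (.imp (.z (.cm (.v 0) (.v 1)) [0, 1, 2, 3]) (.z (.v 0) [0, 1]))))) (by decide +kernel) v w (nil0 _) (nil0 _)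

theorem o6 {v : V} {w : V} (hv : v ∈ Z6) : w ∉ E1 → w ∉ E2 → ⁅v, w⁆ ∈ Z4 → v ∈ Z5 :=
  c2 [0, 1] 6 [] 6 (.imp (.not (.z (.v 1) [1])) (.imp (.not (.z (.v 1) [0])) (.imp (.z (.cm (.v 0) (.v 1)) [0, 1, 2,
    3, 4, 5]) (.z (.v 0) [0, 1, 2, 3])))) (by decide +kernel) v w hv (nil0 _)

theorem o5 {v : V} (hv : v ∈ Z5) : v ^ 3 = 1 → v ∈ D1 := by
  have H : v * v * v = 1 → v ∈ D1 := c1 [0, 1, 2, 3] 10 (.imp (.eq (.p3 (.v 0)) (.k [])) (.z (.v 0) [0, 1, 2, 3,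
    4])) (by decide +kernel) v hv
  simpa only [pow_three'] using H

theorem o4 {v : V} {w : V} (hv : v ∈ D1) : w ∉ E1 → ⁅v, w⁆ ∈ Z3 → v ∈ Z4 :=
  c2 [0, 1, 2, 3, 4] 7 [] 7 (.imp (.not (.z (.v 1) [1])) (.imp (.z (.cm (.v 0) (.v 1)) [0, 1, 2, 3, 4, 5, 6]) (.z
    (.v 0) [0, 1, 2, 3, 4, 5]))) (by decide +kernel) v w hv (nil0 _)

theorem o3 {v : V} {w : V} (hv : v ∈ Z4) : w ∉ E1 → ⁅v, w⁆ ∈ Z2 → v ∈ Z3 :=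
  c2 [0, 1, 2, 3, 4, 5] 8 [] 8 (.imp (.not (.z (.v 1) [1])) (.imp (.z (.cm (.v 0) (.v 1)) [0, 1, 2, 3, 4, 5, 6, 7])
    (.z (.v 0) [0, 1, 2, 3, 4, 5, 6]))) (by decide +kernel) v w hv (nil0 _)

theorem o2 {v : V} {w : V} (hv : v ∈ Z3) : w ∉ E2 → ⁅v, w⁆ ∈ Z1 → v ∈ Z2 :=
  c2 [0, 1, 2, 3, 4, 5, 6] 9 [] 9 (.imp (.not (.z (.v 1) [0])) (.imp (.z (.cm (.v 0) (.v 1)) [0, 1, 2, 3, 4, 5, 6,
    7, 8]) (.z (.v 0) [0, 1, 2, 3, 4, 5, 6, 7]))) (by decide +kernel) v w hv (nil0 _)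

theorem o1 {v : V} {w : V} (hv : v ∈ Z2) : w ∉ E1 → ⁅v, w⁆ = 1 → v ∈ Z1 :=
  c2 [0, 1, 2, 3, 4, 5, 6, 7] 10 [] 10 (.imp (.not (.z (.v 1) [1])) (.imp (.eq (.cm (.v 0) (.v 1)) (.k [])) (.z (.v
    0) [0, 1, 2, 3, 4, 5, 6, 7, 8]))) (by decide +kernel) v w hv (nil0 _)

theorem dt_iff' {a b : V} (ha : a ∈ E2) (hb : b ∈ E2) : (Dt a b → ⁅a, b⁆ ∈ Z4) ∧ (⁅a, b⁆ ∈ Z4 → Dt a b) :=
  c2 [0] 6 [0] 6 (.and (.imp (.ez (.add (.mul (.co (.v 0) 3) (.co (.v 1) 1)) (.neg (.mul (.co (.v 0) 1) (.co (.v 1)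
    3))))) (.z (.cm (.v 0) (.v 1)) [0, 1, 2, 3, 4, 5])) (.imp (.z (.cm (.v 0) (.v 1)) [0, 1, 2, 3, 4, 5]) (.ez (.add
    (.mul (.co (.v 0) 3) (.co (.v 1) 1)) (.neg (.mul (.co (.v 0) 1) (.co (.v 1) 3))))))) (by decide +kernel) a b ha
    hb

theorem dt_iff {a b : V} (ha : a ∈ E2) (hb : b ∈ E2) : Dt a b ↔ ⁅a, b⁆ ∈ Z4 :=
  ⟨(dt_iff' ha hb).1, (dt_iff' ha hb).2⟩

theorem dt_tr {y a b : V} (hy : y ∈ E2) (ha : a ∈ E2) (hb : b ∈ E2) : y ∉ C3 → ⁅y, a⁆ ∈ Z4 → ⁅y, b⁆ ∈ Z4 → ⁅a, b⁆ ∈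
    Z4 := by
  have H : y ∉ C3 → Dt y a → Dt y b → Dt a b := c3 [0] 4 [0] 4 [0] 4 (.imp (.not (.z (.v 0) [0, 1, 3])) (.imp (.ez
    (.add (.mul (.co (.v 0) 3) (.co (.v 1) 1)) (.neg (.mul (.co (.v 0) 1) (.co (.v 1) 3))))) (.imp (.ez (.add (.mul
    (.co (.v 0) 3) (.co (.v 2) 1)) (.neg (.mul (.co (.v 0) 1) (.co (.v 2) 3))))) (.ez (.add (.mul (.co (.v 1) 3)
    (.co (.v 2) 1)) (.neg (.mul (.co (.v 1) 1) (.co (.v 2) 3)))))))) (by decide +kernel) y a b hy ha hb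
  simp (disch := repeat' first | assumption | apply mul_mem | apply inv_mem) only [dt_iff] at H
  exact H

theorem ly {y v : V} (hy : y ∈ E2) (hv : v ∈ E2) : y ∉ C3 → ⁅y, v⁆ ∈ Z4 → L3 y v C3 := by
  have H : y ∉ C3 → Dt y v → L3 y v C3 := c2 [0] 4 [0] 4 (.imp (.not (.z (.v 0) [0, 1, 3])) (.imp (.ez (.add (.mul
    (.co (.v 0) 3) (.co (.v 1) 1)) (.neg (.mul (.co (.v 0) 1) (.co (.v 1) 3))))) (.or (.z (.v 1) [0, 1, 3]) (.or (.z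
    (.mul (.inv (.v 0)) (.v 1)) [0, 1, 3]) (.z (.mul (.v 0) (.v 1)) [0, 1, 3]))))) (by decide +kernel) y v hy hv
  simp (disch := repeat' first | assumption | apply mul_mem | apply inv_mem) only [dt_iff] at H
  exact H

theorem f5 {y e : V} (hy : y ∈ Z6) (he : e ∈ E2) : e ∉ E1 → ⁅y, e⁆ ∈ Z4 → y ∈ C3 := by
  have H : e ∉ E1 → Dt y e → y ∈ C3 := c2 [0, 1] 4 [0] 4 (.imp (.not (.z (.v 1) [1])) (.imp (.ez (.add (.mul (.co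
    (.v 0) 3) (.co (.v 1) 1)) (.neg (.mul (.co (.v 0) 1) (.co (.v 1) 3))))) (.z (.v 0) [0, 1, 3])))
    (by decide +kernel) y e hy he
  have : y ∈ E1 := le_of_sub (by decide) hy
  have : y ∈ E2 := le_of_sub (by decide) hy
  simp (disch := repeat' first | assumption | apply mul_mem | apply inv_mem) only [dt_iff] at H
  exact H

theorem ty1 {z v : V} (hz : z ∈ Z4) (hv : v ∈ E2) : ⁅z, v⁆.co 7 = (z.co 6 * v.co 1) ∧ ⁅z, v⁆.co 8 = (z.co 6 * v.co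
    3) := by
  have H : ⁅z, v⁆.co 7 + -((z.co 6 * v.co 1)) = 0 ∧ ⁅z, v⁆.co 8 + -((z.co 6 * v.co 3)) = 0 := c2 [0, 1, 2, 3, 4, 5]
    9 [0] 9 (.and (.ez (.add (.co (.cm (.v 0) (.v 1)) 7) (.neg (.mul (.co (.v 0) 6) (.co (.v 1) 1))))) (.ez (.add
    (.co (.cm (.v 0) (.v 1)) 8) (.neg (.mul (.co (.v 0) 6) (.co (.v 1) 3)))))) (by decide +kernel) z v hz hv
  simp only [add_neg_eq_zero] at H
  exact H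

theorem ty2 {t y : V} (ht : t ∈ Z3) (hy : y ∈ E2) : (t.co 8 * y.co 1) = (t.co 7 * y.co 3) → t * y = y * t := by
  have H : (t.co 8 * y.co 1) + -((t.co 7 * y.co 3)) = 0 → t * y = y * t := c2 [0, 1, 2, 3, 4, 5, 6] 10 [0] 10 (.imp
    (.ez (.add (.mul (.co (.v 0) 8) (.co (.v 1) 1)) (.neg (.mul (.co (.v 0) 7) (.co (.v 1) 3))))) (.eq (.mul (.v 0)
    (.v 1)) (.mul (.v 1) (.v 0)))) (by decide +kernel) t y ht hy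
  simp only [add_neg_eq_zero] at H
  exact H

theorem ty {z v y : V} (hz : z ∈ Z4) (hv : v ∈ E2) (hy : y ∈ E2) (k : ⁅v, y⁆ ∈ Z4) : ⁅z, v⁆ * y = y * ⁅z, v⁆ := by
  refine ty2 (cZ4 hz) hy ?_
  have := (dt_iff hv hy).2 k
  rw [(ty1 hz hv).1, (ty1 hz hv).2]
  rw [Dt] at this
  linear_combination z.co 6 * this

theorem nz {z y : V} (hz : z ∈ Z4) (hy : y ∈ E2) : y ∉ C3 → ⁅z, y⁆ ∈ Z1 → z ∈ Z3 :=
  c2 [0, 1, 2, 3, 4, 5] 9 [0] 9 (.imp (.not (.z (.v 1) [0, 1, 3])) (.imp (.z (.cm (.v 0) (.v 1)) [0, 1, 2, 3, 4, 5,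
    6, 7, 8]) (.z (.v 0) [0, 1, 2, 3, 4, 5, 6]))) (by decide +kernel) z y hz hy

theorem o3c {a : V} (ha : a ∈ C3) : a ^ 3 = 1 → a ∈ C4 := by
  have H : a * a * a = 1 → a ∈ C4 := c1 [0, 1, 3] 10 (.imp (.eq (.p3 (.v 0)) (.k [])) (.z (.v 0) [0, 1, 3, 4]))
    (by decide +kernel) a ha
  simpa only [pow_three'] using H

theorem up2 {e e' b : V} (he : e ∈ E2) (he' : e' ∈ E2) (hb : b ∈ E2) : e ∉ C3 → ¬ ⁅e, e'⁆ ∈ Z4 → P9 e e' b C3 := by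
  have H : e ∉ C3 → ¬ Dt e e' → P9 e e' b C3 := c3 [0] 4 [0] 4 [0] 4 (.imp (.not (.z (.v 0) [0, 1, 3])) (.imp (.not
    (.ez (.add (.mul (.co (.v 0) 3) (.co (.v 1) 1)) (.neg (.mul (.co (.v 0) 1) (.co (.v 1) 3)))))) (.or (.or (.z (.v
    2) [0, 1, 3]) (.or (.z (.mul (.inv (.v 0)) (.v 2)) [0, 1, 3]) (.z (.mul (.v 0) (.v 2)) [0, 1, 3]))) (.or (.or
    (.z (.mul (.inv (.v 1)) (.v 2)) [0, 1, 3]) (.or (.z (.mul (.inv (.v 0)) (.mul (.inv (.v 1)) (.v 2))) [0, 1, 3])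
    (.z (.mul (.v 0) (.mul (.inv (.v 1)) (.v 2))) [0, 1, 3]))) (.or (.z (.mul (.v 1) (.v 2)) [0, 1, 3]) (.or (.z
    (.mul (.inv (.v 0)) (.mul (.v 1) (.v 2))) [0, 1, 3]) (.z (.mul (.v 0) (.mul (.v 1) (.v 2))) [0, 1, 3])))))))
    (by decide +kernel) e e' b he he' hb
  simp (disch := repeat' first | assumption | apply mul_mem | apply inv_mem) only [dt_iff] at H
  exact H

theorem k5 {e : V} (he : e ∈ E2) : e ∉ C3 → ⁅h 2, e⁆ ∉ Z3 ∨ ⁅h 5, e⁆ ∉ Z3 :=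
  c1 [0] 7 (.imp (.not (.z (.v 0) [0, 1, 3])) (.or (.not (.z (.cm (.k [0, 0, 1]) (.v 0)) [0, 1, 2, 3, 4, 5, 6]))
    (.not (.z (.cm (.k [0, 0, 0, 0, 0, 1]) (.v 0)) [0, 1, 2, 3, 4, 5, 6])))) (by decide +kernel) e he

theorem k6 {z a : V} (hz : z ∈ Z4) (ha : a ∈ C3) : z ∉ Z3 → a * z = z * a → a ∈ C4 :=
  c2 [0, 1, 2, 3, 4, 5] 10 [0, 1, 3] 10 (.imp (.not (.z (.v 0) [0, 1, 2, 3, 4, 5, 6])) (.imp (.eq (.mul (.v 1) (.v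
    0)) (.mul (.v 0) (.v 1))) (.z (.v 1) [0, 1, 3, 4]))) (by decide +kernel) z a hz ha

theorem k8 {v a : V} (hv : v ∈ C4) (ha : a ∈ C3) : v ∉ Z4 → ⁅a, v⁆ ∈ Z1 → a ∈ C4 :=
  c2 [0, 1, 3, 4] 9 [0, 1, 3] 9 (.imp (.not (.z (.v 0) [0, 1, 2, 3, 4, 5])) (.imp (.z (.cm (.v 1) (.v 0)) [0, 1, 2,
    3, 4, 5, 6, 7, 8]) (.z (.v 1) [0, 1, 3, 4]))) (by decide +kernel) v a hv ha

theorem k10 {v a : V} (hv : v ∈ C3) (ha : a ∈ C3) : v ∉ C4 → ⁅a, v⁆ ∈ Z1 → L3 v a Z4 :=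
  c2 [0, 1, 3] 9 [0, 1, 3] 9 (.imp (.not (.z (.v 0) [0, 1, 3, 4])) (.imp (.z (.cm (.v 1) (.v 0)) [0, 1, 2, 3, 4, 5,
    6, 7, 8]) (.or (.z (.v 1) [0, 1, 2, 3, 4, 5]) (.or (.z (.mul (.inv (.v 0)) (.v 1)) [0, 1, 2, 3, 4, 5]) (.z (.mul
    (.v 0) (.v 1)) [0, 1, 2, 3, 4, 5]))))) (by decide +kernel) v a hv ha

theorem k11 {x : V} (hx : x ∈ C4) : ¬ (L3 x (h 2) Z4 ∧ L3 x (h 5) Z4) :=
  c1 [0, 1, 3, 4] 6 (.not (.and (.or (.z (.k [0, 0, 1]) [0, 1, 2, 3, 4, 5]) (.or (.z (.mul (.inv (.v 0)) (.k [0, 0,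
    1])) [0, 1, 2, 3, 4, 5]) (.z (.mul (.v 0) (.k [0, 0, 1])) [0, 1, 2, 3, 4, 5]))) (.or (.z (.k [0, 0, 0, 0, 0, 1])
    [0, 1, 2, 3, 4, 5]) (.or (.z (.mul (.inv (.v 0)) (.k [0, 0, 0, 0, 0, 1])) [0, 1, 2, 3, 4, 5]) (.z (.mul (.v 0)
    (.k [0, 0, 0, 0, 0, 1])) [0, 1, 2, 3, 4, 5]))))) (by decide +kernel) x hx

theorem k12 {v w e : V} (hv : v ∈ C4) (hw : w ∈ C4) (he : e ∈ E2) : v ∉ Z4 → e ∉ C3 → ⁅v, e⁆ ∈ Z3 → ⁅w, e⁆ ∈ Z3 → L3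
    v w Z4 :=
  c3 [0, 1, 3, 4] 7 [0, 1, 3, 4] 7 [0] 7 (.imp (.not (.z (.v 0) [0, 1, 2, 3, 4, 5])) (.imp (.not (.z (.v 2) [0, 1,
    3])) (.imp (.z (.cm (.v 0) (.v 2)) [0, 1, 2, 3, 4, 5, 6]) (.imp (.z (.cm (.v 1) (.v 2)) [0, 1, 2, 3, 4, 5, 6])
    (.or (.z (.v 1) [0, 1, 2, 3, 4, 5]) (.or (.z (.mul (.inv (.v 0)) (.v 1)) [0, 1, 2, 3, 4, 5]) (.z (.mul (.v 0)
    (.v 1)) [0, 1, 2, 3, 4, 5]))))))) (by decide +kernel) v w e hv hw he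

end Cfsg.Agent.TH3
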