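import Cfsg.Agent.TH3.Fa1

/-! Project TH3: the bilinear maps on `E1`.  Generated; see `notes/TH3.md`. -/

set_option autoImplicit false
set_option maxRecDepth 100000
set_option Elab.async false
set_option linter.unusedVariables false
set_option linter.unusedSimpArgs false

namespace Cfsg.Agent.TH3

open scoped commutatorElement

theorem blf {a b : V} (ha : a ∈ E1) (hb : b ∈ E1) : ⁅a, b⁆.co 5 = (B5 a b) ∧ ⁅a, b⁆.co 6 = (B6 a b) ∧ ⁅a, b⁆.co 7 =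
    (B7 a b) := by
  have H : ⁅a, b⁆.co 5 + -((B5 a b)) = 0 ∧ ⁅a, b⁆.co 6 + -((B6 a b)) = 0 ∧ ⁅a, b⁆.co 7 + -((B7 a b)) = 0 := c2 [1] 8
    [1] 8 (.and (.ez (.add (.co (.cm (.v 0) (.v 1)) 5) (.neg (.add (.add (.add (.neg (.mul (.co (.v 0) 2) (.co (.v
    1) 0))) (.mul (.co (.v 0) 3) (.co (.v 1) 0))) (.mul (.co (.v 0) 0) (.co (.v 1) 2))) (.neg (.mul (.co (.v 0) 0)
    (.co (.v 1) 3))))))) (.and (.ez (.add (.co (.cm (.v 0) (.v 1)) 6) (.neg (.add (.add (.add (.add (.add (.add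
    (.add (.neg (.mul (.co (.v 0) 2) (.co (.v 1) 0))) (.neg (.mul (.co (.v 0) 3) (.co (.v 1) 0)))) (.mul (.co (.v 0)
    4) (.co (.v 1) 0))) (.mul (.co (.v 0) 0) (.co (.v 1) 2))) (.neg (.mul (.co (.v 0) 3) (.co (.v 1) 2)))) (.mul
    (.co (.v 0) 0) (.co (.v 1) 3))) (.mul (.co (.v 0) 2) (.co (.v 1) 3))) (.neg (.mul (.co (.v 0) 0) (.co (.v 1)
    4))))))) (.ez (.add (.co (.cm (.v 0) (.v 1)) 7) (.neg (.add (.add (.add (.add (.add (.add (.add (.neg (.mul (.co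
    (.v 0) 3) (.co (.v 1) 0))) (.neg (.mul (.co (.v 0) 3) (.co (.v 1) 2)))) (.neg (.mul (.co (.v 0) 4) (.co (.v 1)
    2)))) (.mul (.co (.v 0) 0) (.co (.v 1) 3))) (.mul (.co (.v 0) 2) (.co (.v 1) 3))) (.neg (.mul (.co (.v 0) 4)
    (.co (.v 1) 3)))) (.mul (.co (.v 0) 2) (.co (.v 1) 4))) (.mul (.co (.v 0) 3) (.co (.v 1) 4))))))))
    (by decide +kernel) a b ha hb
  simp only [add_neg_eq_zero] at H
  exact H

theorem bl_iff {a b : V} (ha : a ∈ E1) (hb : b ∈ E1) : Bl a b ↔ ⁅a, b⁆ ∈ Z2 := by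
  obtain ⟨h5, h6, h7⟩ := blf ha hb
  rw [Bl, ← h5, ← h6, ← h7]
  refine ⟨fun k i hi => ?_, fun k => ⟨k 5 (by decide), k 6 (by decide), k 7 (by decide)⟩⟩
  have := cE1E1 ha hb
  simp only [List.mem_cons, List.not_mem_nil, or_false] at hi
  rcases hi with rfl | rfl | rfl | rfl | rfl | rfl | rfl | rfl
  exacts [this _ (by decide), this _ (by decide), this _ (by decide), this _ (by decide), this _ (by decide),
    k.1, k.2.1, k.2.2]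

theorem cd_iff' {a d : V} (ha : a ∈ E1) (hd : d ∈ D1) : (Cd a d → a * d = d * a) ∧ (a * d = d * a → Cd a d) :=
  c2 [1] 10 [0, 1, 2, 3, 4] 10 (.and (.imp (.and (.ez (.add (.add (.add (.add (.mul (.co (.v 0) 0) (.co (.v 1) 5))
    (.neg (.mul (.co (.v 0) 3) (.co (.v 1) 5)))) (.mul (.co (.v 0) 4) (.co (.v 1) 5))) (.neg (.mul (.co (.v 0) 3)
    (.co (.v 1) 6)))) (.neg (.mul (.co (.v 0) 0) (.co (.v 1) 7))))) (.ez (.add (.add (.add (.add (.neg (.mul (.co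
    (.v 0) 2) (.co (.v 1) 5))) (.neg (.mul (.co (.v 0) 4) (.co (.v 1) 5)))) (.mul (.co (.v 0) 3) (.co (.v 1) 6)))
    (.mul (.co (.v 0) 4) (.co (.v 1) 6))) (.mul (.co (.v 0) 3) (.co (.v 1) 7))))) (.eq (.mul (.v 0) (.v 1)) (.mul
    (.v 1) (.v 0)))) (.imp (.eq (.mul (.v 0) (.v 1)) (.mul (.v 1) (.v 0))) (.and (.ez (.add (.add (.add (.add (.mul
    (.co (.v 0) 0) (.co (.v 1) 5)) (.neg (.mul (.co (.v 0) 3) (.co (.v 1) 5)))) (.mul (.co (.v 0) 4) (.co (.v 1)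
    5))) (.neg (.mul (.co (.v 0) 3) (.co (.v 1) 6)))) (.neg (.mul (.co (.v 0) 0) (.co (.v 1) 7))))) (.ez (.add (.add
    (.add (.add (.neg (.mul (.co (.v 0) 2) (.co (.v 1) 5))) (.neg (.mul (.co (.v 0) 4) (.co (.v 1) 5)))) (.mul (.co
    (.v 0) 3) (.co (.v 1) 6))) (.mul (.co (.v 0) 4) (.co (.v 1) 6))) (.mul (.co (.v 0) 3) (.co (.v 1) 7)))))))
    (by decide +kernel) a d ha hd

theorem cd_iff {a d : V} (ha : a ∈ E1) (hd : d ∈ D1) : Cd a d ↔ a * d = d * a :=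
  ⟨(cd_iff' ha hd).1, (cd_iff' ha hd).2⟩

theorem o3_iff' {a : V} (ha : a ∈ E1) : (O3 a → a * a * a = 1) ∧ (a * a * a = 1 → O3 a) :=
  c1 [1] 10 (.and (.imp (.and (.ez (.add (.add (.add (.add (.add (.mul (.mul (.co (.v 0) 0) (.co (.v 0) 0)) (.co (.v
    0) 2)) (.neg (.co (.v 0) 3))) (.mul (.mul (.co (.v 0) 0) (.co (.v 0) 0)) (.co (.v 0) 3))) (.neg (.mul (.mul (.co
    (.v 0) 0) (.co (.v 0) 2)) (.co (.v 0) 3)))) (.mul (.mul (.co (.v 0) 2) (.co (.v 0) 3)) (.co (.v 0) 3))) (.neg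
    (.mul (.mul (.co (.v 0) 0) (.co (.v 0) 2)) (.co (.v 0) 4))))) (.ez (.add (.add (.add (.add (.add (.add (.add
    (.add (.add (.mul (.mul (.co (.v 0) 0) (.co (.v 0) 2)) (.co (.v 0) 2)) (.neg (.co (.v 0) 3))) (.mul (.mul (.co
    (.v 0) 0) (.co (.v 0) 2)) (.co (.v 0) 3))) (.mul (.mul (.co (.v 0) 0) (.co (.v 0) 3)) (.co (.v 0) 3))) (.mul
    (.mul (.co (.v 0) 2) (.co (.v 0) 3)) (.co (.v 0) 3))) (.co (.v 0) 4)) (.neg (.mul (.mul (.co (.v 0) 0) (.co (.v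
    0) 3)) (.co (.v 0) 4)))) (.mul (.mul (.co (.v 0) 2) (.co (.v 0) 3)) (.co (.v 0) 4))) (.mul (.mul (.co (.v 0) 3)
    (.co (.v 0) 3)) (.co (.v 0) 4))) (.mul (.mul (.co (.v 0) 0) (.co (.v 0) 4)) (.co (.v 0) 4))))) (.eq (.p3 (.v 0))
    (.k []))) (.imp (.eq (.p3 (.v 0)) (.k [])) (.and (.ez (.add (.add (.add (.add (.add (.mul (.mul (.co (.v 0) 0)
    (.co (.v 0) 0)) (.co (.v 0) 2)) (.neg (.co (.v 0) 3))) (.mul (.mul (.co (.v 0) 0) (.co (.v 0) 0)) (.co (.v 0)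
    3))) (.neg (.mul (.mul (.co (.v 0) 0) (.co (.v 0) 2)) (.co (.v 0) 3)))) (.mul (.mul (.co (.v 0) 2) (.co (.v 0)
    3)) (.co (.v 0) 3))) (.neg (.mul (.mul (.co (.v 0) 0) (.co (.v 0) 2)) (.co (.v 0) 4))))) (.ez (.add (.add (.add
    (.add (.add (.add (.add (.add (.add (.mul (.mul (.co (.v 0) 0) (.co (.v 0) 2)) (.co (.v 0) 2)) (.neg (.co (.v 0)
    3))) (.mul (.mul (.co (.v 0) 0) (.co (.v 0) 2)) (.co (.v 0) 3))) (.mul (.mul (.co (.v 0) 0) (.co (.v 0) 3)) (.co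
    (.v 0) 3))) (.mul (.mul (.co (.v 0) 2) (.co (.v 0) 3)) (.co (.v 0) 3))) (.co (.v 0) 4)) (.neg (.mul (.mul (.co
    (.v 0) 0) (.co (.v 0) 3)) (.co (.v 0) 4)))) (.mul (.mul (.co (.v 0) 2) (.co (.v 0) 3)) (.co (.v 0) 4))) (.mul
    (.mul (.co (.v 0) 3) (.co (.v 0) 3)) (.co (.v 0) 4))) (.mul (.mul (.co (.v 0) 0) (.co (.v 0) 4)) (.co (.v 0)
    4))))))) (by decide +kernel) a ha

theorem o3_iff {a : V} (ha : a ∈ E1) : O3 a ↔ a * a * a = 1 :=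
  ⟨(o3_iff' ha).1, (o3_iff' ha).2⟩

end Cfsg.Agent.TH3
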