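import Cfsg.Agent.TH3.Fa3

/-! Project TH3: facts for the case `E ≤ E1`.  Generated; see `notes/TH3.md`. -/

set_option autoImplicit false
set_option maxRecDepth 100000
set_option Elab.async false
set_option linter.unusedVariables false
set_option linter.unusedSimpArgs false

namespace Cfsg.Agent.TH3

open scoped commutatorElement

theorem a1 {d x : V} (hd : d ∈ D1) (hx : x ∈ E1) : d ∉ Z2 → ¬ ((h 0 * d = d * h 0 ∨ x⁻¹ * h 0 * d = d * (x⁻¹ * h 0)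
    ∨ x * h 0 * d = d * (x * h 0)) ∧ (h 2 * d = d * h 2 ∨ x⁻¹ * h 2 * d = d * (x⁻¹ * h 2) ∨ x * h 2 * d = d * (x * h
    2)) ∧ (h 3 * d = d * h 3 ∨ x⁻¹ * h 3 * d = d * (x⁻¹ * h 3) ∨ x * h 3 * d = d * (x * h 3)) ∧ (h 4 * d = d * h 4 ∨
    x⁻¹ * h 4 * d = d * (x⁻¹ * h 4) ∨ x * h 4 * d = d * (x * h 4))) := by
  have H : d ∉ Z2 → ¬ ((Cd (h 0) d ∨ Cd (x⁻¹ * h 0) d ∨ Cd (x * h 0) d) ∧ (Cd (h 2) d ∨ Cd (x⁻¹ * h 2) d ∨ Cd (x * h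
    2) d) ∧ (Cd (h 3) d ∨ Cd (x⁻¹ * h 3) d ∨ Cd (x * h 3) d) ∧ (Cd (h 4) d ∨ Cd (x⁻¹ * h 4) d ∨ Cd (x * h 4) d)) :=
    c2 [0, 1, 2, 3, 4] 8 [1] 5 (.imp (.not (.z (.v 0) [0, 1, 2, 3, 4, 5, 6, 7])) (.not (.and (.or (.and (.ez (.add
    (.add (.add (.add (.mul (.co (.k [1]) 0) (.co (.v 0) 5)) (.neg (.mul (.co (.k [1]) 3) (.co (.v 0) 5)))) (.mul
    (.co (.k [1]) 4) (.co (.v 0) 5))) (.neg (.mul (.co (.k [1]) 3) (.co (.v 0) 6)))) (.neg (.mul (.co (.k [1]) 0)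
    (.co (.v 0) 7))))) (.ez (.add (.add (.add (.add (.neg (.mul (.co (.k [1]) 2) (.co (.v 0) 5))) (.neg (.mul (.co
    (.k [1]) 4) (.co (.v 0) 5)))) (.mul (.co (.k [1]) 3) (.co (.v 0) 6))) (.mul (.co (.k [1]) 4) (.co (.v 0) 6)))
    (.mul (.co (.k [1]) 3) (.co (.v 0) 7))))) (.or (.and (.ez (.add (.add (.add (.add (.mul (.co (.mul (.inv (.v 1))
    (.k [1])) 0) (.co (.v 0) 5)) (.neg (.mul (.co (.mul (.inv (.v 1)) (.k [1])) 3) (.co (.v 0) 5)))) (.mul (.co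
    (.mul (.inv (.v 1)) (.k [1])) 4) (.co (.v 0) 5))) (.neg (.mul (.co (.mul (.inv (.v 1)) (.k [1])) 3) (.co (.v 0)
    6)))) (.neg (.mul (.co (.mul (.inv (.v 1)) (.k [1])) 0) (.co (.v 0) 7))))) (.ez (.add (.add (.add (.add (.neg
    (.mul (.co (.mul (.inv (.v 1)) (.k [1])) 2) (.co (.v 0) 5))) (.neg (.mul (.co (.mul (.inv (.v 1)) (.k [1])) 4)
    (.co (.v 0) 5)))) (.mul (.co (.mul (.inv (.v 1)) (.k [1])) 3) (.co (.v 0) 6))) (.mul (.co (.mul (.inv (.v 1))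
    (.k [1])) 4) (.co (.v 0) 6))) (.mul (.co (.mul (.inv (.v 1)) (.k [1])) 3) (.co (.v 0) 7))))) (.and (.ez (.add
    (.add (.add (.add (.mul (.co (.mul (.v 1) (.k [1])) 0) (.co (.v 0) 5)) (.neg (.mul (.co (.mul (.v 1) (.k [1]))
    3) (.co (.v 0) 5)))) (.mul (.co (.mul (.v 1) (.k [1])) 4) (.co (.v 0) 5))) (.neg (.mul (.co (.mul (.v 1) (.k
    [1])) 3) (.co (.v 0) 6)))) (.neg (.mul (.co (.mul (.v 1) (.k [1])) 0) (.co (.v 0) 7))))) (.ez (.add (.add (.add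
    (.add (.neg (.mul (.co (.mul (.v 1) (.k [1])) 2) (.co (.v 0) 5))) (.neg (.mul (.co (.mul (.v 1) (.k [1])) 4)
    (.co (.v 0) 5)))) (.mul (.co (.mul (.v 1) (.k [1])) 3) (.co (.v 0) 6))) (.mul (.co (.mul (.v 1) (.k [1])) 4)
    (.co (.v 0) 6))) (.mul (.co (.mul (.v 1) (.k [1])) 3) (.co (.v 0) 7))))))) (.and (.or (.and (.ez (.add (.add
    (.add (.add (.mul (.co (.k [0, 0, 1]) 0) (.co (.v 0) 5)) (.neg (.mul (.co (.k [0, 0, 1]) 3) (.co (.v 0) 5))))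
    (.mul (.co (.k [0, 0, 1]) 4) (.co (.v 0) 5))) (.neg (.mul (.co (.k [0, 0, 1]) 3) (.co (.v 0) 6)))) (.neg (.mul
    (.co (.k [0, 0, 1]) 0) (.co (.v 0) 7))))) (.ez (.add (.add (.add (.add (.neg (.mul (.co (.k [0, 0, 1]) 2) (.co
    (.v 0) 5))) (.neg (.mul (.co (.k [0, 0, 1]) 4) (.co (.v 0) 5)))) (.mul (.co (.k [0, 0, 1]) 3) (.co (.v 0) 6)))
    (.mul (.co (.k [0, 0, 1]) 4) (.co (.v 0) 6))) (.mul (.co (.k [0, 0, 1]) 3) (.co (.v 0) 7))))) (.or (.and (.ez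
    (.add (.add (.add (.add (.mul (.co (.mul (.inv (.v 1)) (.k [0, 0, 1])) 0) (.co (.v 0) 5)) (.neg (.mul (.co (.mul
    (.inv (.v 1)) (.k [0, 0, 1])) 3) (.co (.v 0) 5)))) (.mul (.co (.mul (.inv (.v 1)) (.k [0, 0, 1])) 4) (.co (.v 0)
    5))) (.neg (.mul (.co (.mul (.inv (.v 1)) (.k [0, 0, 1])) 3) (.co (.v 0) 6)))) (.neg (.mul (.co (.mul (.inv (.v
    1)) (.k [0, 0, 1])) 0) (.co (.v 0) 7))))) (.ez (.add (.add (.add (.add (.neg (.mul (.co (.mul (.inv (.v 1)) (.k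
    [0, 0, 1])) 2) (.co (.v 0) 5))) (.neg (.mul (.co (.mul (.inv (.v 1)) (.k [0, 0, 1])) 4) (.co (.v 0) 5)))) (.mul
    (.co (.mul (.inv (.v 1)) (.k [0, 0, 1])) 3) (.co (.v 0) 6))) (.mul (.co (.mul (.inv (.v 1)) (.k [0, 0, 1])) 4)
    (.co (.v 0) 6))) (.mul (.co (.mul (.inv (.v 1)) (.k [0, 0, 1])) 3) (.co (.v 0) 7))))) (.and (.ez (.add (.add
    (.add (.add (.mul (.co (.mul (.v 1) (.k [0, 0, 1])) 0) (.co (.v 0) 5)) (.neg (.mul (.co (.mul (.v 1) (.k [0, 0,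
    1])) 3) (.co (.v 0) 5)))) (.mul (.co (.mul (.v 1) (.k [0, 0, 1])) 4) (.co (.v 0) 5))) (.neg (.mul (.co (.mul (.v
    1) (.k [0, 0, 1])) 3) (.co (.v 0) 6)))) (.neg (.mul (.co (.mul (.v 1) (.k [0, 0, 1])) 0) (.co (.v 0) 7))))) (.ez
    (.add (.add (.add (.add (.neg (.mul (.co (.mul (.v 1) (.k [0, 0, 1])) 2) (.co (.v 0) 5))) (.neg (.mul (.co (.mul
    (.v 1) (.k [0, 0, 1])) 4) (.co (.v 0) 5)))) (.mul (.co (.mul (.v 1) (.k [0, 0, 1])) 3) (.co (.v 0) 6))) (.mul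
    (.co (.mul (.v 1) (.k [0, 0, 1])) 4) (.co (.v 0) 6))) (.mul (.co (.mul (.v 1) (.k [0, 0, 1])) 3) (.co (.v 0)
    7))))))) (.and (.or (.and (.ez (.add (.add (.add (.add (.mul (.co (.k [0, 0, 0, 1]) 0) (.co (.v 0) 5)) (.neg
    (.mul (.co (.k [0, 0, 0, 1]) 3) (.co (.v 0) 5)))) (.mul (.co (.k [0, 0, 0, 1]) 4) (.co (.v 0) 5))) (.neg (.mul
    (.co (.k [0, 0, 0, 1]) 3) (.co (.v 0) 6)))) (.neg (.mul (.co (.k [0, 0, 0, 1]) 0) (.co (.v 0) 7))))) (.ez (.add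
    (.add (.add (.add (.neg (.mul (.co (.k [0, 0, 0, 1]) 2) (.co (.v 0) 5))) (.neg (.mul (.co (.k [0, 0, 0, 1]) 4)
    (.co (.v 0) 5)))) (.mul (.co (.k [0, 0, 0, 1]) 3) (.co (.v 0) 6))) (.mul (.co (.k [0, 0, 0, 1]) 4) (.co (.v 0)
    6))) (.mul (.co (.k [0, 0, 0, 1]) 3) (.co (.v 0) 7))))) (.or (.and (.ez (.add (.add (.add (.add (.mul (.co (.mul
    (.inv (.v 1)) (.k [0, 0, 0, 1])) 0) (.co (.v 0) 5)) (.neg (.mul (.co (.mul (.inv (.v 1)) (.k [0, 0, 0, 1])) 3)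
    (.co (.v 0) 5)))) (.mul (.co (.mul (.inv (.v 1)) (.k [0, 0, 0, 1])) 4) (.co (.v 0) 5))) (.neg (.mul (.co (.mul
    (.inv (.v 1)) (.k [0, 0, 0, 1])) 3) (.co (.v 0) 6)))) (.neg (.mul (.co (.mul (.inv (.v 1)) (.k [0, 0, 0, 1])) 0)
    (.co (.v 0) 7))))) (.ez (.add (.add (.add (.add (.neg (.mul (.co (.mul (.inv (.v 1)) (.k [0, 0, 0, 1])) 2) (.co
    (.v 0) 5))) (.neg (.mul (.co (.mul (.inv (.v 1)) (.k [0, 0, 0, 1])) 4) (.co (.v 0) 5)))) (.mul (.co (.mul (.inv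
    (.v 1)) (.k [0, 0, 0, 1])) 3) (.co (.v 0) 6))) (.mul (.co (.mul (.inv (.v 1)) (.k [0, 0, 0, 1])) 4) (.co (.v 0)
    6))) (.mul (.co (.mul (.inv (.v 1)) (.k [0, 0, 0, 1])) 3) (.co (.v 0) 7))))) (.and (.ez (.add (.add (.add (.add
    (.mul (.co (.mul (.v 1) (.k [0, 0, 0, 1])) 0) (.co (.v 0) 5)) (.neg (.mul (.co (.mul (.v 1) (.k [0, 0, 0, 1]))
    3) (.co (.v 0) 5)))) (.mul (.co (.mul (.v 1) (.k [0, 0, 0, 1])) 4) (.co (.v 0) 5))) (.neg (.mul (.co (.mul (.v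
    1) (.k [0, 0, 0, 1])) 3) (.co (.v 0) 6)))) (.neg (.mul (.co (.mul (.v 1) (.k [0, 0, 0, 1])) 0) (.co (.v 0)
    7))))) (.ez (.add (.add (.add (.add (.neg (.mul (.co (.mul (.v 1) (.k [0, 0, 0, 1])) 2) (.co (.v 0) 5))) (.neg
    (.mul (.co (.mul (.v 1) (.k [0, 0, 0, 1])) 4) (.co (.v 0) 5)))) (.mul (.co (.mul (.v 1) (.k [0, 0, 0, 1])) 3)
    (.co (.v 0) 6))) (.mul (.co (.mul (.v 1) (.k [0, 0, 0, 1])) 4) (.co (.v 0) 6))) (.mul (.co (.mul (.v 1) (.k [0,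
    0, 0, 1])) 3) (.co (.v 0) 7))))))) (.or (.and (.ez (.add (.add (.add (.add (.mul (.co (.k [0, 0, 0, 0, 1]) 0)
    (.co (.v 0) 5)) (.neg (.mul (.co (.k [0, 0, 0, 0, 1]) 3) (.co (.v 0) 5)))) (.mul (.co (.k [0, 0, 0, 0, 1]) 4)
    (.co (.v 0) 5))) (.neg (.mul (.co (.k [0, 0, 0, 0, 1]) 3) (.co (.v 0) 6)))) (.neg (.mul (.co (.k [0, 0, 0, 0,
    1]) 0) (.co (.v 0) 7))))) (.ez (.add (.add (.add (.add (.neg (.mul (.co (.k [0, 0, 0, 0, 1]) 2) (.co (.v 0) 5)))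
    (.neg (.mul (.co (.k [0, 0, 0, 0, 1]) 4) (.co (.v 0) 5)))) (.mul (.co (.k [0, 0, 0, 0, 1]) 3) (.co (.v 0) 6)))
    (.mul (.co (.k [0, 0, 0, 0, 1]) 4) (.co (.v 0) 6))) (.mul (.co (.k [0, 0, 0, 0, 1]) 3) (.co (.v 0) 7))))) (.or
    (.and (.ez (.add (.add (.add (.add (.mul (.co (.mul (.inv (.v 1)) (.k [0, 0, 0, 0, 1])) 0) (.co (.v 0) 5)) (.neg
    (.mul (.co (.mul (.inv (.v 1)) (.k [0, 0, 0, 0, 1])) 3) (.co (.v 0) 5)))) (.mul (.co (.mul (.inv (.v 1)) (.k [0,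
    0, 0, 0, 1])) 4) (.co (.v 0) 5))) (.neg (.mul (.co (.mul (.inv (.v 1)) (.k [0, 0, 0, 0, 1])) 3) (.co (.v 0)
    6)))) (.neg (.mul (.co (.mul (.inv (.v 1)) (.k [0, 0, 0, 0, 1])) 0) (.co (.v 0) 7))))) (.ez (.add (.add (.add
    (.add (.neg (.mul (.co (.mul (.inv (.v 1)) (.k [0, 0, 0, 0, 1])) 2) (.co (.v 0) 5))) (.neg (.mul (.co (.mul
    (.inv (.v 1)) (.k [0, 0, 0, 0, 1])) 4) (.co (.v 0) 5)))) (.mul (.co (.mul (.inv (.v 1)) (.k [0, 0, 0, 0, 1])) 3)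
    (.co (.v 0) 6))) (.mul (.co (.mul (.inv (.v 1)) (.k [0, 0, 0, 0, 1])) 4) (.co (.v 0) 6))) (.mul (.co (.mul (.inv
    (.v 1)) (.k [0, 0, 0, 0, 1])) 3) (.co (.v 0) 7))))) (.and (.ez (.add (.add (.add (.add (.mul (.co (.mul (.v 1)
    (.k [0, 0, 0, 0, 1])) 0) (.co (.v 0) 5)) (.neg (.mul (.co (.mul (.v 1) (.k [0, 0, 0, 0, 1])) 3) (.co (.v 0)
    5)))) (.mul (.co (.mul (.v 1) (.k [0, 0, 0, 0, 1])) 4) (.co (.v 0) 5))) (.neg (.mul (.co (.mul (.v 1) (.k [0, 0,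
    0, 0, 1])) 3) (.co (.v 0) 6)))) (.neg (.mul (.co (.mul (.v 1) (.k [0, 0, 0, 0, 1])) 0) (.co (.v 0) 7))))) (.ez
    (.add (.add (.add (.add (.neg (.mul (.co (.mul (.v 1) (.k [0, 0, 0, 0, 1])) 2) (.co (.v 0) 5))) (.neg (.mul (.co
    (.mul (.v 1) (.k [0, 0, 0, 0, 1])) 4) (.co (.v 0) 5)))) (.mul (.co (.mul (.v 1) (.k [0, 0, 0, 0, 1])) 3) (.co
    (.v 0) 6))) (.mul (.co (.mul (.v 1) (.k [0, 0, 0, 0, 1])) 4) (.co (.v 0) 6))) (.mul (.co (.mul (.v 1) (.k [0, 0,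
    0, 0, 1])) 3) (.co (.v 0) 7)))))))))))) (by decide +kernel) d x hd hx
  have : d ∈ E1 := le_of_sub (by decide) hd
  have : d ∈ E2 := le_of_sub (by decide) hd
  have : h 0 ∈ E1 := hm (by decide)
  have : h 2 ∈ E1 := hm (by decide)
  have : h 2 ∈ E2 := hm (by decide)
  have : h 3 ∈ E1 := hm (by decide)
  have : h 3 ∈ E2 := hm (by decide)
  have : h 4 ∈ E1 := hm (by decide)
  have : h 4 ∈ E2 := hm (by decide)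
  simp (disch := repeat' first | assumption | apply mul_mem | apply inv_mem) only [cd_iff] at H
  exact H

theorem c4 (k : List ℕ) (n : ℕ) (k' : List ℕ) (n' : ℕ) (k'' : List ℕ) (n'' : ℕ) (l : List ℕ) (m : ℕ) (f : Fm)
    (e : chk (code k n ++ (code k' n' ++ (code k'' n'' ++ (code l m ++ [])))) f = true) (a b c d : V)
    (ha : ∀ i ∈ k, a.co i = 0) (hb : ∀ i ∈ k', b.co i = 0) (hc : ∀ i ∈ k'', c.co i = 0) (hd : ∀ i ∈ l, d.co i = 0) :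
    f.sem (cons a (cons b (cons c (cons d fun _ => 1)))) :=
  chk_raw e _ (((((Zr.nil _).cons hd).cons hc).cons hb).cons ha)

theorem a2 {d d' y w : V} (hd : d ∈ D1) (hd' : d' ∈ D1) (hy : y ∈ E1) (hw : w ∈ E1) : d ∉ Z2 → ¬ L3 d d' Z2 → y ∉ D1
    → y * d = d * y → y * d' = d' * y → w * d = d * w → w * d' = d' * w → L3 y w D1 := by
  have H : d ∉ Z2 → ¬ L3 d d' Z2 → y ∉ D1 → Cd y d → Cd y d' → Cd w d → Cd w d' → L3 y w D1 := c4 [0, 1, 2, 3, 4] 8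
    [0, 1, 2, 3, 4] 8 [1] 5 [1] 5 (.imp (.not (.z (.v 0) [0, 1, 2, 3, 4, 5, 6, 7])) (.imp (.not (.or (.z (.v 1) [0,
    1, 2, 3, 4, 5, 6, 7]) (.or (.z (.mul (.inv (.v 0)) (.v 1)) [0, 1, 2, 3, 4, 5, 6, 7]) (.z (.mul (.v 0) (.v 1))
    [0, 1, 2, 3, 4, 5, 6, 7])))) (.imp (.not (.z (.v 2) [0, 1, 2, 3, 4])) (.imp (.and (.ez (.add (.add (.add (.add
    (.mul (.co (.v 2) 0) (.co (.v 0) 5)) (.neg (.mul (.co (.v 2) 3) (.co (.v 0) 5)))) (.mul (.co (.v 2) 4) (.co (.v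
    0) 5))) (.neg (.mul (.co (.v 2) 3) (.co (.v 0) 6)))) (.neg (.mul (.co (.v 2) 0) (.co (.v 0) 7))))) (.ez (.add
    (.add (.add (.add (.neg (.mul (.co (.v 2) 2) (.co (.v 0) 5))) (.neg (.mul (.co (.v 2) 4) (.co (.v 0) 5)))) (.mul
    (.co (.v 2) 3) (.co (.v 0) 6))) (.mul (.co (.v 2) 4) (.co (.v 0) 6))) (.mul (.co (.v 2) 3) (.co (.v 0) 7)))))
    (.imp (.and (.ez (.add (.add (.add (.add (.mul (.co (.v 2) 0) (.co (.v 1) 5)) (.neg (.mul (.co (.v 2) 3) (.co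
    (.v 1) 5)))) (.mul (.co (.v 2) 4) (.co (.v 1) 5))) (.neg (.mul (.co (.v 2) 3) (.co (.v 1) 6)))) (.neg (.mul (.co
    (.v 2) 0) (.co (.v 1) 7))))) (.ez (.add (.add (.add (.add (.neg (.mul (.co (.v 2) 2) (.co (.v 1) 5))) (.neg
    (.mul (.co (.v 2) 4) (.co (.v 1) 5)))) (.mul (.co (.v 2) 3) (.co (.v 1) 6))) (.mul (.co (.v 2) 4) (.co (.v 1)
    6))) (.mul (.co (.v 2) 3) (.co (.v 1) 7))))) (.imp (.and (.ez (.add (.add (.add (.add (.mul (.co (.v 3) 0) (.co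
    (.v 0) 5)) (.neg (.mul (.co (.v 3) 3) (.co (.v 0) 5)))) (.mul (.co (.v 3) 4) (.co (.v 0) 5))) (.neg (.mul (.co
    (.v 3) 3) (.co (.v 0) 6)))) (.neg (.mul (.co (.v 3) 0) (.co (.v 0) 7))))) (.ez (.add (.add (.add (.add (.neg
    (.mul (.co (.v 3) 2) (.co (.v 0) 5))) (.neg (.mul (.co (.v 3) 4) (.co (.v 0) 5)))) (.mul (.co (.v 3) 3) (.co (.v
    0) 6))) (.mul (.co (.v 3) 4) (.co (.v 0) 6))) (.mul (.co (.v 3) 3) (.co (.v 0) 7))))) (.imp (.and (.ez (.add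
    (.add (.add (.add (.mul (.co (.v 3) 0) (.co (.v 1) 5)) (.neg (.mul (.co (.v 3) 3) (.co (.v 1) 5)))) (.mul (.co
    (.v 3) 4) (.co (.v 1) 5))) (.neg (.mul (.co (.v 3) 3) (.co (.v 1) 6)))) (.neg (.mul (.co (.v 3) 0) (.co (.v 1)
    7))))) (.ez (.add (.add (.add (.add (.neg (.mul (.co (.v 3) 2) (.co (.v 1) 5))) (.neg (.mul (.co (.v 3) 4) (.co
    (.v 1) 5)))) (.mul (.co (.v 3) 3) (.co (.v 1) 6))) (.mul (.co (.v 3) 4) (.co (.v 1) 6))) (.mul (.co (.v 3) 3)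
    (.co (.v 1) 7))))) (.or (.z (.v 3) [0, 1, 2, 3, 4]) (.or (.z (.mul (.inv (.v 2)) (.v 3)) [0, 1, 2, 3, 4]) (.z
    (.mul (.v 2) (.v 3)) [0, 1, 2, 3, 4])))))))))) (by decide +kernel) d d' y w hd hd' hy hw
  have : d ∈ E1 := le_of_sub (by decide) hd
  have : d ∈ E2 := le_of_sub (by decide) hd
  have : d' ∈ E1 := le_of_sub (by decide) hd'
  have : d' ∈ E2 := le_of_sub (by decide) hd'
  simp (disch := repeat' first | assumption | apply mul_mem | apply inv_mem) only [cd_iff] at H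
  exact H

theorem a3 {s z t : V} (hs : s ∈ Z2) (hz : z ∈ Z2) (ht : t ∈ Z2) : ¬ s = 1 → ¬ L3 s z ⊥ → P9 s z t ⊥ := by
  have H : ¬ s = 1 → ¬ (z = 1 ∨ s⁻¹ * z = 1 ∨ s * z = 1) → (t = 1 ∨ s⁻¹ * t = 1 ∨ s * t = 1) ∨ (z⁻¹ * t = 1 ∨ s⁻¹ *
    (z⁻¹ * t) = 1 ∨ s * (z⁻¹ * t) = 1) ∨ z * t = 1 ∨ s⁻¹ * (z * t) = 1 ∨ s * (z * t) = 1 := c3 [0, 1, 2, 3, 4, 5, 6,
    7] 10 [0, 1, 2, 3, 4, 5, 6, 7] 10 [0, 1, 2, 3, 4, 5, 6, 7] 10 (.imp (.not (.eq (.v 0) (.k []))) (.imp (.not (.or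
    (.eq (.v 1) (.k [])) (.or (.eq (.mul (.inv (.v 0)) (.v 1)) (.k [])) (.eq (.mul (.v 0) (.v 1)) (.k []))))) (.or
    (.or (.eq (.v 2) (.k [])) (.or (.eq (.mul (.inv (.v 0)) (.v 2)) (.k [])) (.eq (.mul (.v 0) (.v 2)) (.k []))))
    (.or (.or (.eq (.mul (.inv (.v 1)) (.v 2)) (.k [])) (.or (.eq (.mul (.inv (.v 0)) (.mul (.inv (.v 1)) (.v 2)))
    (.k [])) (.eq (.mul (.v 0) (.mul (.inv (.v 1)) (.v 2))) (.k [])))) (.or (.eq (.mul (.v 1) (.v 2)) (.k [])) (.or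
    (.eq (.mul (.inv (.v 0)) (.mul (.v 1) (.v 2))) (.k [])) (.eq (.mul (.v 0) (.mul (.v 1) (.v 2))) (.k []))))))))
    (by decide +kernel) s z t hs hz ht
  simpa only [P9, L3, Subgroup.mem_bot] using H

theorem a4 {x y : V} (hx : x ∈ E1) (hy : y ∈ E1) : ¬ (P9 y x (h 0) D1 ∧ P9 y x (h 2) D1 ∧ P9 y x (h 3) D1 ∧ P9 y x
    (h 4) D1) :=
  c2 [1] 5 [1] 5 (.not (.and (.or (.or (.z (.k [1]) [0, 1, 2, 3, 4]) (.or (.z (.mul (.inv (.v 1)) (.k [1])) [0, 1,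
    2, 3, 4]) (.z (.mul (.v 1) (.k [1])) [0, 1, 2, 3, 4]))) (.or (.or (.z (.mul (.inv (.v 0)) (.k [1])) [0, 1, 2, 3,
    4]) (.or (.z (.mul (.inv (.v 1)) (.mul (.inv (.v 0)) (.k [1]))) [0, 1, 2, 3, 4]) (.z (.mul (.v 1) (.mul (.inv
    (.v 0)) (.k [1]))) [0, 1, 2, 3, 4]))) (.or (.z (.mul (.v 0) (.k [1])) [0, 1, 2, 3, 4]) (.or (.z (.mul (.inv (.v
    1)) (.mul (.v 0) (.k [1]))) [0, 1, 2, 3, 4]) (.z (.mul (.v 1) (.mul (.v 0) (.k [1]))) [0, 1, 2, 3, 4]))))) (.and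
    (.or (.or (.z (.k [0, 0, 1]) [0, 1, 2, 3, 4]) (.or (.z (.mul (.inv (.v 1)) (.k [0, 0, 1])) [0, 1, 2, 3, 4]) (.z
    (.mul (.v 1) (.k [0, 0, 1])) [0, 1, 2, 3, 4]))) (.or (.or (.z (.mul (.inv (.v 0)) (.k [0, 0, 1])) [0, 1, 2, 3,
    4]) (.or (.z (.mul (.inv (.v 1)) (.mul (.inv (.v 0)) (.k [0, 0, 1]))) [0, 1, 2, 3, 4]) (.z (.mul (.v 1) (.mul
    (.inv (.v 0)) (.k [0, 0, 1]))) [0, 1, 2, 3, 4]))) (.or (.z (.mul (.v 0) (.k [0, 0, 1])) [0, 1, 2, 3, 4]) (.or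
    (.z (.mul (.inv (.v 1)) (.mul (.v 0) (.k [0, 0, 1]))) [0, 1, 2, 3, 4]) (.z (.mul (.v 1) (.mul (.v 0) (.k [0, 0,
    1]))) [0, 1, 2, 3, 4]))))) (.and (.or (.or (.z (.k [0, 0, 0, 1]) [0, 1, 2, 3, 4]) (.or (.z (.mul (.inv (.v 1))
    (.k [0, 0, 0, 1])) [0, 1, 2, 3, 4]) (.z (.mul (.v 1) (.k [0, 0, 0, 1])) [0, 1, 2, 3, 4]))) (.or (.or (.z (.mul
    (.inv (.v 0)) (.k [0, 0, 0, 1])) [0, 1, 2, 3, 4]) (.or (.z (.mul (.inv (.v 1)) (.mul (.inv (.v 0)) (.k [0, 0, 0,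
    1]))) [0, 1, 2, 3, 4]) (.z (.mul (.v 1) (.mul (.inv (.v 0)) (.k [0, 0, 0, 1]))) [0, 1, 2, 3, 4]))) (.or (.z
    (.mul (.v 0) (.k [0, 0, 0, 1])) [0, 1, 2, 3, 4]) (.or (.z (.mul (.inv (.v 1)) (.mul (.v 0) (.k [0, 0, 0, 1])))
    [0, 1, 2, 3, 4]) (.z (.mul (.v 1) (.mul (.v 0) (.k [0, 0, 0, 1]))) [0, 1, 2, 3, 4]))))) (.or (.or (.z (.k [0, 0,
    0, 0, 1]) [0, 1, 2, 3, 4]) (.or (.z (.mul (.inv (.v 1)) (.k [0, 0, 0, 0, 1])) [0, 1, 2, 3, 4]) (.z (.mul (.v 1)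
    (.k [0, 0, 0, 0, 1])) [0, 1, 2, 3, 4]))) (.or (.or (.z (.mul (.inv (.v 0)) (.k [0, 0, 0, 0, 1])) [0, 1, 2, 3,
    4]) (.or (.z (.mul (.inv (.v 1)) (.mul (.inv (.v 0)) (.k [0, 0, 0, 0, 1]))) [0, 1, 2, 3, 4]) (.z (.mul (.v 1)
    (.mul (.inv (.v 0)) (.k [0, 0, 0, 0, 1]))) [0, 1, 2, 3, 4]))) (.or (.z (.mul (.v 0) (.k [0, 0, 0, 0, 1])) [0, 1,
    2, 3, 4]) (.or (.z (.mul (.inv (.v 1)) (.mul (.v 0) (.k [0, 0, 0, 0, 1]))) [0, 1, 2, 3, 4]) (.z (.mul (.v 1)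
    (.mul (.v 0) (.k [0, 0, 0, 0, 1]))) [0, 1, 2, 3, 4]))))))))) (by decide +kernel) x y hx hy

theorem l3bl {y a b : V} (hy : y ∈ E1) (ha : a ∈ E1) (hb : b ∈ E1) : L3 y a D1 → L3 y b D1 → ⁅a, b⁆ ∈ Z2 := by
  have H : L3 y a D1 → L3 y b D1 → Bl a b := c3 [1] 5 [1] 5 [1] 5 (.imp (.or (.z (.v 1) [0, 1, 2, 3, 4]) (.or (.z
    (.mul (.inv (.v 0)) (.v 1)) [0, 1, 2, 3, 4]) (.z (.mul (.v 0) (.v 1)) [0, 1, 2, 3, 4]))) (.imp (.or (.z (.v 2)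
    [0, 1, 2, 3, 4]) (.or (.z (.mul (.inv (.v 0)) (.v 2)) [0, 1, 2, 3, 4]) (.z (.mul (.v 0) (.v 2)) [0, 1, 2, 3,
    4]))) (.and (.ez (.add (.add (.add (.neg (.mul (.co (.v 1) 2) (.co (.v 2) 0))) (.mul (.co (.v 1) 3) (.co (.v 2)
    0))) (.mul (.co (.v 1) 0) (.co (.v 2) 2))) (.neg (.mul (.co (.v 1) 0) (.co (.v 2) 3))))) (.and (.ez (.add (.add
    (.add (.add (.add (.add (.add (.neg (.mul (.co (.v 1) 2) (.co (.v 2) 0))) (.neg (.mul (.co (.v 1) 3) (.co (.v 2)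
    0)))) (.mul (.co (.v 1) 4) (.co (.v 2) 0))) (.mul (.co (.v 1) 0) (.co (.v 2) 2))) (.neg (.mul (.co (.v 1) 3)
    (.co (.v 2) 2)))) (.mul (.co (.v 1) 0) (.co (.v 2) 3))) (.mul (.co (.v 1) 2) (.co (.v 2) 3))) (.neg (.mul (.co
    (.v 1) 0) (.co (.v 2) 4))))) (.ez (.add (.add (.add (.add (.add (.add (.add (.neg (.mul (.co (.v 1) 3) (.co (.v
    2) 0))) (.neg (.mul (.co (.v 1) 3) (.co (.v 2) 2)))) (.neg (.mul (.co (.v 1) 4) (.co (.v 2) 2)))) (.mul (.co (.v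
    1) 0) (.co (.v 2) 3))) (.mul (.co (.v 1) 2) (.co (.v 2) 3))) (.neg (.mul (.co (.v 1) 4) (.co (.v 2) 3)))) (.mul
    (.co (.v 1) 2) (.co (.v 2) 4))) (.mul (.co (.v 1) 3) (.co (.v 2) 4)))))))) (by decide +kernel) y a b hy ha hb
  simp (disch := repeat' first | assumption | apply mul_mem | apply inv_mem) only [bl_iff] at H
  exact H

theorem b1 {x y : V} (hx : x ∈ E1) (hy : y ∈ E1) : y ∉ D1 → ¬ ((⁅h 0, y⁆ ∈ Z2 ∨ ⁅x⁻¹ * h 0, y⁆ ∈ Z2 ∨ ⁅x * h 0, y⁆ ∈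
    Z2) ∧ (⁅h 2, y⁆ ∈ Z2 ∨ ⁅x⁻¹ * h 2, y⁆ ∈ Z2 ∨ ⁅x * h 2, y⁆ ∈ Z2) ∧ (⁅h 3, y⁆ ∈ Z2 ∨ ⁅x⁻¹ * h 3, y⁆ ∈ Z2 ∨ ⁅x * h
    3, y⁆ ∈ Z2) ∧ (⁅h 4, y⁆ ∈ Z2 ∨ ⁅x⁻¹ * h 4, y⁆ ∈ Z2 ∨ ⁅x * h 4, y⁆ ∈ Z2)) := by
  have H : y ∉ D1 → ¬ ((Bl (h 0) y ∨ Bl (x⁻¹ * h 0) y ∨ Bl (x * h 0) y) ∧ (Bl (h 2) y ∨ Bl (x⁻¹ * h 2) y ∨ Bl (x * h
    2) y) ∧ (Bl (h 3) y ∨ Bl (x⁻¹ * h 3) y ∨ Bl (x * h 3) y) ∧ (Bl (h 4) y ∨ Bl (x⁻¹ * h 4) y ∨ Bl (x * h 4) y)) :=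
    c2 [1] 5 [1] 5 (.imp (.not (.z (.v 1) [0, 1, 2, 3, 4])) (.not (.and (.or (.and (.ez (.add (.add (.add (.neg
    (.mul (.co (.k [1]) 2) (.co (.v 1) 0))) (.mul (.co (.k [1]) 3) (.co (.v 1) 0))) (.mul (.co (.k [1]) 0) (.co (.v
    1) 2))) (.neg (.mul (.co (.k [1]) 0) (.co (.v 1) 3))))) (.and (.ez (.add (.add (.add (.add (.add (.add (.add
    (.neg (.mul (.co (.k [1]) 2) (.co (.v 1) 0))) (.neg (.mul (.co (.k [1]) 3) (.co (.v 1) 0)))) (.mul (.co (.k [1])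
    4) (.co (.v 1) 0))) (.mul (.co (.k [1]) 0) (.co (.v 1) 2))) (.neg (.mul (.co (.k [1]) 3) (.co (.v 1) 2)))) (.mul
    (.co (.k [1]) 0) (.co (.v 1) 3))) (.mul (.co (.k [1]) 2) (.co (.v 1) 3))) (.neg (.mul (.co (.k [1]) 0) (.co (.v
    1) 4))))) (.ez (.add (.add (.add (.add (.add (.add (.add (.neg (.mul (.co (.k [1]) 3) (.co (.v 1) 0))) (.neg
    (.mul (.co (.k [1]) 3) (.co (.v 1) 2)))) (.neg (.mul (.co (.k [1]) 4) (.co (.v 1) 2)))) (.mul (.co (.k [1]) 0)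
    (.co (.v 1) 3))) (.mul (.co (.k [1]) 2) (.co (.v 1) 3))) (.neg (.mul (.co (.k [1]) 4) (.co (.v 1) 3)))) (.mul
    (.co (.k [1]) 2) (.co (.v 1) 4))) (.mul (.co (.k [1]) 3) (.co (.v 1) 4)))))) (.or (.and (.ez (.add (.add (.add
    (.neg (.mul (.co (.mul (.inv (.v 0)) (.k [1])) 2) (.co (.v 1) 0))) (.mul (.co (.mul (.inv (.v 0)) (.k [1])) 3)
    (.co (.v 1) 0))) (.mul (.co (.mul (.inv (.v 0)) (.k [1])) 0) (.co (.v 1) 2))) (.neg (.mul (.co (.mul (.inv (.v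
    0)) (.k [1])) 0) (.co (.v 1) 3))))) (.and (.ez (.add (.add (.add (.add (.add (.add (.add (.neg (.mul (.co (.mul
    (.inv (.v 0)) (.k [1])) 2) (.co (.v 1) 0))) (.neg (.mul (.co (.mul (.inv (.v 0)) (.k [1])) 3) (.co (.v 1) 0))))
    (.mul (.co (.mul (.inv (.v 0)) (.k [1])) 4) (.co (.v 1) 0))) (.mul (.co (.mul (.inv (.v 0)) (.k [1])) 0) (.co
    (.v 1) 2))) (.neg (.mul (.co (.mul (.inv (.v 0)) (.k [1])) 3) (.co (.v 1) 2)))) (.mul (.co (.mul (.inv (.v 0))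
    (.k [1])) 0) (.co (.v 1) 3))) (.mul (.co (.mul (.inv (.v 0)) (.k [1])) 2) (.co (.v 1) 3))) (.neg (.mul (.co
    (.mul (.inv (.v 0)) (.k [1])) 0) (.co (.v 1) 4))))) (.ez (.add (.add (.add (.add (.add (.add (.add (.neg (.mul
    (.co (.mul (.inv (.v 0)) (.k [1])) 3) (.co (.v 1) 0))) (.neg (.mul (.co (.mul (.inv (.v 0)) (.k [1])) 3) (.co
    (.v 1) 2)))) (.neg (.mul (.co (.mul (.inv (.v 0)) (.k [1])) 4) (.co (.v 1) 2)))) (.mul (.co (.mul (.inv (.v 0))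
    (.k [1])) 0) (.co (.v 1) 3))) (.mul (.co (.mul (.inv (.v 0)) (.k [1])) 2) (.co (.v 1) 3))) (.neg (.mul (.co
    (.mul (.inv (.v 0)) (.k [1])) 4) (.co (.v 1) 3)))) (.mul (.co (.mul (.inv (.v 0)) (.k [1])) 2) (.co (.v 1) 4)))
    (.mul (.co (.mul (.inv (.v 0)) (.k [1])) 3) (.co (.v 1) 4)))))) (.and (.ez (.add (.add (.add (.neg (.mul (.co
    (.mul (.v 0) (.k [1])) 2) (.co (.v 1) 0))) (.mul (.co (.mul (.v 0) (.k [1])) 3) (.co (.v 1) 0))) (.mul (.co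
    (.mul (.v 0) (.k [1])) 0) (.co (.v 1) 2))) (.neg (.mul (.co (.mul (.v 0) (.k [1])) 0) (.co (.v 1) 3))))) (.and
    (.ez (.add (.add (.add (.add (.add (.add (.add (.neg (.mul (.co (.mul (.v 0) (.k [1])) 2) (.co (.v 1) 0))) (.neg
    (.mul (.co (.mul (.v 0) (.k [1])) 3) (.co (.v 1) 0)))) (.mul (.co (.mul (.v 0) (.k [1])) 4) (.co (.v 1) 0)))
    (.mul (.co (.mul (.v 0) (.k [1])) 0) (.co (.v 1) 2))) (.neg (.mul (.co (.mul (.v 0) (.k [1])) 3) (.co (.v 1)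
    2)))) (.mul (.co (.mul (.v 0) (.k [1])) 0) (.co (.v 1) 3))) (.mul (.co (.mul (.v 0) (.k [1])) 2) (.co (.v 1)
    3))) (.neg (.mul (.co (.mul (.v 0) (.k [1])) 0) (.co (.v 1) 4))))) (.ez (.add (.add (.add (.add (.add (.add
    (.add (.neg (.mul (.co (.mul (.v 0) (.k [1])) 3) (.co (.v 1) 0))) (.neg (.mul (.co (.mul (.v 0) (.k [1])) 3)
    (.co (.v 1) 2)))) (.neg (.mul (.co (.mul (.v 0) (.k [1])) 4) (.co (.v 1) 2)))) (.mul (.co (.mul (.v 0) (.k [1]))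
    0) (.co (.v 1) 3))) (.mul (.co (.mul (.v 0) (.k [1])) 2) (.co (.v 1) 3))) (.neg (.mul (.co (.mul (.v 0) (.k
    [1])) 4) (.co (.v 1) 3)))) (.mul (.co (.mul (.v 0) (.k [1])) 2) (.co (.v 1) 4))) (.mul (.co (.mul (.v 0) (.k
    [1])) 3) (.co (.v 1) 4)))))))) (.and (.or (.and (.ez (.add (.add (.add (.neg (.mul (.co (.k [0, 0, 1]) 2) (.co
    (.v 1) 0))) (.mul (.co (.k [0, 0, 1]) 3) (.co (.v 1) 0))) (.mul (.co (.k [0, 0, 1]) 0) (.co (.v 1) 2))) (.neg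
    (.mul (.co (.k [0, 0, 1]) 0) (.co (.v 1) 3))))) (.and (.ez (.add (.add (.add (.add (.add (.add (.add (.neg (.mul
    (.co (.k [0, 0, 1]) 2) (.co (.v 1) 0))) (.neg (.mul (.co (.k [0, 0, 1]) 3) (.co (.v 1) 0)))) (.mul (.co (.k [0,
    0, 1]) 4) (.co (.v 1) 0))) (.mul (.co (.k [0, 0, 1]) 0) (.co (.v 1) 2))) (.neg (.mul (.co (.k [0, 0, 1]) 3) (.co
    (.v 1) 2)))) (.mul (.co (.k [0, 0, 1]) 0) (.co (.v 1) 3))) (.mul (.co (.k [0, 0, 1]) 2) (.co (.v 1) 3))) (.neg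
    (.mul (.co (.k [0, 0, 1]) 0) (.co (.v 1) 4))))) (.ez (.add (.add (.add (.add (.add (.add (.add (.neg (.mul (.co
    (.k [0, 0, 1]) 3) (.co (.v 1) 0))) (.neg (.mul (.co (.k [0, 0, 1]) 3) (.co (.v 1) 2)))) (.neg (.mul (.co (.k [0,
    0, 1]) 4) (.co (.v 1) 2)))) (.mul (.co (.k [0, 0, 1]) 0) (.co (.v 1) 3))) (.mul (.co (.k [0, 0, 1]) 2) (.co (.v
    1) 3))) (.neg (.mul (.co (.k [0, 0, 1]) 4) (.co (.v 1) 3)))) (.mul (.co (.k [0, 0, 1]) 2) (.co (.v 1) 4))) (.mul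
    (.co (.k [0, 0, 1]) 3) (.co (.v 1) 4)))))) (.or (.and (.ez (.add (.add (.add (.neg (.mul (.co (.mul (.inv (.v
    0)) (.k [0, 0, 1])) 2) (.co (.v 1) 0))) (.mul (.co (.mul (.inv (.v 0)) (.k [0, 0, 1])) 3) (.co (.v 1) 0))) (.mul
    (.co (.mul (.inv (.v 0)) (.k [0, 0, 1])) 0) (.co (.v 1) 2))) (.neg (.mul (.co (.mul (.inv (.v 0)) (.k [0, 0,
    1])) 0) (.co (.v 1) 3))))) (.and (.ez (.add (.add (.add (.add (.add (.add (.add (.neg (.mul (.co (.mul (.inv (.v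
    0)) (.k [0, 0, 1])) 2) (.co (.v 1) 0))) (.neg (.mul (.co (.mul (.inv (.v 0)) (.k [0, 0, 1])) 3) (.co (.v 1)
    0)))) (.mul (.co (.mul (.inv (.v 0)) (.k [0, 0, 1])) 4) (.co (.v 1) 0))) (.mul (.co (.mul (.inv (.v 0)) (.k [0,
    0, 1])) 0) (.co (.v 1) 2))) (.neg (.mul (.co (.mul (.inv (.v 0)) (.k [0, 0, 1])) 3) (.co (.v 1) 2)))) (.mul (.co
    (.mul (.inv (.v 0)) (.k [0, 0, 1])) 0) (.co (.v 1) 3))) (.mul (.co (.mul (.inv (.v 0)) (.k [0, 0, 1])) 2) (.co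
    (.v 1) 3))) (.neg (.mul (.co (.mul (.inv (.v 0)) (.k [0, 0, 1])) 0) (.co (.v 1) 4))))) (.ez (.add (.add (.add
    (.add (.add (.add (.add (.neg (.mul (.co (.mul (.inv (.v 0)) (.k [0, 0, 1])) 3) (.co (.v 1) 0))) (.neg (.mul
    (.co (.mul (.inv (.v 0)) (.k [0, 0, 1])) 3) (.co (.v 1) 2)))) (.neg (.mul (.co (.mul (.inv (.v 0)) (.k [0, 0,
    1])) 4) (.co (.v 1) 2)))) (.mul (.co (.mul (.inv (.v 0)) (.k [0, 0, 1])) 0) (.co (.v 1) 3))) (.mul (.co (.mul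
    (.inv (.v 0)) (.k [0, 0, 1])) 2) (.co (.v 1) 3))) (.neg (.mul (.co (.mul (.inv (.v 0)) (.k [0, 0, 1])) 4) (.co
    (.v 1) 3)))) (.mul (.co (.mul (.inv (.v 0)) (.k [0, 0, 1])) 2) (.co (.v 1) 4))) (.mul (.co (.mul (.inv (.v 0))
    (.k [0, 0, 1])) 3) (.co (.v 1) 4)))))) (.and (.ez (.add (.add (.add (.neg (.mul (.co (.mul (.v 0) (.k [0, 0,
    1])) 2) (.co (.v 1) 0))) (.mul (.co (.mul (.v 0) (.k [0, 0, 1])) 3) (.co (.v 1) 0))) (.mul (.co (.mul (.v 0) (.k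
    [0, 0, 1])) 0) (.co (.v 1) 2))) (.neg (.mul (.co (.mul (.v 0) (.k [0, 0, 1])) 0) (.co (.v 1) 3))))) (.and (.ez
    (.add (.add (.add (.add (.add (.add (.add (.neg (.mul (.co (.mul (.v 0) (.k [0, 0, 1])) 2) (.co (.v 1) 0)))
    (.neg (.mul (.co (.mul (.v 0) (.k [0, 0, 1])) 3) (.co (.v 1) 0)))) (.mul (.co (.mul (.v 0) (.k [0, 0, 1])) 4)
    (.co (.v 1) 0))) (.mul (.co (.mul (.v 0) (.k [0, 0, 1])) 0) (.co (.v 1) 2))) (.neg (.mul (.co (.mul (.v 0) (.k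
    [0, 0, 1])) 3) (.co (.v 1) 2)))) (.mul (.co (.mul (.v 0) (.k [0, 0, 1])) 0) (.co (.v 1) 3))) (.mul (.co (.mul
    (.v 0) (.k [0, 0, 1])) 2) (.co (.v 1) 3))) (.neg (.mul (.co (.mul (.v 0) (.k [0, 0, 1])) 0) (.co (.v 1) 4)))))
    (.ez (.add (.add (.add (.add (.add (.add (.add (.neg (.mul (.co (.mul (.v 0) (.k [0, 0, 1])) 3) (.co (.v 1) 0)))
    (.neg (.mul (.co (.mul (.v 0) (.k [0, 0, 1])) 3) (.co (.v 1) 2)))) (.neg (.mul (.co (.mul (.v 0) (.k [0, 0, 1]))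
    4) (.co (.v 1) 2)))) (.mul (.co (.mul (.v 0) (.k [0, 0, 1])) 0) (.co (.v 1) 3))) (.mul (.co (.mul (.v 0) (.k [0,
    0, 1])) 2) (.co (.v 1) 3))) (.neg (.mul (.co (.mul (.v 0) (.k [0, 0, 1])) 4) (.co (.v 1) 3)))) (.mul (.co (.mul
    (.v 0) (.k [0, 0, 1])) 2) (.co (.v 1) 4))) (.mul (.co (.mul (.v 0) (.k [0, 0, 1])) 3) (.co (.v 1) 4))))))))
    (.and (.or (.and (.ez (.add (.add (.add (.neg (.mul (.co (.k [0, 0, 0, 1]) 2) (.co (.v 1) 0))) (.mul (.co (.k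
    [0, 0, 0, 1]) 3) (.co (.v 1) 0))) (.mul (.co (.k [0, 0, 0, 1]) 0) (.co (.v 1) 2))) (.neg (.mul (.co (.k [0, 0,
    0, 1]) 0) (.co (.v 1) 3))))) (.and (.ez (.add (.add (.add (.add (.add (.add (.add (.neg (.mul (.co (.k [0, 0, 0,
    1]) 2) (.co (.v 1) 0))) (.neg (.mul (.co (.k [0, 0, 0, 1]) 3) (.co (.v 1) 0)))) (.mul (.co (.k [0, 0, 0, 1]) 4)
    (.co (.v 1) 0))) (.mul (.co (.k [0, 0, 0, 1]) 0) (.co (.v 1) 2))) (.neg (.mul (.co (.k [0, 0, 0, 1]) 3) (.co (.v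
    1) 2)))) (.mul (.co (.k [0, 0, 0, 1]) 0) (.co (.v 1) 3))) (.mul (.co (.k [0, 0, 0, 1]) 2) (.co (.v 1) 3))) (.neg
    (.mul (.co (.k [0, 0, 0, 1]) 0) (.co (.v 1) 4))))) (.ez (.add (.add (.add (.add (.add (.add (.add (.neg (.mul
    (.co (.k [0, 0, 0, 1]) 3) (.co (.v 1) 0))) (.neg (.mul (.co (.k [0, 0, 0, 1]) 3) (.co (.v 1) 2)))) (.neg (.mul
    (.co (.k [0, 0, 0, 1]) 4) (.co (.v 1) 2)))) (.mul (.co (.k [0, 0, 0, 1]) 0) (.co (.v 1) 3))) (.mul (.co (.k [0,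
    0, 0, 1]) 2) (.co (.v 1) 3))) (.neg (.mul (.co (.k [0, 0, 0, 1]) 4) (.co (.v 1) 3)))) (.mul (.co (.k [0, 0, 0,
    1]) 2) (.co (.v 1) 4))) (.mul (.co (.k [0, 0, 0, 1]) 3) (.co (.v 1) 4)))))) (.or (.and (.ez (.add (.add (.add
    (.neg (.mul (.co (.mul (.inv (.v 0)) (.k [0, 0, 0, 1])) 2) (.co (.v 1) 0))) (.mul (.co (.mul (.inv (.v 0)) (.k
    [0, 0, 0, 1])) 3) (.co (.v 1) 0))) (.mul (.co (.mul (.inv (.v 0)) (.k [0, 0, 0, 1])) 0) (.co (.v 1) 2))) (.neg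
    (.mul (.co (.mul (.inv (.v 0)) (.k [0, 0, 0, 1])) 0) (.co (.v 1) 3))))) (.and (.ez (.add (.add (.add (.add (.add
    (.add (.add (.neg (.mul (.co (.mul (.inv (.v 0)) (.k [0, 0, 0, 1])) 2) (.co (.v 1) 0))) (.neg (.mul (.co (.mul
    (.inv (.v 0)) (.k [0, 0, 0, 1])) 3) (.co (.v 1) 0)))) (.mul (.co (.mul (.inv (.v 0)) (.k [0, 0, 0, 1])) 4) (.co
    (.v 1) 0))) (.mul (.co (.mul (.inv (.v 0)) (.k [0, 0, 0, 1])) 0) (.co (.v 1) 2))) (.neg (.mul (.co (.mul (.inv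
    (.v 0)) (.k [0, 0, 0, 1])) 3) (.co (.v 1) 2)))) (.mul (.co (.mul (.inv (.v 0)) (.k [0, 0, 0, 1])) 0) (.co (.v 1)
    3))) (.mul (.co (.mul (.inv (.v 0)) (.k [0, 0, 0, 1])) 2) (.co (.v 1) 3))) (.neg (.mul (.co (.mul (.inv (.v 0))
    (.k [0, 0, 0, 1])) 0) (.co (.v 1) 4))))) (.ez (.add (.add (.add (.add (.add (.add (.add (.neg (.mul (.co (.mul
    (.inv (.v 0)) (.k [0, 0, 0, 1])) 3) (.co (.v 1) 0))) (.neg (.mul (.co (.mul (.inv (.v 0)) (.k [0, 0, 0, 1])) 3)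
    (.co (.v 1) 2)))) (.neg (.mul (.co (.mul (.inv (.v 0)) (.k [0, 0, 0, 1])) 4) (.co (.v 1) 2)))) (.mul (.co (.mul
    (.inv (.v 0)) (.k [0, 0, 0, 1])) 0) (.co (.v 1) 3))) (.mul (.co (.mul (.inv (.v 0)) (.k [0, 0, 0, 1])) 2) (.co
    (.v 1) 3))) (.neg (.mul (.co (.mul (.inv (.v 0)) (.k [0, 0, 0, 1])) 4) (.co (.v 1) 3)))) (.mul (.co (.mul (.inv
    (.v 0)) (.k [0, 0, 0, 1])) 2) (.co (.v 1) 4))) (.mul (.co (.mul (.inv (.v 0)) (.k [0, 0, 0, 1])) 3) (.co (.v 1)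
    4)))))) (.and (.ez (.add (.add (.add (.neg (.mul (.co (.mul (.v 0) (.k [0, 0, 0, 1])) 2) (.co (.v 1) 0))) (.mul
    (.co (.mul (.v 0) (.k [0, 0, 0, 1])) 3) (.co (.v 1) 0))) (.mul (.co (.mul (.v 0) (.k [0, 0, 0, 1])) 0) (.co (.v
    1) 2))) (.neg (.mul (.co (.mul (.v 0) (.k [0, 0, 0, 1])) 0) (.co (.v 1) 3))))) (.and (.ez (.add (.add (.add
    (.add (.add (.add (.add (.neg (.mul (.co (.mul (.v 0) (.k [0, 0, 0, 1])) 2) (.co (.v 1) 0))) (.neg (.mul (.co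
    (.mul (.v 0) (.k [0, 0, 0, 1])) 3) (.co (.v 1) 0)))) (.mul (.co (.mul (.v 0) (.k [0, 0, 0, 1])) 4) (.co (.v 1)
    0))) (.mul (.co (.mul (.v 0) (.k [0, 0, 0, 1])) 0) (.co (.v 1) 2))) (.neg (.mul (.co (.mul (.v 0) (.k [0, 0, 0,
    1])) 3) (.co (.v 1) 2)))) (.mul (.co (.mul (.v 0) (.k [0, 0, 0, 1])) 0) (.co (.v 1) 3))) (.mul (.co (.mul (.v 0)
    (.k [0, 0, 0, 1])) 2) (.co (.v 1) 3))) (.neg (.mul (.co (.mul (.v 0) (.k [0, 0, 0, 1])) 0) (.co (.v 1) 4)))))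
    (.ez (.add (.add (.add (.add (.add (.add (.add (.neg (.mul (.co (.mul (.v 0) (.k [0, 0, 0, 1])) 3) (.co (.v 1)
    0))) (.neg (.mul (.co (.mul (.v 0) (.k [0, 0, 0, 1])) 3) (.co (.v 1) 2)))) (.neg (.mul (.co (.mul (.v 0) (.k [0,
    0, 0, 1])) 4) (.co (.v 1) 2)))) (.mul (.co (.mul (.v 0) (.k [0, 0, 0, 1])) 0) (.co (.v 1) 3))) (.mul (.co (.mul
    (.v 0) (.k [0, 0, 0, 1])) 2) (.co (.v 1) 3))) (.neg (.mul (.co (.mul (.v 0) (.k [0, 0, 0, 1])) 4) (.co (.v 1)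
    3)))) (.mul (.co (.mul (.v 0) (.k [0, 0, 0, 1])) 2) (.co (.v 1) 4))) (.mul (.co (.mul (.v 0) (.k [0, 0, 0, 1]))
    3) (.co (.v 1) 4)))))))) (.or (.and (.ez (.add (.add (.add (.neg (.mul (.co (.k [0, 0, 0, 0, 1]) 2) (.co (.v 1)
    0))) (.mul (.co (.k [0, 0, 0, 0, 1]) 3) (.co (.v 1) 0))) (.mul (.co (.k [0, 0, 0, 0, 1]) 0) (.co (.v 1) 2)))
    (.neg (.mul (.co (.k [0, 0, 0, 0, 1]) 0) (.co (.v 1) 3))))) (.and (.ez (.add (.add (.add (.add (.add (.add (.add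
    (.neg (.mul (.co (.k [0, 0, 0, 0, 1]) 2) (.co (.v 1) 0))) (.neg (.mul (.co (.k [0, 0, 0, 0, 1]) 3) (.co (.v 1)
    0)))) (.mul (.co (.k [0, 0, 0, 0, 1]) 4) (.co (.v 1) 0))) (.mul (.co (.k [0, 0, 0, 0, 1]) 0) (.co (.v 1) 2)))
    (.neg (.mul (.co (.k [0, 0, 0, 0, 1]) 3) (.co (.v 1) 2)))) (.mul (.co (.k [0, 0, 0, 0, 1]) 0) (.co (.v 1) 3)))
    (.mul (.co (.k [0, 0, 0, 0, 1]) 2) (.co (.v 1) 3))) (.neg (.mul (.co (.k [0, 0, 0, 0, 1]) 0) (.co (.v 1) 4)))))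
    (.ez (.add (.add (.add (.add (.add (.add (.add (.neg (.mul (.co (.k [0, 0, 0, 0, 1]) 3) (.co (.v 1) 0))) (.neg
    (.mul (.co (.k [0, 0, 0, 0, 1]) 3) (.co (.v 1) 2)))) (.neg (.mul (.co (.k [0, 0, 0, 0, 1]) 4) (.co (.v 1) 2))))
    (.mul (.co (.k [0, 0, 0, 0, 1]) 0) (.co (.v 1) 3))) (.mul (.co (.k [0, 0, 0, 0, 1]) 2) (.co (.v 1) 3))) (.neg
    (.mul (.co (.k [0, 0, 0, 0, 1]) 4) (.co (.v 1) 3)))) (.mul (.co (.k [0, 0, 0, 0, 1]) 2) (.co (.v 1) 4))) (.mul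
    (.co (.k [0, 0, 0, 0, 1]) 3) (.co (.v 1) 4)))))) (.or (.and (.ez (.add (.add (.add (.neg (.mul (.co (.mul (.inv
    (.v 0)) (.k [0, 0, 0, 0, 1])) 2) (.co (.v 1) 0))) (.mul (.co (.mul (.inv (.v 0)) (.k [0, 0, 0, 0, 1])) 3) (.co
    (.v 1) 0))) (.mul (.co (.mul (.inv (.v 0)) (.k [0, 0, 0, 0, 1])) 0) (.co (.v 1) 2))) (.neg (.mul (.co (.mul
    (.inv (.v 0)) (.k [0, 0, 0, 0, 1])) 0) (.co (.v 1) 3))))) (.and (.ez (.add (.add (.add (.add (.add (.add (.add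
    (.neg (.mul (.co (.mul (.inv (.v 0)) (.k [0, 0, 0, 0, 1])) 2) (.co (.v 1) 0))) (.neg (.mul (.co (.mul (.inv (.v
    0)) (.k [0, 0, 0, 0, 1])) 3) (.co (.v 1) 0)))) (.mul (.co (.mul (.inv (.v 0)) (.k [0, 0, 0, 0, 1])) 4) (.co (.v
    1) 0))) (.mul (.co (.mul (.inv (.v 0)) (.k [0, 0, 0, 0, 1])) 0) (.co (.v 1) 2))) (.neg (.mul (.co (.mul (.inv
    (.v 0)) (.k [0, 0, 0, 0, 1])) 3) (.co (.v 1) 2)))) (.mul (.co (.mul (.inv (.v 0)) (.k [0, 0, 0, 0, 1])) 0) (.co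
    (.v 1) 3))) (.mul (.co (.mul (.inv (.v 0)) (.k [0, 0, 0, 0, 1])) 2) (.co (.v 1) 3))) (.neg (.mul (.co (.mul
    (.inv (.v 0)) (.k [0, 0, 0, 0, 1])) 0) (.co (.v 1) 4))))) (.ez (.add (.add (.add (.add (.add (.add (.add (.neg
    (.mul (.co (.mul (.inv (.v 0)) (.k [0, 0, 0, 0, 1])) 3) (.co (.v 1) 0))) (.neg (.mul (.co (.mul (.inv (.v 0))
    (.k [0, 0, 0, 0, 1])) 3) (.co (.v 1) 2)))) (.neg (.mul (.co (.mul (.inv (.v 0)) (.k [0, 0, 0, 0, 1])) 4) (.co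
    (.v 1) 2)))) (.mul (.co (.mul (.inv (.v 0)) (.k [0, 0, 0, 0, 1])) 0) (.co (.v 1) 3))) (.mul (.co (.mul (.inv (.v
    0)) (.k [0, 0, 0, 0, 1])) 2) (.co (.v 1) 3))) (.neg (.mul (.co (.mul (.inv (.v 0)) (.k [0, 0, 0, 0, 1])) 4) (.co
    (.v 1) 3)))) (.mul (.co (.mul (.inv (.v 0)) (.k [0, 0, 0, 0, 1])) 2) (.co (.v 1) 4))) (.mul (.co (.mul (.inv (.v
    0)) (.k [0, 0, 0, 0, 1])) 3) (.co (.v 1) 4)))))) (.and (.ez (.add (.add (.add (.neg (.mul (.co (.mul (.v 0) (.k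
    [0, 0, 0, 0, 1])) 2) (.co (.v 1) 0))) (.mul (.co (.mul (.v 0) (.k [0, 0, 0, 0, 1])) 3) (.co (.v 1) 0))) (.mul
    (.co (.mul (.v 0) (.k [0, 0, 0, 0, 1])) 0) (.co (.v 1) 2))) (.neg (.mul (.co (.mul (.v 0) (.k [0, 0, 0, 0, 1]))
    0) (.co (.v 1) 3))))) (.and (.ez (.add (.add (.add (.add (.add (.add (.add (.neg (.mul (.co (.mul (.v 0) (.k [0,
    0, 0, 0, 1])) 2) (.co (.v 1) 0))) (.neg (.mul (.co (.mul (.v 0) (.k [0, 0, 0, 0, 1])) 3) (.co (.v 1) 0)))) (.mul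
    (.co (.mul (.v 0) (.k [0, 0, 0, 0, 1])) 4) (.co (.v 1) 0))) (.mul (.co (.mul (.v 0) (.k [0, 0, 0, 0, 1])) 0)
    (.co (.v 1) 2))) (.neg (.mul (.co (.mul (.v 0) (.k [0, 0, 0, 0, 1])) 3) (.co (.v 1) 2)))) (.mul (.co (.mul (.v
    0) (.k [0, 0, 0, 0, 1])) 0) (.co (.v 1) 3))) (.mul (.co (.mul (.v 0) (.k [0, 0, 0, 0, 1])) 2) (.co (.v 1) 3)))
    (.neg (.mul (.co (.mul (.v 0) (.k [0, 0, 0, 0, 1])) 0) (.co (.v 1) 4))))) (.ez (.add (.add (.add (.add (.add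
    (.add (.add (.neg (.mul (.co (.mul (.v 0) (.k [0, 0, 0, 0, 1])) 3) (.co (.v 1) 0))) (.neg (.mul (.co (.mul (.v
    0) (.k [0, 0, 0, 0, 1])) 3) (.co (.v 1) 2)))) (.neg (.mul (.co (.mul (.v 0) (.k [0, 0, 0, 0, 1])) 4) (.co (.v 1)
    2)))) (.mul (.co (.mul (.v 0) (.k [0, 0, 0, 0, 1])) 0) (.co (.v 1) 3))) (.mul (.co (.mul (.v 0) (.k [0, 0, 0, 0,
    1])) 2) (.co (.v 1) 3))) (.neg (.mul (.co (.mul (.v 0) (.k [0, 0, 0, 0, 1])) 4) (.co (.v 1) 3)))) (.mul (.co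
    (.mul (.v 0) (.k [0, 0, 0, 0, 1])) 2) (.co (.v 1) 4))) (.mul (.co (.mul (.v 0) (.k [0, 0, 0, 0, 1])) 3) (.co (.v
    1) 4))))))))))))) (by decide +kernel) x y hx hy
  have : h 0 ∈ E1 := hm (by decide)
  have : h 2 ∈ E1 := hm (by decide)
  have : h 2 ∈ E2 := hm (by decide)
  have : h 3 ∈ E1 := hm (by decide)
  have : h 3 ∈ E2 := hm (by decide)
  have : h 4 ∈ E1 := hm (by decide)
  have : h 4 ∈ E2 := hm (by decide)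
  simp (disch := repeat' first | assumption | apply mul_mem | apply inv_mem) only [bl_iff] at H
  exact H

theorem b2 {y y' w : V} (hy : y ∈ E1) (hy' : y' ∈ E1) (hw : w ∈ E1) : y ∉ D1 → ¬ L3 y y' D1 → ⁅y', y⁆ ∈ Z2 → ⁅w, y⁆
    ∈ Z2 → P9 y y' w D1 := by
  have H : y ∉ D1 → ¬ L3 y y' D1 → Bl y' y → Bl w y → P9 y y' w D1 := c3 [1] 5 [1] 5 [1] 5 (.imp (.not (.z (.v 0)
    [0, 1, 2, 3, 4])) (.imp (.not (.or (.z (.v 1) [0, 1, 2, 3, 4]) (.or (.z (.mul (.inv (.v 0)) (.v 1)) [0, 1, 2, 3,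
    4]) (.z (.mul (.v 0) (.v 1)) [0, 1, 2, 3, 4])))) (.imp (.and (.ez (.add (.add (.add (.neg (.mul (.co (.v 1) 2)
    (.co (.v 0) 0))) (.mul (.co (.v 1) 3) (.co (.v 0) 0))) (.mul (.co (.v 1) 0) (.co (.v 0) 2))) (.neg (.mul (.co
    (.v 1) 0) (.co (.v 0) 3))))) (.and (.ez (.add (.add (.add (.add (.add (.add (.add (.neg (.mul (.co (.v 1) 2)
    (.co (.v 0) 0))) (.neg (.mul (.co (.v 1) 3) (.co (.v 0) 0)))) (.mul (.co (.v 1) 4) (.co (.v 0) 0))) (.mul (.co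
    (.v 1) 0) (.co (.v 0) 2))) (.neg (.mul (.co (.v 1) 3) (.co (.v 0) 2)))) (.mul (.co (.v 1) 0) (.co (.v 0) 3)))
    (.mul (.co (.v 1) 2) (.co (.v 0) 3))) (.neg (.mul (.co (.v 1) 0) (.co (.v 0) 4))))) (.ez (.add (.add (.add (.add
    (.add (.add (.add (.neg (.mul (.co (.v 1) 3) (.co (.v 0) 0))) (.neg (.mul (.co (.v 1) 3) (.co (.v 0) 2)))) (.neg
    (.mul (.co (.v 1) 4) (.co (.v 0) 2)))) (.mul (.co (.v 1) 0) (.co (.v 0) 3))) (.mul (.co (.v 1) 2) (.co (.v 0)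
    3))) (.neg (.mul (.co (.v 1) 4) (.co (.v 0) 3)))) (.mul (.co (.v 1) 2) (.co (.v 0) 4))) (.mul (.co (.v 1) 3)
    (.co (.v 0) 4)))))) (.imp (.and (.ez (.add (.add (.add (.neg (.mul (.co (.v 2) 2) (.co (.v 0) 0))) (.mul (.co
    (.v 2) 3) (.co (.v 0) 0))) (.mul (.co (.v 2) 0) (.co (.v 0) 2))) (.neg (.mul (.co (.v 2) 0) (.co (.v 0) 3)))))
    (.and (.ez (.add (.add (.add (.add (.add (.add (.add (.neg (.mul (.co (.v 2) 2) (.co (.v 0) 0))) (.neg (.mul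
    (.co (.v 2) 3) (.co (.v 0) 0)))) (.mul (.co (.v 2) 4) (.co (.v 0) 0))) (.mul (.co (.v 2) 0) (.co (.v 0) 2)))
    (.neg (.mul (.co (.v 2) 3) (.co (.v 0) 2)))) (.mul (.co (.v 2) 0) (.co (.v 0) 3))) (.mul (.co (.v 2) 2) (.co (.v
    0) 3))) (.neg (.mul (.co (.v 2) 0) (.co (.v 0) 4))))) (.ez (.add (.add (.add (.add (.add (.add (.add (.neg (.mul
    (.co (.v 2) 3) (.co (.v 0) 0))) (.neg (.mul (.co (.v 2) 3) (.co (.v 0) 2)))) (.neg (.mul (.co (.v 2) 4) (.co (.v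
    0) 2)))) (.mul (.co (.v 2) 0) (.co (.v 0) 3))) (.mul (.co (.v 2) 2) (.co (.v 0) 3))) (.neg (.mul (.co (.v 2) 4)
    (.co (.v 0) 3)))) (.mul (.co (.v 2) 2) (.co (.v 0) 4))) (.mul (.co (.v 2) 3) (.co (.v 0) 4)))))) (.or (.or (.z
    (.v 2) [0, 1, 2, 3, 4]) (.or (.z (.mul (.inv (.v 0)) (.v 2)) [0, 1, 2, 3, 4]) (.z (.mul (.v 0) (.v 2)) [0, 1, 2,
    3, 4]))) (.or (.or (.z (.mul (.inv (.v 1)) (.v 2)) [0, 1, 2, 3, 4]) (.or (.z (.mul (.inv (.v 0)) (.mul (.inv (.v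
    1)) (.v 2))) [0, 1, 2, 3, 4]) (.z (.mul (.v 0) (.mul (.inv (.v 1)) (.v 2))) [0, 1, 2, 3, 4]))) (.or (.z (.mul
    (.v 1) (.v 2)) [0, 1, 2, 3, 4]) (.or (.z (.mul (.inv (.v 0)) (.mul (.v 1) (.v 2))) [0, 1, 2, 3, 4]) (.z (.mul
    (.v 0) (.mul (.v 1) (.v 2))) [0, 1, 2, 3, 4]))))))))) (by decide +kernel) y y' w hy hy' hw
  simp (disch := repeat' first | assumption | apply mul_mem | apply inv_mem) only [bl_iff] at H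
  exact H

theorem b3 {y y' : V} (hy : y ∈ E1) (hy' : y' ∈ E1) : y ∉ D1 → ¬ L3 y y' D1 → ⁅y', y⁆ ∈ Z2 → ¬ y ^ 3 = 1 → y ∈ Z6 ∧
    y' ∈ Z6 ∧ P9 y y' (h 4) D1 := by
  have H : y ∉ D1 → ¬ L3 y y' D1 → Bl y' y → ¬ O3 y → y ∈ Z6 ∧ y' ∈ Z6 ∧ P9 y y' (h 4) D1 := c2 [1] 5 [1] 5 (.imp
    (.not (.z (.v 0) [0, 1, 2, 3, 4])) (.imp (.not (.or (.z (.v 1) [0, 1, 2, 3, 4]) (.or (.z (.mul (.inv (.v 0)) (.v
    1)) [0, 1, 2, 3, 4]) (.z (.mul (.v 0) (.v 1)) [0, 1, 2, 3, 4])))) (.imp (.and (.ez (.add (.add (.add (.neg (.mul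
    (.co (.v 1) 2) (.co (.v 0) 0))) (.mul (.co (.v 1) 3) (.co (.v 0) 0))) (.mul (.co (.v 1) 0) (.co (.v 0) 2)))
    (.neg (.mul (.co (.v 1) 0) (.co (.v 0) 3))))) (.and (.ez (.add (.add (.add (.add (.add (.add (.add (.neg (.mul
    (.co (.v 1) 2) (.co (.v 0) 0))) (.neg (.mul (.co (.v 1) 3) (.co (.v 0) 0)))) (.mul (.co (.v 1) 4) (.co (.v 0)
    0))) (.mul (.co (.v 1) 0) (.co (.v 0) 2))) (.neg (.mul (.co (.v 1) 3) (.co (.v 0) 2)))) (.mul (.co (.v 1) 0)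
    (.co (.v 0) 3))) (.mul (.co (.v 1) 2) (.co (.v 0) 3))) (.neg (.mul (.co (.v 1) 0) (.co (.v 0) 4))))) (.ez (.add
    (.add (.add (.add (.add (.add (.add (.neg (.mul (.co (.v 1) 3) (.co (.v 0) 0))) (.neg (.mul (.co (.v 1) 3) (.co
    (.v 0) 2)))) (.neg (.mul (.co (.v 1) 4) (.co (.v 0) 2)))) (.mul (.co (.v 1) 0) (.co (.v 0) 3))) (.mul (.co (.v
    1) 2) (.co (.v 0) 3))) (.neg (.mul (.co (.v 1) 4) (.co (.v 0) 3)))) (.mul (.co (.v 1) 2) (.co (.v 0) 4))) (.mul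
    (.co (.v 1) 3) (.co (.v 0) 4)))))) (.imp (.not (.and (.ez (.add (.add (.add (.add (.add (.mul (.mul (.co (.v 0)
    0) (.co (.v 0) 0)) (.co (.v 0) 2)) (.neg (.co (.v 0) 3))) (.mul (.mul (.co (.v 0) 0) (.co (.v 0) 0)) (.co (.v 0)
    3))) (.neg (.mul (.mul (.co (.v 0) 0) (.co (.v 0) 2)) (.co (.v 0) 3)))) (.mul (.mul (.co (.v 0) 2) (.co (.v 0)
    3)) (.co (.v 0) 3))) (.neg (.mul (.mul (.co (.v 0) 0) (.co (.v 0) 2)) (.co (.v 0) 4))))) (.ez (.add (.add (.add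
    (.add (.add (.add (.add (.add (.add (.mul (.mul (.co (.v 0) 0) (.co (.v 0) 2)) (.co (.v 0) 2)) (.neg (.co (.v 0)
    3))) (.mul (.mul (.co (.v 0) 0) (.co (.v 0) 2)) (.co (.v 0) 3))) (.mul (.mul (.co (.v 0) 0) (.co (.v 0) 3)) (.co
    (.v 0) 3))) (.mul (.mul (.co (.v 0) 2) (.co (.v 0) 3)) (.co (.v 0) 3))) (.co (.v 0) 4)) (.neg (.mul (.mul (.co
    (.v 0) 0) (.co (.v 0) 3)) (.co (.v 0) 4)))) (.mul (.mul (.co (.v 0) 2) (.co (.v 0) 3)) (.co (.v 0) 4))) (.mul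
    (.mul (.co (.v 0) 3) (.co (.v 0) 3)) (.co (.v 0) 4))) (.mul (.mul (.co (.v 0) 0) (.co (.v 0) 4)) (.co (.v 0)
    4)))))) (.and (.z (.v 0) [0, 1]) (.and (.z (.v 1) [0, 1]) (.or (.or (.z (.k [0, 0, 0, 0, 1]) [0, 1, 2, 3, 4])
    (.or (.z (.mul (.inv (.v 0)) (.k [0, 0, 0, 0, 1])) [0, 1, 2, 3, 4]) (.z (.mul (.v 0) (.k [0, 0, 0, 0, 1])) [0,
    1, 2, 3, 4]))) (.or (.or (.z (.mul (.inv (.v 1)) (.k [0, 0, 0, 0, 1])) [0, 1, 2, 3, 4]) (.or (.z (.mul (.inv (.v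
    0)) (.mul (.inv (.v 1)) (.k [0, 0, 0, 0, 1]))) [0, 1, 2, 3, 4]) (.z (.mul (.v 0) (.mul (.inv (.v 1)) (.k [0, 0,
    0, 0, 1]))) [0, 1, 2, 3, 4]))) (.or (.z (.mul (.v 1) (.k [0, 0, 0, 0, 1])) [0, 1, 2, 3, 4]) (.or (.z (.mul (.inv
    (.v 0)) (.mul (.v 1) (.k [0, 0, 0, 0, 1]))) [0, 1, 2, 3, 4]) (.z (.mul (.v 0) (.mul (.v 1) (.k [0, 0, 0, 0,
    1]))) [0, 1, 2, 3, 4]))))))))))) (by decide +kernel) y y' hy hy'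
  simp (disch := repeat' first | assumption | apply mul_mem | apply inv_mem) only [bl_iff, o3_iff] at H
  simpa only [pow_three'] using H

theorem b4' {y y' : V} (hy : y ∈ E1) (hy' : y' ∈ E1) : y ∉ D1 → ¬ L3 y y' D1 → ⁅y', y⁆ ∈ Z2 → y ^ 3 = 1 → y * kv [0,
    0, 0, 0, 0, 1, 2, 2] = kv [0, 0, 0, 0, 0, 1, 2, 2] * y ∧ y' * kv [0, 0, 0, 0, 0, 1, 2, 2] = kv [0, 0, 0, 0, 0,
    1, 2, 2] * y' ∨ y * kv [0, 0, 0, 0, 0, 1, 0, 2] = kv [0, 0, 0, 0, 0, 1, 0, 2] * y ∧ y' * kv [0, 0, 0, 0, 0, 1,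
    0, 2] = kv [0, 0, 0, 0, 0, 1, 0, 2] * y' ∨ y * kv [0, 0, 0, 0, 0, 1, 1, 0] = kv [0, 0, 0, 0, 0, 1, 1, 0] * y ∧
    y' * kv [0, 0, 0, 0, 0, 1, 1, 0] = kv [0, 0, 0, 0, 0, 1, 1, 0] * y' := by
  have H : y ∉ D1 → ¬ L3 y y' D1 → Bl y' y → O3 y → Cd y (kv [0, 0, 0, 0, 0, 1, 2, 2]) ∧ Cd y' (kv [0, 0, 0, 0, 0,
    1, 2, 2]) ∨ Cd y (kv [0, 0, 0, 0, 0, 1, 0, 2]) ∧ Cd y' (kv [0, 0, 0, 0, 0, 1, 0, 2]) ∨ Cd y (kv [0, 0, 0, 0, 0,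
    1, 1, 0]) ∧ Cd y' (kv [0, 0, 0, 0, 0, 1, 1, 0]) := c2 [1] 5 [1] 5 (.imp (.not (.z (.v 0) [0, 1, 2, 3, 4])) (.imp
    (.not (.or (.z (.v 1) [0, 1, 2, 3, 4]) (.or (.z (.mul (.inv (.v 0)) (.v 1)) [0, 1, 2, 3, 4]) (.z (.mul (.v 0)
    (.v 1)) [0, 1, 2, 3, 4])))) (.imp (.and (.ez (.add (.add (.add (.neg (.mul (.co (.v 1) 2) (.co (.v 0) 0))) (.mul
    (.co (.v 1) 3) (.co (.v 0) 0))) (.mul (.co (.v 1) 0) (.co (.v 0) 2))) (.neg (.mul (.co (.v 1) 0) (.co (.v 0)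
    3))))) (.and (.ez (.add (.add (.add (.add (.add (.add (.add (.neg (.mul (.co (.v 1) 2) (.co (.v 0) 0))) (.neg
    (.mul (.co (.v 1) 3) (.co (.v 0) 0)))) (.mul (.co (.v 1) 4) (.co (.v 0) 0))) (.mul (.co (.v 1) 0) (.co (.v 0)
    2))) (.neg (.mul (.co (.v 1) 3) (.co (.v 0) 2)))) (.mul (.co (.v 1) 0) (.co (.v 0) 3))) (.mul (.co (.v 1) 2)
    (.co (.v 0) 3))) (.neg (.mul (.co (.v 1) 0) (.co (.v 0) 4))))) (.ez (.add (.add (.add (.add (.add (.add (.add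
    (.neg (.mul (.co (.v 1) 3) (.co (.v 0) 0))) (.neg (.mul (.co (.v 1) 3) (.co (.v 0) 2)))) (.neg (.mul (.co (.v 1)
    4) (.co (.v 0) 2)))) (.mul (.co (.v 1) 0) (.co (.v 0) 3))) (.mul (.co (.v 1) 2) (.co (.v 0) 3))) (.neg (.mul
    (.co (.v 1) 4) (.co (.v 0) 3)))) (.mul (.co (.v 1) 2) (.co (.v 0) 4))) (.mul (.co (.v 1) 3) (.co (.v 0) 4))))))
    (.imp (.and (.ez (.add (.add (.add (.add (.add (.mul (.mul (.co (.v 0) 0) (.co (.v 0) 0)) (.co (.v 0) 2)) (.neg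
    (.co (.v 0) 3))) (.mul (.mul (.co (.v 0) 0) (.co (.v 0) 0)) (.co (.v 0) 3))) (.neg (.mul (.mul (.co (.v 0) 0)
    (.co (.v 0) 2)) (.co (.v 0) 3)))) (.mul (.mul (.co (.v 0) 2) (.co (.v 0) 3)) (.co (.v 0) 3))) (.neg (.mul (.mul
    (.co (.v 0) 0) (.co (.v 0) 2)) (.co (.v 0) 4))))) (.ez (.add (.add (.add (.add (.add (.add (.add (.add (.add
    (.mul (.mul (.co (.v 0) 0) (.co (.v 0) 2)) (.co (.v 0) 2)) (.neg (.co (.v 0) 3))) (.mul (.mul (.co (.v 0) 0)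
    (.co (.v 0) 2)) (.co (.v 0) 3))) (.mul (.mul (.co (.v 0) 0) (.co (.v 0) 3)) (.co (.v 0) 3))) (.mul (.mul (.co
    (.v 0) 2) (.co (.v 0) 3)) (.co (.v 0) 3))) (.co (.v 0) 4)) (.neg (.mul (.mul (.co (.v 0) 0) (.co (.v 0) 3)) (.co
    (.v 0) 4)))) (.mul (.mul (.co (.v 0) 2) (.co (.v 0) 3)) (.co (.v 0) 4))) (.mul (.mul (.co (.v 0) 3) (.co (.v 0)
    3)) (.co (.v 0) 4))) (.mul (.mul (.co (.v 0) 0) (.co (.v 0) 4)) (.co (.v 0) 4))))) (.or (.and (.and (.ez (.add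
    (.add (.add (.add (.mul (.co (.v 0) 0) (.co (.k [0, 0, 0, 0, 0, 1, 2, 2]) 5)) (.neg (.mul (.co (.v 0) 3) (.co
    (.k [0, 0, 0, 0, 0, 1, 2, 2]) 5)))) (.mul (.co (.v 0) 4) (.co (.k [0, 0, 0, 0, 0, 1, 2, 2]) 5))) (.neg (.mul
    (.co (.v 0) 3) (.co (.k [0, 0, 0, 0, 0, 1, 2, 2]) 6)))) (.neg (.mul (.co (.v 0) 0) (.co (.k [0, 0, 0, 0, 0, 1,
    2, 2]) 7))))) (.ez (.add (.add (.add (.add (.neg (.mul (.co (.v 0) 2) (.co (.k [0, 0, 0, 0, 0, 1, 2, 2]) 5)))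
    (.neg (.mul (.co (.v 0) 4) (.co (.k [0, 0, 0, 0, 0, 1, 2, 2]) 5)))) (.mul (.co (.v 0) 3) (.co (.k [0, 0, 0, 0,
    0, 1, 2, 2]) 6))) (.mul (.co (.v 0) 4) (.co (.k [0, 0, 0, 0, 0, 1, 2, 2]) 6))) (.mul (.co (.v 0) 3) (.co (.k [0,
    0, 0, 0, 0, 1, 2, 2]) 7))))) (.and (.ez (.add (.add (.add (.add (.mul (.co (.v 1) 0) (.co (.k [0, 0, 0, 0, 0, 1,
    2, 2]) 5)) (.neg (.mul (.co (.v 1) 3) (.co (.k [0, 0, 0, 0, 0, 1, 2, 2]) 5)))) (.mul (.co (.v 1) 4) (.co (.k [0,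
    0, 0, 0, 0, 1, 2, 2]) 5))) (.neg (.mul (.co (.v 1) 3) (.co (.k [0, 0, 0, 0, 0, 1, 2, 2]) 6)))) (.neg (.mul (.co
    (.v 1) 0) (.co (.k [0, 0, 0, 0, 0, 1, 2, 2]) 7))))) (.ez (.add (.add (.add (.add (.neg (.mul (.co (.v 1) 2) (.co
    (.k [0, 0, 0, 0, 0, 1, 2, 2]) 5))) (.neg (.mul (.co (.v 1) 4) (.co (.k [0, 0, 0, 0, 0, 1, 2, 2]) 5)))) (.mul
    (.co (.v 1) 3) (.co (.k [0, 0, 0, 0, 0, 1, 2, 2]) 6))) (.mul (.co (.v 1) 4) (.co (.k [0, 0, 0, 0, 0, 1, 2, 2])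
    6))) (.mul (.co (.v 1) 3) (.co (.k [0, 0, 0, 0, 0, 1, 2, 2]) 7)))))) (.or (.and (.and (.ez (.add (.add (.add
    (.add (.mul (.co (.v 0) 0) (.co (.k [0, 0, 0, 0, 0, 1, 0, 2]) 5)) (.neg (.mul (.co (.v 0) 3) (.co (.k [0, 0, 0,
    0, 0, 1, 0, 2]) 5)))) (.mul (.co (.v 0) 4) (.co (.k [0, 0, 0, 0, 0, 1, 0, 2]) 5))) (.neg (.mul (.co (.v 0) 3)
    (.co (.k [0, 0, 0, 0, 0, 1, 0, 2]) 6)))) (.neg (.mul (.co (.v 0) 0) (.co (.k [0, 0, 0, 0, 0, 1, 0, 2]) 7)))))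
    (.ez (.add (.add (.add (.add (.neg (.mul (.co (.v 0) 2) (.co (.k [0, 0, 0, 0, 0, 1, 0, 2]) 5))) (.neg (.mul (.co
    (.v 0) 4) (.co (.k [0, 0, 0, 0, 0, 1, 0, 2]) 5)))) (.mul (.co (.v 0) 3) (.co (.k [0, 0, 0, 0, 0, 1, 0, 2]) 6)))
    (.mul (.co (.v 0) 4) (.co (.k [0, 0, 0, 0, 0, 1, 0, 2]) 6))) (.mul (.co (.v 0) 3) (.co (.k [0, 0, 0, 0, 0, 1, 0,
    2]) 7))))) (.and (.ez (.add (.add (.add (.add (.mul (.co (.v 1) 0) (.co (.k [0, 0, 0, 0, 0, 1, 0, 2]) 5)) (.neg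
    (.mul (.co (.v 1) 3) (.co (.k [0, 0, 0, 0, 0, 1, 0, 2]) 5)))) (.mul (.co (.v 1) 4) (.co (.k [0, 0, 0, 0, 0, 1,
    0, 2]) 5))) (.neg (.mul (.co (.v 1) 3) (.co (.k [0, 0, 0, 0, 0, 1, 0, 2]) 6)))) (.neg (.mul (.co (.v 1) 0) (.co
    (.k [0, 0, 0, 0, 0, 1, 0, 2]) 7))))) (.ez (.add (.add (.add (.add (.neg (.mul (.co (.v 1) 2) (.co (.k [0, 0, 0,
    0, 0, 1, 0, 2]) 5))) (.neg (.mul (.co (.v 1) 4) (.co (.k [0, 0, 0, 0, 0, 1, 0, 2]) 5)))) (.mul (.co (.v 1) 3)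
    (.co (.k [0, 0, 0, 0, 0, 1, 0, 2]) 6))) (.mul (.co (.v 1) 4) (.co (.k [0, 0, 0, 0, 0, 1, 0, 2]) 6))) (.mul (.co
    (.v 1) 3) (.co (.k [0, 0, 0, 0, 0, 1, 0, 2]) 7)))))) (.and (.and (.ez (.add (.add (.add (.add (.mul (.co (.v 0)
    0) (.co (.k [0, 0, 0, 0, 0, 1, 1, 0]) 5)) (.neg (.mul (.co (.v 0) 3) (.co (.k [0, 0, 0, 0, 0, 1, 1, 0]) 5))))
    (.mul (.co (.v 0) 4) (.co (.k [0, 0, 0, 0, 0, 1, 1, 0]) 5))) (.neg (.mul (.co (.v 0) 3) (.co (.k [0, 0, 0, 0, 0,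
    1, 1, 0]) 6)))) (.neg (.mul (.co (.v 0) 0) (.co (.k [0, 0, 0, 0, 0, 1, 1, 0]) 7))))) (.ez (.add (.add (.add
    (.add (.neg (.mul (.co (.v 0) 2) (.co (.k [0, 0, 0, 0, 0, 1, 1, 0]) 5))) (.neg (.mul (.co (.v 0) 4) (.co (.k [0,
    0, 0, 0, 0, 1, 1, 0]) 5)))) (.mul (.co (.v 0) 3) (.co (.k [0, 0, 0, 0, 0, 1, 1, 0]) 6))) (.mul (.co (.v 0) 4)
    (.co (.k [0, 0, 0, 0, 0, 1, 1, 0]) 6))) (.mul (.co (.v 0) 3) (.co (.k [0, 0, 0, 0, 0, 1, 1, 0]) 7))))) (.and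
    (.ez (.add (.add (.add (.add (.mul (.co (.v 1) 0) (.co (.k [0, 0, 0, 0, 0, 1, 1, 0]) 5)) (.neg (.mul (.co (.v 1)
    3) (.co (.k [0, 0, 0, 0, 0, 1, 1, 0]) 5)))) (.mul (.co (.v 1) 4) (.co (.k [0, 0, 0, 0, 0, 1, 1, 0]) 5))) (.neg
    (.mul (.co (.v 1) 3) (.co (.k [0, 0, 0, 0, 0, 1, 1, 0]) 6)))) (.neg (.mul (.co (.v 1) 0) (.co (.k [0, 0, 0, 0,
    0, 1, 1, 0]) 7))))) (.ez (.add (.add (.add (.add (.neg (.mul (.co (.v 1) 2) (.co (.k [0, 0, 0, 0, 0, 1, 1, 0])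
    5))) (.neg (.mul (.co (.v 1) 4) (.co (.k [0, 0, 0, 0, 0, 1, 1, 0]) 5)))) (.mul (.co (.v 1) 3) (.co (.k [0, 0, 0,
    0, 0, 1, 1, 0]) 6))) (.mul (.co (.v 1) 4) (.co (.k [0, 0, 0, 0, 0, 1, 1, 0]) 6))) (.mul (.co (.v 1) 3) (.co (.k
    [0, 0, 0, 0, 0, 1, 1, 0]) 7)))))))))))) (by decide +kernel) y y' hy hy'
  have : kv [0, 0, 0, 0, 0, 1, 0, 2] ∈ E1 := km (by decide)
  have : kv [0, 0, 0, 0, 0, 1, 0, 2] ∈ E2 := km (by decide)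
  have : kv [0, 0, 0, 0, 0, 1, 0, 2] ∈ D1 := km (by decide)
  have : kv [0, 0, 0, 0, 0, 1, 1, 0] ∈ E1 := km (by decide)
  have : kv [0, 0, 0, 0, 0, 1, 1, 0] ∈ E2 := km (by decide)
  have : kv [0, 0, 0, 0, 0, 1, 1, 0] ∈ D1 := km (by decide)
  have : kv [0, 0, 0, 0, 0, 1, 2, 2] ∈ E1 := km (by decide)
  have : kv [0, 0, 0, 0, 0, 1, 2, 2] ∈ E2 := km (by decide)
  have : kv [0, 0, 0, 0, 0, 1, 2, 2] ∈ D1 := km (by decide)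
  simp (disch := repeat' first | assumption | apply mul_mem | apply inv_mem) only [bl_iff, cd_iff, o3_iff] at H
  simpa only [pow_three'] using H

theorem b5_0 {y y' w : V} (hy : y ∈ E1) (hy' : y' ∈ E1) (hw : w ∈ E1) : y ∉ D1 → ¬ L3 y y' D1 → y * kv [0, 0, 0, 0,
    0, 1, 2, 2] = kv [0, 0, 0, 0, 0, 1, 2, 2] * y → y' * kv [0, 0, 0, 0, 0, 1, 2, 2] = kv [0, 0, 0, 0, 0, 1, 2, 2] *
    y' → w * kv [0, 0, 0, 0, 0, 1, 2, 2] = kv [0, 0, 0, 0, 0, 1, 2, 2] * w → P9 y y' w D1 := by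
  have H : y ∉ D1 → ¬ L3 y y' D1 → Cd y (kv [0, 0, 0, 0, 0, 1, 2, 2]) → Cd y' (kv [0, 0, 0, 0, 0, 1, 2, 2]) → Cd w
    (kv [0, 0, 0, 0, 0, 1, 2, 2]) → P9 y y' w D1 := c3 [1] 5 [1] 5 [1] 5 (.imp (.not (.z (.v 0) [0, 1, 2, 3, 4]))
    (.imp (.not (.or (.z (.v 1) [0, 1, 2, 3, 4]) (.or (.z (.mul (.inv (.v 0)) (.v 1)) [0, 1, 2, 3, 4]) (.z (.mul (.v
    0) (.v 1)) [0, 1, 2, 3, 4])))) (.imp (.and (.ez (.add (.add (.add (.add (.mul (.co (.v 0) 0) (.co (.k [0, 0, 0,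
    0, 0, 1, 2, 2]) 5)) (.neg (.mul (.co (.v 0) 3) (.co (.k [0, 0, 0, 0, 0, 1, 2, 2]) 5)))) (.mul (.co (.v 0) 4)
    (.co (.k [0, 0, 0, 0, 0, 1, 2, 2]) 5))) (.neg (.mul (.co (.v 0) 3) (.co (.k [0, 0, 0, 0, 0, 1, 2, 2]) 6))))
    (.neg (.mul (.co (.v 0) 0) (.co (.k [0, 0, 0, 0, 0, 1, 2, 2]) 7))))) (.ez (.add (.add (.add (.add (.neg (.mul
    (.co (.v 0) 2) (.co (.k [0, 0, 0, 0, 0, 1, 2, 2]) 5))) (.neg (.mul (.co (.v 0) 4) (.co (.k [0, 0, 0, 0, 0, 1, 2,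
    2]) 5)))) (.mul (.co (.v 0) 3) (.co (.k [0, 0, 0, 0, 0, 1, 2, 2]) 6))) (.mul (.co (.v 0) 4) (.co (.k [0, 0, 0,
    0, 0, 1, 2, 2]) 6))) (.mul (.co (.v 0) 3) (.co (.k [0, 0, 0, 0, 0, 1, 2, 2]) 7))))) (.imp (.and (.ez (.add (.add
    (.add (.add (.mul (.co (.v 1) 0) (.co (.k [0, 0, 0, 0, 0, 1, 2, 2]) 5)) (.neg (.mul (.co (.v 1) 3) (.co (.k [0,
    0, 0, 0, 0, 1, 2, 2]) 5)))) (.mul (.co (.v 1) 4) (.co (.k [0, 0, 0, 0, 0, 1, 2, 2]) 5))) (.neg (.mul (.co (.v 1)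
    3) (.co (.k [0, 0, 0, 0, 0, 1, 2, 2]) 6)))) (.neg (.mul (.co (.v 1) 0) (.co (.k [0, 0, 0, 0, 0, 1, 2, 2]) 7)))))
    (.ez (.add (.add (.add (.add (.neg (.mul (.co (.v 1) 2) (.co (.k [0, 0, 0, 0, 0, 1, 2, 2]) 5))) (.neg (.mul (.co
    (.v 1) 4) (.co (.k [0, 0, 0, 0, 0, 1, 2, 2]) 5)))) (.mul (.co (.v 1) 3) (.co (.k [0, 0, 0, 0, 0, 1, 2, 2]) 6)))
    (.mul (.co (.v 1) 4) (.co (.k [0, 0, 0, 0, 0, 1, 2, 2]) 6))) (.mul (.co (.v 1) 3) (.co (.k [0, 0, 0, 0, 0, 1, 2,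
    2]) 7))))) (.imp (.and (.ez (.add (.add (.add (.add (.mul (.co (.v 2) 0) (.co (.k [0, 0, 0, 0, 0, 1, 2, 2]) 5))
    (.neg (.mul (.co (.v 2) 3) (.co (.k [0, 0, 0, 0, 0, 1, 2, 2]) 5)))) (.mul (.co (.v 2) 4) (.co (.k [0, 0, 0, 0,
    0, 1, 2, 2]) 5))) (.neg (.mul (.co (.v 2) 3) (.co (.k [0, 0, 0, 0, 0, 1, 2, 2]) 6)))) (.neg (.mul (.co (.v 2) 0)
    (.co (.k [0, 0, 0, 0, 0, 1, 2, 2]) 7))))) (.ez (.add (.add (.add (.add (.neg (.mul (.co (.v 2) 2) (.co (.k [0,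
    0, 0, 0, 0, 1, 2, 2]) 5))) (.neg (.mul (.co (.v 2) 4) (.co (.k [0, 0, 0, 0, 0, 1, 2, 2]) 5)))) (.mul (.co (.v 2)
    3) (.co (.k [0, 0, 0, 0, 0, 1, 2, 2]) 6))) (.mul (.co (.v 2) 4) (.co (.k [0, 0, 0, 0, 0, 1, 2, 2]) 6))) (.mul
    (.co (.v 2) 3) (.co (.k [0, 0, 0, 0, 0, 1, 2, 2]) 7))))) (.or (.or (.z (.v 2) [0, 1, 2, 3, 4]) (.or (.z (.mul
    (.inv (.v 0)) (.v 2)) [0, 1, 2, 3, 4]) (.z (.mul (.v 0) (.v 2)) [0, 1, 2, 3, 4]))) (.or (.or (.z (.mul (.inv (.v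
    1)) (.v 2)) [0, 1, 2, 3, 4]) (.or (.z (.mul (.inv (.v 0)) (.mul (.inv (.v 1)) (.v 2))) [0, 1, 2, 3, 4]) (.z
    (.mul (.v 0) (.mul (.inv (.v 1)) (.v 2))) [0, 1, 2, 3, 4]))) (.or (.z (.mul (.v 1) (.v 2)) [0, 1, 2, 3, 4]) (.or
    (.z (.mul (.inv (.v 0)) (.mul (.v 1) (.v 2))) [0, 1, 2, 3, 4]) (.z (.mul (.v 0) (.mul (.v 1) (.v 2))) [0, 1, 2,
    3, 4])))))))))) (by decide +kernel) y y' w hy hy' hw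
  have : kv [0, 0, 0, 0, 0, 1, 2, 2] ∈ E1 := km (by decide)
  have : kv [0, 0, 0, 0, 0, 1, 2, 2] ∈ E2 := km (by decide)
  have : kv [0, 0, 0, 0, 0, 1, 2, 2] ∈ D1 := km (by decide)
  simp (disch := repeat' first | assumption | apply mul_mem | apply inv_mem) only [cd_iff] at H
  exact H

theorem b5_1 {y y' w : V} (hy : y ∈ E1) (hy' : y' ∈ E1) (hw : w ∈ E1) : y ∉ D1 → ¬ L3 y y' D1 → y * kv [0, 0, 0, 0,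
    0, 1, 0, 2] = kv [0, 0, 0, 0, 0, 1, 0, 2] * y → y' * kv [0, 0, 0, 0, 0, 1, 0, 2] = kv [0, 0, 0, 0, 0, 1, 0, 2] *
    y' → w * kv [0, 0, 0, 0, 0, 1, 0, 2] = kv [0, 0, 0, 0, 0, 1, 0, 2] * w → P9 y y' w D1 := by
  have H : y ∉ D1 → ¬ L3 y y' D1 → Cd y (kv [0, 0, 0, 0, 0, 1, 0, 2]) → Cd y' (kv [0, 0, 0, 0, 0, 1, 0, 2]) → Cd w
    (kv [0, 0, 0, 0, 0, 1, 0, 2]) → P9 y y' w D1 := c3 [1] 5 [1] 5 [1] 5 (.imp (.not (.z (.v 0) [0, 1, 2, 3, 4]))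
    (.imp (.not (.or (.z (.v 1) [0, 1, 2, 3, 4]) (.or (.z (.mul (.inv (.v 0)) (.v 1)) [0, 1, 2, 3, 4]) (.z (.mul (.v
    0) (.v 1)) [0, 1, 2, 3, 4])))) (.imp (.and (.ez (.add (.add (.add (.add (.mul (.co (.v 0) 0) (.co (.k [0, 0, 0,
    0, 0, 1, 0, 2]) 5)) (.neg (.mul (.co (.v 0) 3) (.co (.k [0, 0, 0, 0, 0, 1, 0, 2]) 5)))) (.mul (.co (.v 0) 4)
    (.co (.k [0, 0, 0, 0, 0, 1, 0, 2]) 5))) (.neg (.mul (.co (.v 0) 3) (.co (.k [0, 0, 0, 0, 0, 1, 0, 2]) 6))))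
    (.neg (.mul (.co (.v 0) 0) (.co (.k [0, 0, 0, 0, 0, 1, 0, 2]) 7))))) (.ez (.add (.add (.add (.add (.neg (.mul
    (.co (.v 0) 2) (.co (.k [0, 0, 0, 0, 0, 1, 0, 2]) 5))) (.neg (.mul (.co (.v 0) 4) (.co (.k [0, 0, 0, 0, 0, 1, 0,
    2]) 5)))) (.mul (.co (.v 0) 3) (.co (.k [0, 0, 0, 0, 0, 1, 0, 2]) 6))) (.mul (.co (.v 0) 4) (.co (.k [0, 0, 0,
    0, 0, 1, 0, 2]) 6))) (.mul (.co (.v 0) 3) (.co (.k [0, 0, 0, 0, 0, 1, 0, 2]) 7))))) (.imp (.and (.ez (.add (.add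
    (.add (.add (.mul (.co (.v 1) 0) (.co (.k [0, 0, 0, 0, 0, 1, 0, 2]) 5)) (.neg (.mul (.co (.v 1) 3) (.co (.k [0,
    0, 0, 0, 0, 1, 0, 2]) 5)))) (.mul (.co (.v 1) 4) (.co (.k [0, 0, 0, 0, 0, 1, 0, 2]) 5))) (.neg (.mul (.co (.v 1)
    3) (.co (.k [0, 0, 0, 0, 0, 1, 0, 2]) 6)))) (.neg (.mul (.co (.v 1) 0) (.co (.k [0, 0, 0, 0, 0, 1, 0, 2]) 7)))))
    (.ez (.add (.add (.add (.add (.neg (.mul (.co (.v 1) 2) (.co (.k [0, 0, 0, 0, 0, 1, 0, 2]) 5))) (.neg (.mul (.co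
    (.v 1) 4) (.co (.k [0, 0, 0, 0, 0, 1, 0, 2]) 5)))) (.mul (.co (.v 1) 3) (.co (.k [0, 0, 0, 0, 0, 1, 0, 2]) 6)))
    (.mul (.co (.v 1) 4) (.co (.k [0, 0, 0, 0, 0, 1, 0, 2]) 6))) (.mul (.co (.v 1) 3) (.co (.k [0, 0, 0, 0, 0, 1, 0,
    2]) 7))))) (.imp (.and (.ez (.add (.add (.add (.add (.mul (.co (.v 2) 0) (.co (.k [0, 0, 0, 0, 0, 1, 0, 2]) 5))
    (.neg (.mul (.co (.v 2) 3) (.co (.k [0, 0, 0, 0, 0, 1, 0, 2]) 5)))) (.mul (.co (.v 2) 4) (.co (.k [0, 0, 0, 0,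
    0, 1, 0, 2]) 5))) (.neg (.mul (.co (.v 2) 3) (.co (.k [0, 0, 0, 0, 0, 1, 0, 2]) 6)))) (.neg (.mul (.co (.v 2) 0)
    (.co (.k [0, 0, 0, 0, 0, 1, 0, 2]) 7))))) (.ez (.add (.add (.add (.add (.neg (.mul (.co (.v 2) 2) (.co (.k [0,
    0, 0, 0, 0, 1, 0, 2]) 5))) (.neg (.mul (.co (.v 2) 4) (.co (.k [0, 0, 0, 0, 0, 1, 0, 2]) 5)))) (.mul (.co (.v 2)
    3) (.co (.k [0, 0, 0, 0, 0, 1, 0, 2]) 6))) (.mul (.co (.v 2) 4) (.co (.k [0, 0, 0, 0, 0, 1, 0, 2]) 6))) (.mul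
    (.co (.v 2) 3) (.co (.k [0, 0, 0, 0, 0, 1, 0, 2]) 7))))) (.or (.or (.z (.v 2) [0, 1, 2, 3, 4]) (.or (.z (.mul
    (.inv (.v 0)) (.v 2)) [0, 1, 2, 3, 4]) (.z (.mul (.v 0) (.v 2)) [0, 1, 2, 3, 4]))) (.or (.or (.z (.mul (.inv (.v
    1)) (.v 2)) [0, 1, 2, 3, 4]) (.or (.z (.mul (.inv (.v 0)) (.mul (.inv (.v 1)) (.v 2))) [0, 1, 2, 3, 4]) (.z
    (.mul (.v 0) (.mul (.inv (.v 1)) (.v 2))) [0, 1, 2, 3, 4]))) (.or (.z (.mul (.v 1) (.v 2)) [0, 1, 2, 3, 4]) (.or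
    (.z (.mul (.inv (.v 0)) (.mul (.v 1) (.v 2))) [0, 1, 2, 3, 4]) (.z (.mul (.v 0) (.mul (.v 1) (.v 2))) [0, 1, 2,
    3, 4])))))))))) (by decide +kernel) y y' w hy hy' hw
  have : kv [0, 0, 0, 0, 0, 1, 0, 2] ∈ E1 := km (by decide)
  have : kv [0, 0, 0, 0, 0, 1, 0, 2] ∈ E2 := km (by decide)
  have : kv [0, 0, 0, 0, 0, 1, 0, 2] ∈ D1 := km (by decide)
  simp (disch := repeat' first | assumption | apply mul_mem | apply inv_mem) only [cd_iff] at H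
  exact H

theorem b5_2 {y y' w : V} (hy : y ∈ E1) (hy' : y' ∈ E1) (hw : w ∈ E1) : y ∉ D1 → ¬ L3 y y' D1 → y * kv [0, 0, 0, 0,
    0, 1, 1, 0] = kv [0, 0, 0, 0, 0, 1, 1, 0] * y → y' * kv [0, 0, 0, 0, 0, 1, 1, 0] = kv [0, 0, 0, 0, 0, 1, 1, 0] *
    y' → w * kv [0, 0, 0, 0, 0, 1, 1, 0] = kv [0, 0, 0, 0, 0, 1, 1, 0] * w → P9 y y' w D1 := by
  have H : y ∉ D1 → ¬ L3 y y' D1 → Cd y (kv [0, 0, 0, 0, 0, 1, 1, 0]) → Cd y' (kv [0, 0, 0, 0, 0, 1, 1, 0]) → Cd w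
    (kv [0, 0, 0, 0, 0, 1, 1, 0]) → P9 y y' w D1 := c3 [1] 5 [1] 5 [1] 5 (.imp (.not (.z (.v 0) [0, 1, 2, 3, 4]))
    (.imp (.not (.or (.z (.v 1) [0, 1, 2, 3, 4]) (.or (.z (.mul (.inv (.v 0)) (.v 1)) [0, 1, 2, 3, 4]) (.z (.mul (.v
    0) (.v 1)) [0, 1, 2, 3, 4])))) (.imp (.and (.ez (.add (.add (.add (.add (.mul (.co (.v 0) 0) (.co (.k [0, 0, 0,
    0, 0, 1, 1, 0]) 5)) (.neg (.mul (.co (.v 0) 3) (.co (.k [0, 0, 0, 0, 0, 1, 1, 0]) 5)))) (.mul (.co (.v 0) 4)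
    (.co (.k [0, 0, 0, 0, 0, 1, 1, 0]) 5))) (.neg (.mul (.co (.v 0) 3) (.co (.k [0, 0, 0, 0, 0, 1, 1, 0]) 6))))
    (.neg (.mul (.co (.v 0) 0) (.co (.k [0, 0, 0, 0, 0, 1, 1, 0]) 7))))) (.ez (.add (.add (.add (.add (.neg (.mul
    (.co (.v 0) 2) (.co (.k [0, 0, 0, 0, 0, 1, 1, 0]) 5))) (.neg (.mul (.co (.v 0) 4) (.co (.k [0, 0, 0, 0, 0, 1, 1,
    0]) 5)))) (.mul (.co (.v 0) 3) (.co (.k [0, 0, 0, 0, 0, 1, 1, 0]) 6))) (.mul (.co (.v 0) 4) (.co (.k [0, 0, 0,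
    0, 0, 1, 1, 0]) 6))) (.mul (.co (.v 0) 3) (.co (.k [0, 0, 0, 0, 0, 1, 1, 0]) 7))))) (.imp (.and (.ez (.add (.add
    (.add (.add (.mul (.co (.v 1) 0) (.co (.k [0, 0, 0, 0, 0, 1, 1, 0]) 5)) (.neg (.mul (.co (.v 1) 3) (.co (.k [0,
    0, 0, 0, 0, 1, 1, 0]) 5)))) (.mul (.co (.v 1) 4) (.co (.k [0, 0, 0, 0, 0, 1, 1, 0]) 5))) (.neg (.mul (.co (.v 1)
    3) (.co (.k [0, 0, 0, 0, 0, 1, 1, 0]) 6)))) (.neg (.mul (.co (.v 1) 0) (.co (.k [0, 0, 0, 0, 0, 1, 1, 0]) 7)))))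
    (.ez (.add (.add (.add (.add (.neg (.mul (.co (.v 1) 2) (.co (.k [0, 0, 0, 0, 0, 1, 1, 0]) 5))) (.neg (.mul (.co
    (.v 1) 4) (.co (.k [0, 0, 0, 0, 0, 1, 1, 0]) 5)))) (.mul (.co (.v 1) 3) (.co (.k [0, 0, 0, 0, 0, 1, 1, 0]) 6)))
    (.mul (.co (.v 1) 4) (.co (.k [0, 0, 0, 0, 0, 1, 1, 0]) 6))) (.mul (.co (.v 1) 3) (.co (.k [0, 0, 0, 0, 0, 1, 1,
    0]) 7))))) (.imp (.and (.ez (.add (.add (.add (.add (.mul (.co (.v 2) 0) (.co (.k [0, 0, 0, 0, 0, 1, 1, 0]) 5))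
    (.neg (.mul (.co (.v 2) 3) (.co (.k [0, 0, 0, 0, 0, 1, 1, 0]) 5)))) (.mul (.co (.v 2) 4) (.co (.k [0, 0, 0, 0,
    0, 1, 1, 0]) 5))) (.neg (.mul (.co (.v 2) 3) (.co (.k [0, 0, 0, 0, 0, 1, 1, 0]) 6)))) (.neg (.mul (.co (.v 2) 0)
    (.co (.k [0, 0, 0, 0, 0, 1, 1, 0]) 7))))) (.ez (.add (.add (.add (.add (.neg (.mul (.co (.v 2) 2) (.co (.k [0,
    0, 0, 0, 0, 1, 1, 0]) 5))) (.neg (.mul (.co (.v 2) 4) (.co (.k [0, 0, 0, 0, 0, 1, 1, 0]) 5)))) (.mul (.co (.v 2)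
    3) (.co (.k [0, 0, 0, 0, 0, 1, 1, 0]) 6))) (.mul (.co (.v 2) 4) (.co (.k [0, 0, 0, 0, 0, 1, 1, 0]) 6))) (.mul
    (.co (.v 2) 3) (.co (.k [0, 0, 0, 0, 0, 1, 1, 0]) 7))))) (.or (.or (.z (.v 2) [0, 1, 2, 3, 4]) (.or (.z (.mul
    (.inv (.v 0)) (.v 2)) [0, 1, 2, 3, 4]) (.z (.mul (.v 0) (.v 2)) [0, 1, 2, 3, 4]))) (.or (.or (.z (.mul (.inv (.v
    1)) (.v 2)) [0, 1, 2, 3, 4]) (.or (.z (.mul (.inv (.v 0)) (.mul (.inv (.v 1)) (.v 2))) [0, 1, 2, 3, 4]) (.z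
    (.mul (.v 0) (.mul (.inv (.v 1)) (.v 2))) [0, 1, 2, 3, 4]))) (.or (.z (.mul (.v 1) (.v 2)) [0, 1, 2, 3, 4]) (.or
    (.z (.mul (.inv (.v 0)) (.mul (.v 1) (.v 2))) [0, 1, 2, 3, 4]) (.z (.mul (.v 0) (.mul (.v 1) (.v 2))) [0, 1, 2,
    3, 4])))))))))) (by decide +kernel) y y' w hy hy' hw
  have : kv [0, 0, 0, 0, 0, 1, 1, 0] ∈ E1 := km (by decide)
  have : kv [0, 0, 0, 0, 0, 1, 1, 0] ∈ E2 := km (by decide)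
  have : kv [0, 0, 0, 0, 0, 1, 1, 0] ∈ D1 := km (by decide)
  simp (disch := repeat' first | assumption | apply mul_mem | apply inv_mem) only [cd_iff] at H
  exact H

theorem b4 {y y' : V} (hy : y ∈ E1) (hy' : y' ∈ E1) (k1 : y ∉ D1) (k2 : ¬ L3 y y' D1) (k3 : ⁅y', y⁆ ∈ Z2)
    (k4 : y ^ 3 = 1) : ∃ d ∈ D1, y * d = d * y ∧ y' * d = d * y' ∧ ∀ w ∈ E1, w * d = d * w → P9 y y' w D1 := by
  rcases b4' hy hy' k1 k2 k3 k4 with k | k | k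
  · exact ⟨_, km (by decide), k.1, k.2, fun w hw => b5_0 hy hy' hw k1 k2 k.1 k.2⟩
  · exact ⟨_, km (by decide), k.1, k.2, fun w hw => b5_1 hy hy' hw k1 k2 k.1 k.2⟩
  · exact ⟨_, km (by decide), k.1, k.2, fun w hw => b5_2 hy hy' hw k1 k2 k.1 k.2⟩

theorem r1 {y x : V} (hy : y ∈ E1) (hx : x ∈ D1) : y ∉ D1 → y * h 5 = h 5 * y ∨ y * (x⁻¹ * h 5) = x⁻¹ * h 5 * y ∨ y
    * (x * h 5) = x * h 5 * y → y * h 6 = h 6 * y ∨ y * (x⁻¹ * h 6) = x⁻¹ * h 6 * y ∨ y * (x * h 6) = x * h 6 * y →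
    y * h 7 = h 7 * y ∨ y * (x⁻¹ * h 7) = x⁻¹ * h 7 * y ∨ y * (x * h 7) = x * h 7 * y → (kv [0, 0, 1, 0, 0])⁻¹ * y ∈
    D1 ∨ (kv [0, 0, 2, 0, 0])⁻¹ * y ∈ D1 ∨ (kv [1, 0, 0, 0, 0])⁻¹ * y ∈ D1 ∨ (kv [2, 0, 0, 0, 0])⁻¹ * y ∈ D1 ∨ (kv
    [1, 0, 0, 1, 0])⁻¹ * y ∈ D1 ∨ (kv [2, 0, 0, 2, 0])⁻¹ * y ∈ D1 ∨ (kv [1, 0, 0, 2, 2])⁻¹ * y ∈ D1 ∨ (kv [2, 0, 0,
    1, 1])⁻¹ * y ∈ D1 := by
  have H : y ∉ D1 → Cd y (h 5) ∨ Cd y (x⁻¹ * h 5) ∨ Cd y (x * h 5) → Cd y (h 6) ∨ Cd y (x⁻¹ * h 6) ∨ Cd y (x * h 6)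
    → Cd y (h 7) ∨ Cd y (x⁻¹ * h 7) ∨ Cd y (x * h 7) → (kv [0, 0, 1, 0, 0])⁻¹ * y ∈ D1 ∨ (kv [0, 0, 2, 0, 0])⁻¹ * y
    ∈ D1 ∨ (kv [1, 0, 0, 0, 0])⁻¹ * y ∈ D1 ∨ (kv [2, 0, 0, 0, 0])⁻¹ * y ∈ D1 ∨ (kv [1, 0, 0, 1, 0])⁻¹ * y ∈ D1 ∨ (kv
    [2, 0, 0, 2, 0])⁻¹ * y ∈ D1 ∨ (kv [1, 0, 0, 2, 2])⁻¹ * y ∈ D1 ∨ (kv [2, 0, 0, 1, 1])⁻¹ * y ∈ D1 := c2 [1] 5 [0,
    1, 2, 3, 4] 8 (.imp (.not (.z (.v 0) [0, 1, 2, 3, 4])) (.imp (.or (.and (.ez (.add (.add (.add (.add (.mul (.co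
    (.v 0) 0) (.co (.k [0, 0, 0, 0, 0, 1]) 5)) (.neg (.mul (.co (.v 0) 3) (.co (.k [0, 0, 0, 0, 0, 1]) 5)))) (.mul
    (.co (.v 0) 4) (.co (.k [0, 0, 0, 0, 0, 1]) 5))) (.neg (.mul (.co (.v 0) 3) (.co (.k [0, 0, 0, 0, 0, 1]) 6))))
    (.neg (.mul (.co (.v 0) 0) (.co (.k [0, 0, 0, 0, 0, 1]) 7))))) (.ez (.add (.add (.add (.add (.neg (.mul (.co (.v
    0) 2) (.co (.k [0, 0, 0, 0, 0, 1]) 5))) (.neg (.mul (.co (.v 0) 4) (.co (.k [0, 0, 0, 0, 0, 1]) 5)))) (.mul (.co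
    (.v 0) 3) (.co (.k [0, 0, 0, 0, 0, 1]) 6))) (.mul (.co (.v 0) 4) (.co (.k [0, 0, 0, 0, 0, 1]) 6))) (.mul (.co
    (.v 0) 3) (.co (.k [0, 0, 0, 0, 0, 1]) 7))))) (.or (.and (.ez (.add (.add (.add (.add (.mul (.co (.v 0) 0) (.co
    (.mul (.inv (.v 1)) (.k [0, 0, 0, 0, 0, 1])) 5)) (.neg (.mul (.co (.v 0) 3) (.co (.mul (.inv (.v 1)) (.k [0, 0,
    0, 0, 0, 1])) 5)))) (.mul (.co (.v 0) 4) (.co (.mul (.inv (.v 1)) (.k [0, 0, 0, 0, 0, 1])) 5))) (.neg (.mul (.co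
    (.v 0) 3) (.co (.mul (.inv (.v 1)) (.k [0, 0, 0, 0, 0, 1])) 6)))) (.neg (.mul (.co (.v 0) 0) (.co (.mul (.inv
    (.v 1)) (.k [0, 0, 0, 0, 0, 1])) 7))))) (.ez (.add (.add (.add (.add (.neg (.mul (.co (.v 0) 2) (.co (.mul (.inv
    (.v 1)) (.k [0, 0, 0, 0, 0, 1])) 5))) (.neg (.mul (.co (.v 0) 4) (.co (.mul (.inv (.v 1)) (.k [0, 0, 0, 0, 0,
    1])) 5)))) (.mul (.co (.v 0) 3) (.co (.mul (.inv (.v 1)) (.k [0, 0, 0, 0, 0, 1])) 6))) (.mul (.co (.v 0) 4) (.co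
    (.mul (.inv (.v 1)) (.k [0, 0, 0, 0, 0, 1])) 6))) (.mul (.co (.v 0) 3) (.co (.mul (.inv (.v 1)) (.k [0, 0, 0, 0,
    0, 1])) 7))))) (.and (.ez (.add (.add (.add (.add (.mul (.co (.v 0) 0) (.co (.mul (.v 1) (.k [0, 0, 0, 0, 0,
    1])) 5)) (.neg (.mul (.co (.v 0) 3) (.co (.mul (.v 1) (.k [0, 0, 0, 0, 0, 1])) 5)))) (.mul (.co (.v 0) 4) (.co
    (.mul (.v 1) (.k [0, 0, 0, 0, 0, 1])) 5))) (.neg (.mul (.co (.v 0) 3) (.co (.mul (.v 1) (.k [0, 0, 0, 0, 0, 1]))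
    6)))) (.neg (.mul (.co (.v 0) 0) (.co (.mul (.v 1) (.k [0, 0, 0, 0, 0, 1])) 7))))) (.ez (.add (.add (.add (.add
    (.neg (.mul (.co (.v 0) 2) (.co (.mul (.v 1) (.k [0, 0, 0, 0, 0, 1])) 5))) (.neg (.mul (.co (.v 0) 4) (.co (.mul
    (.v 1) (.k [0, 0, 0, 0, 0, 1])) 5)))) (.mul (.co (.v 0) 3) (.co (.mul (.v 1) (.k [0, 0, 0, 0, 0, 1])) 6))) (.mul
    (.co (.v 0) 4) (.co (.mul (.v 1) (.k [0, 0, 0, 0, 0, 1])) 6))) (.mul (.co (.v 0) 3) (.co (.mul (.v 1) (.k [0, 0,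
    0, 0, 0, 1])) 7))))))) (.imp (.or (.and (.ez (.add (.add (.add (.add (.mul (.co (.v 0) 0) (.co (.k [0, 0, 0, 0,
    0, 0, 1]) 5)) (.neg (.mul (.co (.v 0) 3) (.co (.k [0, 0, 0, 0, 0, 0, 1]) 5)))) (.mul (.co (.v 0) 4) (.co (.k [0,
    0, 0, 0, 0, 0, 1]) 5))) (.neg (.mul (.co (.v 0) 3) (.co (.k [0, 0, 0, 0, 0, 0, 1]) 6)))) (.neg (.mul (.co (.v 0)
    0) (.co (.k [0, 0, 0, 0, 0, 0, 1]) 7))))) (.ez (.add (.add (.add (.add (.neg (.mul (.co (.v 0) 2) (.co (.k [0,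
    0, 0, 0, 0, 0, 1]) 5))) (.neg (.mul (.co (.v 0) 4) (.co (.k [0, 0, 0, 0, 0, 0, 1]) 5)))) (.mul (.co (.v 0) 3)
    (.co (.k [0, 0, 0, 0, 0, 0, 1]) 6))) (.mul (.co (.v 0) 4) (.co (.k [0, 0, 0, 0, 0, 0, 1]) 6))) (.mul (.co (.v 0)
    3) (.co (.k [0, 0, 0, 0, 0, 0, 1]) 7))))) (.or (.and (.ez (.add (.add (.add (.add (.mul (.co (.v 0) 0) (.co
    (.mul (.inv (.v 1)) (.k [0, 0, 0, 0, 0, 0, 1])) 5)) (.neg (.mul (.co (.v 0) 3) (.co (.mul (.inv (.v 1)) (.k [0,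
    0, 0, 0, 0, 0, 1])) 5)))) (.mul (.co (.v 0) 4) (.co (.mul (.inv (.v 1)) (.k [0, 0, 0, 0, 0, 0, 1])) 5))) (.neg
    (.mul (.co (.v 0) 3) (.co (.mul (.inv (.v 1)) (.k [0, 0, 0, 0, 0, 0, 1])) 6)))) (.neg (.mul (.co (.v 0) 0) (.co
    (.mul (.inv (.v 1)) (.k [0, 0, 0, 0, 0, 0, 1])) 7))))) (.ez (.add (.add (.add (.add (.neg (.mul (.co (.v 0) 2)
    (.co (.mul (.inv (.v 1)) (.k [0, 0, 0, 0, 0, 0, 1])) 5))) (.neg (.mul (.co (.v 0) 4) (.co (.mul (.inv (.v 1))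
    (.k [0, 0, 0, 0, 0, 0, 1])) 5)))) (.mul (.co (.v 0) 3) (.co (.mul (.inv (.v 1)) (.k [0, 0, 0, 0, 0, 0, 1])) 6)))
    (.mul (.co (.v 0) 4) (.co (.mul (.inv (.v 1)) (.k [0, 0, 0, 0, 0, 0, 1])) 6))) (.mul (.co (.v 0) 3) (.co (.mul
    (.inv (.v 1)) (.k [0, 0, 0, 0, 0, 0, 1])) 7))))) (.and (.ez (.add (.add (.add (.add (.mul (.co (.v 0) 0) (.co
    (.mul (.v 1) (.k [0, 0, 0, 0, 0, 0, 1])) 5)) (.neg (.mul (.co (.v 0) 3) (.co (.mul (.v 1) (.k [0, 0, 0, 0, 0, 0,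
    1])) 5)))) (.mul (.co (.v 0) 4) (.co (.mul (.v 1) (.k [0, 0, 0, 0, 0, 0, 1])) 5))) (.neg (.mul (.co (.v 0) 3)
    (.co (.mul (.v 1) (.k [0, 0, 0, 0, 0, 0, 1])) 6)))) (.neg (.mul (.co (.v 0) 0) (.co (.mul (.v 1) (.k [0, 0, 0,
    0, 0, 0, 1])) 7))))) (.ez (.add (.add (.add (.add (.neg (.mul (.co (.v 0) 2) (.co (.mul (.v 1) (.k [0, 0, 0, 0,
    0, 0, 1])) 5))) (.neg (.mul (.co (.v 0) 4) (.co (.mul (.v 1) (.k [0, 0, 0, 0, 0, 0, 1])) 5)))) (.mul (.co (.v 0)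
    3) (.co (.mul (.v 1) (.k [0, 0, 0, 0, 0, 0, 1])) 6))) (.mul (.co (.v 0) 4) (.co (.mul (.v 1) (.k [0, 0, 0, 0, 0,
    0, 1])) 6))) (.mul (.co (.v 0) 3) (.co (.mul (.v 1) (.k [0, 0, 0, 0, 0, 0, 1])) 7))))))) (.imp (.or (.and (.ez
    (.add (.add (.add (.add (.mul (.co (.v 0) 0) (.co (.k [0, 0, 0, 0, 0, 0, 0, 1]) 5)) (.neg (.mul (.co (.v 0) 3)
    (.co (.k [0, 0, 0, 0, 0, 0, 0, 1]) 5)))) (.mul (.co (.v 0) 4) (.co (.k [0, 0, 0, 0, 0, 0, 0, 1]) 5))) (.neg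
    (.mul (.co (.v 0) 3) (.co (.k [0, 0, 0, 0, 0, 0, 0, 1]) 6)))) (.neg (.mul (.co (.v 0) 0) (.co (.k [0, 0, 0, 0,
    0, 0, 0, 1]) 7))))) (.ez (.add (.add (.add (.add (.neg (.mul (.co (.v 0) 2) (.co (.k [0, 0, 0, 0, 0, 0, 0, 1])
    5))) (.neg (.mul (.co (.v 0) 4) (.co (.k [0, 0, 0, 0, 0, 0, 0, 1]) 5)))) (.mul (.co (.v 0) 3) (.co (.k [0, 0, 0,
    0, 0, 0, 0, 1]) 6))) (.mul (.co (.v 0) 4) (.co (.k [0, 0, 0, 0, 0, 0, 0, 1]) 6))) (.mul (.co (.v 0) 3) (.co (.k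
    [0, 0, 0, 0, 0, 0, 0, 1]) 7))))) (.or (.and (.ez (.add (.add (.add (.add (.mul (.co (.v 0) 0) (.co (.mul (.inv
    (.v 1)) (.k [0, 0, 0, 0, 0, 0, 0, 1])) 5)) (.neg (.mul (.co (.v 0) 3) (.co (.mul (.inv (.v 1)) (.k [0, 0, 0, 0,
    0, 0, 0, 1])) 5)))) (.mul (.co (.v 0) 4) (.co (.mul (.inv (.v 1)) (.k [0, 0, 0, 0, 0, 0, 0, 1])) 5))) (.neg
    (.mul (.co (.v 0) 3) (.co (.mul (.inv (.v 1)) (.k [0, 0, 0, 0, 0, 0, 0, 1])) 6)))) (.neg (.mul (.co (.v 0) 0)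
    (.co (.mul (.inv (.v 1)) (.k [0, 0, 0, 0, 0, 0, 0, 1])) 7))))) (.ez (.add (.add (.add (.add (.neg (.mul (.co (.v
    0) 2) (.co (.mul (.inv (.v 1)) (.k [0, 0, 0, 0, 0, 0, 0, 1])) 5))) (.neg (.mul (.co (.v 0) 4) (.co (.mul (.inv
    (.v 1)) (.k [0, 0, 0, 0, 0, 0, 0, 1])) 5)))) (.mul (.co (.v 0) 3) (.co (.mul (.inv (.v 1)) (.k [0, 0, 0, 0, 0,
    0, 0, 1])) 6))) (.mul (.co (.v 0) 4) (.co (.mul (.inv (.v 1)) (.k [0, 0, 0, 0, 0, 0, 0, 1])) 6))) (.mul (.co (.v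
    0) 3) (.co (.mul (.inv (.v 1)) (.k [0, 0, 0, 0, 0, 0, 0, 1])) 7))))) (.and (.ez (.add (.add (.add (.add (.mul
    (.co (.v 0) 0) (.co (.mul (.v 1) (.k [0, 0, 0, 0, 0, 0, 0, 1])) 5)) (.neg (.mul (.co (.v 0) 3) (.co (.mul (.v 1)
    (.k [0, 0, 0, 0, 0, 0, 0, 1])) 5)))) (.mul (.co (.v 0) 4) (.co (.mul (.v 1) (.k [0, 0, 0, 0, 0, 0, 0, 1])) 5)))
    (.neg (.mul (.co (.v 0) 3) (.co (.mul (.v 1) (.k [0, 0, 0, 0, 0, 0, 0, 1])) 6)))) (.neg (.mul (.co (.v 0) 0)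
    (.co (.mul (.v 1) (.k [0, 0, 0, 0, 0, 0, 0, 1])) 7))))) (.ez (.add (.add (.add (.add (.neg (.mul (.co (.v 0) 2)
    (.co (.mul (.v 1) (.k [0, 0, 0, 0, 0, 0, 0, 1])) 5))) (.neg (.mul (.co (.v 0) 4) (.co (.mul (.v 1) (.k [0, 0, 0,
    0, 0, 0, 0, 1])) 5)))) (.mul (.co (.v 0) 3) (.co (.mul (.v 1) (.k [0, 0, 0, 0, 0, 0, 0, 1])) 6))) (.mul (.co (.v
    0) 4) (.co (.mul (.v 1) (.k [0, 0, 0, 0, 0, 0, 0, 1])) 6))) (.mul (.co (.v 0) 3) (.co (.mul (.v 1) (.k [0, 0, 0,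
    0, 0, 0, 0, 1])) 7))))))) (.or (.z (.mul (.inv (.k [0, 0, 1, 0, 0])) (.v 0)) [0, 1, 2, 3, 4]) (.or (.z (.mul
    (.inv (.k [0, 0, 2, 0, 0])) (.v 0)) [0, 1, 2, 3, 4]) (.or (.z (.mul (.inv (.k [1, 0, 0, 0, 0])) (.v 0)) [0, 1,
    2, 3, 4]) (.or (.z (.mul (.inv (.k [2, 0, 0, 0, 0])) (.v 0)) [0, 1, 2, 3, 4]) (.or (.z (.mul (.inv (.k [1, 0, 0,
    1, 0])) (.v 0)) [0, 1, 2, 3, 4]) (.or (.z (.mul (.inv (.k [2, 0, 0, 2, 0])) (.v 0)) [0, 1, 2, 3, 4]) (.or (.z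
    (.mul (.inv (.k [1, 0, 0, 2, 2])) (.v 0)) [0, 1, 2, 3, 4]) (.z (.mul (.inv (.k [2, 0, 0, 1, 1])) (.v 0)) [0, 1,
    2, 3, 4])))))))))))) (by decide +kernel) y x hy hx
  have : x ∈ E1 := le_of_sub (by decide) hx
  have : x ∈ E2 := le_of_sub (by decide) hx
  have : h 5 ∈ E1 := hm (by decide)
  have : h 5 ∈ E2 := hm (by decide)
  have : h 5 ∈ D1 := hm (by decide)
  have : h 6 ∈ E1 := hm (by decide)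
  have : h 6 ∈ E2 := hm (by decide)
  have : h 6 ∈ D1 := hm (by decide)
  have : h 7 ∈ E1 := hm (by decide)
  have : h 7 ∈ E2 := hm (by decide)
  have : h 7 ∈ D1 := hm (by decide)
  simp (disch := repeat' first | assumption | apply mul_mem | apply inv_mem) only [cd_iff] at H
  exact H

theorem r2 {y w : V} (hy : y ∈ E1) (hw : w ∈ E1) : (kv [0, 0, 1, 0, 0])⁻¹ * y ∈ D1 ∨ (kv [0, 0, 2, 0, 0])⁻¹ * y ∈ D1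
    ∨ (kv [1, 0, 0, 0, 0])⁻¹ * y ∈ D1 ∨ (kv [2, 0, 0, 0, 0])⁻¹ * y ∈ D1 ∨ (kv [1, 0, 0, 1, 0])⁻¹ * y ∈ D1 ∨ (kv [2,
    0, 0, 2, 0])⁻¹ * y ∈ D1 ∨ (kv [1, 0, 0, 2, 2])⁻¹ * y ∈ D1 ∨ (kv [2, 0, 0, 1, 1])⁻¹ * y ∈ D1 → ⁅w, y⁆ ∈ Z2 → L3 y
    w D1 := by
  have H : (kv [0, 0, 1, 0, 0])⁻¹ * y ∈ D1 ∨ (kv [0, 0, 2, 0, 0])⁻¹ * y ∈ D1 ∨ (kv [1, 0, 0, 0, 0])⁻¹ * y ∈ D1 ∨ (kv
    [2, 0, 0, 0, 0])⁻¹ * y ∈ D1 ∨ (kv [1, 0, 0, 1, 0])⁻¹ * y ∈ D1 ∨ (kv [2, 0, 0, 2, 0])⁻¹ * y ∈ D1 ∨ (kv [1, 0, 0,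
    2, 2])⁻¹ * y ∈ D1 ∨ (kv [2, 0, 0, 1, 1])⁻¹ * y ∈ D1 → Bl w y → L3 y w D1 := c2 [1] 5 [1] 5 (.imp (.or (.z (.mul
    (.inv (.k [0, 0, 1, 0, 0])) (.v 0)) [0, 1, 2, 3, 4]) (.or (.z (.mul (.inv (.k [0, 0, 2, 0, 0])) (.v 0)) [0, 1,
    2, 3, 4]) (.or (.z (.mul (.inv (.k [1, 0, 0, 0, 0])) (.v 0)) [0, 1, 2, 3, 4]) (.or (.z (.mul (.inv (.k [2, 0, 0,
    0, 0])) (.v 0)) [0, 1, 2, 3, 4]) (.or (.z (.mul (.inv (.k [1, 0, 0, 1, 0])) (.v 0)) [0, 1, 2, 3, 4]) (.or (.z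
    (.mul (.inv (.k [2, 0, 0, 2, 0])) (.v 0)) [0, 1, 2, 3, 4]) (.or (.z (.mul (.inv (.k [1, 0, 0, 2, 2])) (.v 0))
    [0, 1, 2, 3, 4]) (.z (.mul (.inv (.k [2, 0, 0, 1, 1])) (.v 0)) [0, 1, 2, 3, 4])))))))) (.imp (.and (.ez (.add
    (.add (.add (.neg (.mul (.co (.v 1) 2) (.co (.v 0) 0))) (.mul (.co (.v 1) 3) (.co (.v 0) 0))) (.mul (.co (.v 1)
    0) (.co (.v 0) 2))) (.neg (.mul (.co (.v 1) 0) (.co (.v 0) 3))))) (.and (.ez (.add (.add (.add (.add (.add (.add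
    (.add (.neg (.mul (.co (.v 1) 2) (.co (.v 0) 0))) (.neg (.mul (.co (.v 1) 3) (.co (.v 0) 0)))) (.mul (.co (.v 1)
    4) (.co (.v 0) 0))) (.mul (.co (.v 1) 0) (.co (.v 0) 2))) (.neg (.mul (.co (.v 1) 3) (.co (.v 0) 2)))) (.mul
    (.co (.v 1) 0) (.co (.v 0) 3))) (.mul (.co (.v 1) 2) (.co (.v 0) 3))) (.neg (.mul (.co (.v 1) 0) (.co (.v 0)
    4))))) (.ez (.add (.add (.add (.add (.add (.add (.add (.neg (.mul (.co (.v 1) 3) (.co (.v 0) 0))) (.neg (.mul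
    (.co (.v 1) 3) (.co (.v 0) 2)))) (.neg (.mul (.co (.v 1) 4) (.co (.v 0) 2)))) (.mul (.co (.v 1) 0) (.co (.v 0)
    3))) (.mul (.co (.v 1) 2) (.co (.v 0) 3))) (.neg (.mul (.co (.v 1) 4) (.co (.v 0) 3)))) (.mul (.co (.v 1) 2)
    (.co (.v 0) 4))) (.mul (.co (.v 1) 3) (.co (.v 0) 4)))))) (.or (.z (.v 1) [0, 1, 2, 3, 4]) (.or (.z (.mul (.inv
    (.v 0)) (.v 1)) [0, 1, 2, 3, 4]) (.z (.mul (.v 0) (.v 1)) [0, 1, 2, 3, 4]))))) (by decide +kernel) y w hy hw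
  simp (disch := repeat' first | assumption | apply mul_mem | apply inv_mem) only [bl_iff] at H
  exact H

theorem r3a {y : V} (hy : y ∈ E1) : (kv [0, 0, 1, 0, 0])⁻¹ * y ∈ D1 ∨ (kv [0, 0, 2, 0, 0])⁻¹ * y ∈ D1 ∨ (kv [1, 0,
    0, 0, 0])⁻¹ * y ∈ D1 ∨ (kv [2, 0, 0, 0, 0])⁻¹ * y ∈ D1 ∨ (kv [1, 0, 0, 1, 0])⁻¹ * y ∈ D1 ∨ (kv [2, 0, 0, 2,
    0])⁻¹ * y ∈ D1 ∨ (kv [1, 0, 0, 2, 2])⁻¹ * y ∈ D1 ∨ (kv [2, 0, 0, 1, 1])⁻¹ * y ∈ D1 → ((P8c y ((B5 (kv [0, 0, 0,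
    0, 1]) y)) ((B6 (kv [0, 0, 0, 0, 1]) y)) ((B7 (kv [0, 0, 0, 0, 1]) y))) = 0 ∧ (P9c y ((B5 (kv [0, 0, 0, 0, 1])
    y)) ((B6 (kv [0, 0, 0, 0, 1]) y)) ((B7 (kv [0, 0, 0, 0, 1]) y))) = 0) ∧ ¬ L3 y (kv [0, 0, 0, 0, 1]) D1 ∨ ((P8c y
    ((B5 (kv [0, 0, 1, 2, 0]) y)) ((B6 (kv [0, 0, 1, 2, 0]) y)) ((B7 (kv [0, 0, 1, 2, 0]) y))) = 0 ∧ (P9c y ((B5 (kv
    [0, 0, 1, 2, 0]) y)) ((B6 (kv [0, 0, 1, 2, 0]) y)) ((B7 (kv [0, 0, 1, 2, 0]) y))) = 0) ∧ ¬ L3 y (kv [0, 0, 1, 2,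
    0]) D1 ∨ ((P8c y ((B5 (kv [0, 0, 1, 2, 1]) y)) ((B6 (kv [0, 0, 1, 2, 1]) y)) ((B7 (kv [0, 0, 1, 2, 1]) y))) = 0
    ∧ (P9c y ((B5 (kv [0, 0, 1, 2, 1]) y)) ((B6 (kv [0, 0, 1, 2, 1]) y)) ((B7 (kv [0, 0, 1, 2, 1]) y))) = 0) ∧ ¬ L3
    y (kv [0, 0, 1, 2, 1]) D1 ∨ ((P8c y ((B5 (kv [0, 0, 1, 2, 2]) y)) ((B6 (kv [0, 0, 1, 2, 2]) y)) ((B7 (kv [0, 0,
    1, 2, 2]) y))) = 0 ∧ (P9c y ((B5 (kv [0, 0, 1, 2, 2]) y)) ((B6 (kv [0, 0, 1, 2, 2]) y)) ((B7 (kv [0, 0, 1, 2,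
    2]) y))) = 0) ∧ ¬ L3 y (kv [0, 0, 1, 2, 2]) D1 :=
  c1 [1] 5 (.imp (.or (.z (.mul (.inv (.k [0, 0, 1, 0, 0])) (.v 0)) [0, 1, 2, 3, 4]) (.or (.z (.mul (.inv (.k [0, 0,
    2, 0, 0])) (.v 0)) [0, 1, 2, 3, 4]) (.or (.z (.mul (.inv (.k [1, 0, 0, 0, 0])) (.v 0)) [0, 1, 2, 3, 4]) (.or (.z
    (.mul (.inv (.k [2, 0, 0, 0, 0])) (.v 0)) [0, 1, 2, 3, 4]) (.or (.z (.mul (.inv (.k [1, 0, 0, 1, 0])) (.v 0))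
    [0, 1, 2, 3, 4]) (.or (.z (.mul (.inv (.k [2, 0, 0, 2, 0])) (.v 0)) [0, 1, 2, 3, 4]) (.or (.z (.mul (.inv (.k
    [1, 0, 0, 2, 2])) (.v 0)) [0, 1, 2, 3, 4]) (.z (.mul (.inv (.k [2, 0, 0, 1, 1])) (.v 0)) [0, 1, 2, 3, 4]))))))))
    (.or (.and (.and (.ez (.add (.add (.add (.add (.mul (.co (.v 0) 0) (.add (.add (.add (.neg (.mul (.co (.k [0, 0,
    0, 0, 1]) 2) (.co (.v 0) 0))) (.mul (.co (.k [0, 0, 0, 0, 1]) 3) (.co (.v 0) 0))) (.mul (.co (.k [0, 0, 0, 0,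
    1]) 0) (.co (.v 0) 2))) (.neg (.mul (.co (.k [0, 0, 0, 0, 1]) 0) (.co (.v 0) 3))))) (.neg (.mul (.co (.v 0) 3)
    (.add (.add (.add (.neg (.mul (.co (.k [0, 0, 0, 0, 1]) 2) (.co (.v 0) 0))) (.mul (.co (.k [0, 0, 0, 0, 1]) 3)
    (.co (.v 0) 0))) (.mul (.co (.k [0, 0, 0, 0, 1]) 0) (.co (.v 0) 2))) (.neg (.mul (.co (.k [0, 0, 0, 0, 1]) 0)
    (.co (.v 0) 3))))))) (.mul (.co (.v 0) 4) (.add (.add (.add (.neg (.mul (.co (.k [0, 0, 0, 0, 1]) 2) (.co (.v 0)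
    0))) (.mul (.co (.k [0, 0, 0, 0, 1]) 3) (.co (.v 0) 0))) (.mul (.co (.k [0, 0, 0, 0, 1]) 0) (.co (.v 0) 2)))
    (.neg (.mul (.co (.k [0, 0, 0, 0, 1]) 0) (.co (.v 0) 3)))))) (.neg (.mul (.co (.v 0) 3) (.add (.add (.add (.add
    (.add (.add (.add (.neg (.mul (.co (.k [0, 0, 0, 0, 1]) 2) (.co (.v 0) 0))) (.neg (.mul (.co (.k [0, 0, 0, 0,
    1]) 3) (.co (.v 0) 0)))) (.mul (.co (.k [0, 0, 0, 0, 1]) 4) (.co (.v 0) 0))) (.mul (.co (.k [0, 0, 0, 0, 1]) 0)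
    (.co (.v 0) 2))) (.neg (.mul (.co (.k [0, 0, 0, 0, 1]) 3) (.co (.v 0) 2)))) (.mul (.co (.k [0, 0, 0, 0, 1]) 0)
    (.co (.v 0) 3))) (.mul (.co (.k [0, 0, 0, 0, 1]) 2) (.co (.v 0) 3))) (.neg (.mul (.co (.k [0, 0, 0, 0, 1]) 0)
    (.co (.v 0) 4))))))) (.neg (.mul (.co (.v 0) 0) (.add (.add (.add (.add (.add (.add (.add (.neg (.mul (.co (.k
    [0, 0, 0, 0, 1]) 3) (.co (.v 0) 0))) (.neg (.mul (.co (.k [0, 0, 0, 0, 1]) 3) (.co (.v 0) 2)))) (.neg (.mul (.co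
    (.k [0, 0, 0, 0, 1]) 4) (.co (.v 0) 2)))) (.mul (.co (.k [0, 0, 0, 0, 1]) 0) (.co (.v 0) 3))) (.mul (.co (.k [0,
    0, 0, 0, 1]) 2) (.co (.v 0) 3))) (.neg (.mul (.co (.k [0, 0, 0, 0, 1]) 4) (.co (.v 0) 3)))) (.mul (.co (.k [0,
    0, 0, 0, 1]) 2) (.co (.v 0) 4))) (.mul (.co (.k [0, 0, 0, 0, 1]) 3) (.co (.v 0) 4))))))) (.ez (.add (.add (.add
    (.add (.neg (.mul (.co (.v 0) 2) (.add (.add (.add (.neg (.mul (.co (.k [0, 0, 0, 0, 1]) 2) (.co (.v 0) 0)))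
    (.mul (.co (.k [0, 0, 0, 0, 1]) 3) (.co (.v 0) 0))) (.mul (.co (.k [0, 0, 0, 0, 1]) 0) (.co (.v 0) 2))) (.neg
    (.mul (.co (.k [0, 0, 0, 0, 1]) 0) (.co (.v 0) 3)))))) (.neg (.mul (.co (.v 0) 4) (.add (.add (.add (.neg (.mul
    (.co (.k [0, 0, 0, 0, 1]) 2) (.co (.v 0) 0))) (.mul (.co (.k [0, 0, 0, 0, 1]) 3) (.co (.v 0) 0))) (.mul (.co (.k
    [0, 0, 0, 0, 1]) 0) (.co (.v 0) 2))) (.neg (.mul (.co (.k [0, 0, 0, 0, 1]) 0) (.co (.v 0) 3))))))) (.mul (.co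
    (.v 0) 3) (.add (.add (.add (.add (.add (.add (.add (.neg (.mul (.co (.k [0, 0, 0, 0, 1]) 2) (.co (.v 0) 0)))
    (.neg (.mul (.co (.k [0, 0, 0, 0, 1]) 3) (.co (.v 0) 0)))) (.mul (.co (.k [0, 0, 0, 0, 1]) 4) (.co (.v 0) 0)))
    (.mul (.co (.k [0, 0, 0, 0, 1]) 0) (.co (.v 0) 2))) (.neg (.mul (.co (.k [0, 0, 0, 0, 1]) 3) (.co (.v 0) 2))))
    (.mul (.co (.k [0, 0, 0, 0, 1]) 0) (.co (.v 0) 3))) (.mul (.co (.k [0, 0, 0, 0, 1]) 2) (.co (.v 0) 3))) (.neg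
    (.mul (.co (.k [0, 0, 0, 0, 1]) 0) (.co (.v 0) 4)))))) (.mul (.co (.v 0) 4) (.add (.add (.add (.add (.add (.add
    (.add (.neg (.mul (.co (.k [0, 0, 0, 0, 1]) 2) (.co (.v 0) 0))) (.neg (.mul (.co (.k [0, 0, 0, 0, 1]) 3) (.co
    (.v 0) 0)))) (.mul (.co (.k [0, 0, 0, 0, 1]) 4) (.co (.v 0) 0))) (.mul (.co (.k [0, 0, 0, 0, 1]) 0) (.co (.v 0)
    2))) (.neg (.mul (.co (.k [0, 0, 0, 0, 1]) 3) (.co (.v 0) 2)))) (.mul (.co (.k [0, 0, 0, 0, 1]) 0) (.co (.v 0)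
    3))) (.mul (.co (.k [0, 0, 0, 0, 1]) 2) (.co (.v 0) 3))) (.neg (.mul (.co (.k [0, 0, 0, 0, 1]) 0) (.co (.v 0)
    4)))))) (.mul (.co (.v 0) 3) (.add (.add (.add (.add (.add (.add (.add (.neg (.mul (.co (.k [0, 0, 0, 0, 1]) 3)
    (.co (.v 0) 0))) (.neg (.mul (.co (.k [0, 0, 0, 0, 1]) 3) (.co (.v 0) 2)))) (.neg (.mul (.co (.k [0, 0, 0, 0,
    1]) 4) (.co (.v 0) 2)))) (.mul (.co (.k [0, 0, 0, 0, 1]) 0) (.co (.v 0) 3))) (.mul (.co (.k [0, 0, 0, 0, 1]) 2)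
    (.co (.v 0) 3))) (.neg (.mul (.co (.k [0, 0, 0, 0, 1]) 4) (.co (.v 0) 3)))) (.mul (.co (.k [0, 0, 0, 0, 1]) 2)
    (.co (.v 0) 4))) (.mul (.co (.k [0, 0, 0, 0, 1]) 3) (.co (.v 0) 4))))))) (.not (.or (.z (.k [0, 0, 0, 0, 1]) [0,
    1, 2, 3, 4]) (.or (.z (.mul (.inv (.v 0)) (.k [0, 0, 0, 0, 1])) [0, 1, 2, 3, 4]) (.z (.mul (.v 0) (.k [0, 0, 0,
    0, 1])) [0, 1, 2, 3, 4]))))) (.or (.and (.and (.ez (.add (.add (.add (.add (.mul (.co (.v 0) 0) (.add (.add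
    (.add (.neg (.mul (.co (.k [0, 0, 1, 2, 0]) 2) (.co (.v 0) 0))) (.mul (.co (.k [0, 0, 1, 2, 0]) 3) (.co (.v 0)
    0))) (.mul (.co (.k [0, 0, 1, 2, 0]) 0) (.co (.v 0) 2))) (.neg (.mul (.co (.k [0, 0, 1, 2, 0]) 0) (.co (.v 0)
    3))))) (.neg (.mul (.co (.v 0) 3) (.add (.add (.add (.neg (.mul (.co (.k [0, 0, 1, 2, 0]) 2) (.co (.v 0) 0)))
    (.mul (.co (.k [0, 0, 1, 2, 0]) 3) (.co (.v 0) 0))) (.mul (.co (.k [0, 0, 1, 2, 0]) 0) (.co (.v 0) 2))) (.neg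
    (.mul (.co (.k [0, 0, 1, 2, 0]) 0) (.co (.v 0) 3))))))) (.mul (.co (.v 0) 4) (.add (.add (.add (.neg (.mul (.co
    (.k [0, 0, 1, 2, 0]) 2) (.co (.v 0) 0))) (.mul (.co (.k [0, 0, 1, 2, 0]) 3) (.co (.v 0) 0))) (.mul (.co (.k [0,
    0, 1, 2, 0]) 0) (.co (.v 0) 2))) (.neg (.mul (.co (.k [0, 0, 1, 2, 0]) 0) (.co (.v 0) 3)))))) (.neg (.mul (.co
    (.v 0) 3) (.add (.add (.add (.add (.add (.add (.add (.neg (.mul (.co (.k [0, 0, 1, 2, 0]) 2) (.co (.v 0) 0)))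
    (.neg (.mul (.co (.k [0, 0, 1, 2, 0]) 3) (.co (.v 0) 0)))) (.mul (.co (.k [0, 0, 1, 2, 0]) 4) (.co (.v 0) 0)))
    (.mul (.co (.k [0, 0, 1, 2, 0]) 0) (.co (.v 0) 2))) (.neg (.mul (.co (.k [0, 0, 1, 2, 0]) 3) (.co (.v 0) 2))))
    (.mul (.co (.k [0, 0, 1, 2, 0]) 0) (.co (.v 0) 3))) (.mul (.co (.k [0, 0, 1, 2, 0]) 2) (.co (.v 0) 3))) (.neg
    (.mul (.co (.k [0, 0, 1, 2, 0]) 0) (.co (.v 0) 4))))))) (.neg (.mul (.co (.v 0) 0) (.add (.add (.add (.add (.add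
    (.add (.add (.neg (.mul (.co (.k [0, 0, 1, 2, 0]) 3) (.co (.v 0) 0))) (.neg (.mul (.co (.k [0, 0, 1, 2, 0]) 3)
    (.co (.v 0) 2)))) (.neg (.mul (.co (.k [0, 0, 1, 2, 0]) 4) (.co (.v 0) 2)))) (.mul (.co (.k [0, 0, 1, 2, 0]) 0)
    (.co (.v 0) 3))) (.mul (.co (.k [0, 0, 1, 2, 0]) 2) (.co (.v 0) 3))) (.neg (.mul (.co (.k [0, 0, 1, 2, 0]) 4)
    (.co (.v 0) 3)))) (.mul (.co (.k [0, 0, 1, 2, 0]) 2) (.co (.v 0) 4))) (.mul (.co (.k [0, 0, 1, 2, 0]) 3) (.co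
    (.v 0) 4))))))) (.ez (.add (.add (.add (.add (.neg (.mul (.co (.v 0) 2) (.add (.add (.add (.neg (.mul (.co (.k
    [0, 0, 1, 2, 0]) 2) (.co (.v 0) 0))) (.mul (.co (.k [0, 0, 1, 2, 0]) 3) (.co (.v 0) 0))) (.mul (.co (.k [0, 0,
    1, 2, 0]) 0) (.co (.v 0) 2))) (.neg (.mul (.co (.k [0, 0, 1, 2, 0]) 0) (.co (.v 0) 3)))))) (.neg (.mul (.co (.v
    0) 4) (.add (.add (.add (.neg (.mul (.co (.k [0, 0, 1, 2, 0]) 2) (.co (.v 0) 0))) (.mul (.co (.k [0, 0, 1, 2,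
    0]) 3) (.co (.v 0) 0))) (.mul (.co (.k [0, 0, 1, 2, 0]) 0) (.co (.v 0) 2))) (.neg (.mul (.co (.k [0, 0, 1, 2,
    0]) 0) (.co (.v 0) 3))))))) (.mul (.co (.v 0) 3) (.add (.add (.add (.add (.add (.add (.add (.neg (.mul (.co (.k
    [0, 0, 1, 2, 0]) 2) (.co (.v 0) 0))) (.neg (.mul (.co (.k [0, 0, 1, 2, 0]) 3) (.co (.v 0) 0)))) (.mul (.co (.k
    [0, 0, 1, 2, 0]) 4) (.co (.v 0) 0))) (.mul (.co (.k [0, 0, 1, 2, 0]) 0) (.co (.v 0) 2))) (.neg (.mul (.co (.k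
    [0, 0, 1, 2, 0]) 3) (.co (.v 0) 2)))) (.mul (.co (.k [0, 0, 1, 2, 0]) 0) (.co (.v 0) 3))) (.mul (.co (.k [0, 0,
    1, 2, 0]) 2) (.co (.v 0) 3))) (.neg (.mul (.co (.k [0, 0, 1, 2, 0]) 0) (.co (.v 0) 4)))))) (.mul (.co (.v 0) 4)
    (.add (.add (.add (.add (.add (.add (.add (.neg (.mul (.co (.k [0, 0, 1, 2, 0]) 2) (.co (.v 0) 0))) (.neg (.mul
    (.co (.k [0, 0, 1, 2, 0]) 3) (.co (.v 0) 0)))) (.mul (.co (.k [0, 0, 1, 2, 0]) 4) (.co (.v 0) 0))) (.mul (.co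
    (.k [0, 0, 1, 2, 0]) 0) (.co (.v 0) 2))) (.neg (.mul (.co (.k [0, 0, 1, 2, 0]) 3) (.co (.v 0) 2)))) (.mul (.co
    (.k [0, 0, 1, 2, 0]) 0) (.co (.v 0) 3))) (.mul (.co (.k [0, 0, 1, 2, 0]) 2) (.co (.v 0) 3))) (.neg (.mul (.co
    (.k [0, 0, 1, 2, 0]) 0) (.co (.v 0) 4)))))) (.mul (.co (.v 0) 3) (.add (.add (.add (.add (.add (.add (.add (.neg
    (.mul (.co (.k [0, 0, 1, 2, 0]) 3) (.co (.v 0) 0))) (.neg (.mul (.co (.k [0, 0, 1, 2, 0]) 3) (.co (.v 0) 2))))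
    (.neg (.mul (.co (.k [0, 0, 1, 2, 0]) 4) (.co (.v 0) 2)))) (.mul (.co (.k [0, 0, 1, 2, 0]) 0) (.co (.v 0) 3)))
    (.mul (.co (.k [0, 0, 1, 2, 0]) 2) (.co (.v 0) 3))) (.neg (.mul (.co (.k [0, 0, 1, 2, 0]) 4) (.co (.v 0) 3))))
    (.mul (.co (.k [0, 0, 1, 2, 0]) 2) (.co (.v 0) 4))) (.mul (.co (.k [0, 0, 1, 2, 0]) 3) (.co (.v 0) 4)))))))
    (.not (.or (.z (.k [0, 0, 1, 2, 0]) [0, 1, 2, 3, 4]) (.or (.z (.mul (.inv (.v 0)) (.k [0, 0, 1, 2, 0])) [0, 1,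
    2, 3, 4]) (.z (.mul (.v 0) (.k [0, 0, 1, 2, 0])) [0, 1, 2, 3, 4]))))) (.or (.and (.and (.ez (.add (.add (.add
    (.add (.mul (.co (.v 0) 0) (.add (.add (.add (.neg (.mul (.co (.k [0, 0, 1, 2, 1]) 2) (.co (.v 0) 0))) (.mul
    (.co (.k [0, 0, 1, 2, 1]) 3) (.co (.v 0) 0))) (.mul (.co (.k [0, 0, 1, 2, 1]) 0) (.co (.v 0) 2))) (.neg (.mul
    (.co (.k [0, 0, 1, 2, 1]) 0) (.co (.v 0) 3))))) (.neg (.mul (.co (.v 0) 3) (.add (.add (.add (.neg (.mul (.co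
    (.k [0, 0, 1, 2, 1]) 2) (.co (.v 0) 0))) (.mul (.co (.k [0, 0, 1, 2, 1]) 3) (.co (.v 0) 0))) (.mul (.co (.k [0,
    0, 1, 2, 1]) 0) (.co (.v 0) 2))) (.neg (.mul (.co (.k [0, 0, 1, 2, 1]) 0) (.co (.v 0) 3))))))) (.mul (.co (.v 0)
    4) (.add (.add (.add (.neg (.mul (.co (.k [0, 0, 1, 2, 1]) 2) (.co (.v 0) 0))) (.mul (.co (.k [0, 0, 1, 2, 1])
    3) (.co (.v 0) 0))) (.mul (.co (.k [0, 0, 1, 2, 1]) 0) (.co (.v 0) 2))) (.neg (.mul (.co (.k [0, 0, 1, 2, 1]) 0)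
    (.co (.v 0) 3)))))) (.neg (.mul (.co (.v 0) 3) (.add (.add (.add (.add (.add (.add (.add (.neg (.mul (.co (.k
    [0, 0, 1, 2, 1]) 2) (.co (.v 0) 0))) (.neg (.mul (.co (.k [0, 0, 1, 2, 1]) 3) (.co (.v 0) 0)))) (.mul (.co (.k
    [0, 0, 1, 2, 1]) 4) (.co (.v 0) 0))) (.mul (.co (.k [0, 0, 1, 2, 1]) 0) (.co (.v 0) 2))) (.neg (.mul (.co (.k
    [0, 0, 1, 2, 1]) 3) (.co (.v 0) 2)))) (.mul (.co (.k [0, 0, 1, 2, 1]) 0) (.co (.v 0) 3))) (.mul (.co (.k [0, 0,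
    1, 2, 1]) 2) (.co (.v 0) 3))) (.neg (.mul (.co (.k [0, 0, 1, 2, 1]) 0) (.co (.v 0) 4))))))) (.neg (.mul (.co (.v
    0) 0) (.add (.add (.add (.add (.add (.add (.add (.neg (.mul (.co (.k [0, 0, 1, 2, 1]) 3) (.co (.v 0) 0))) (.neg
    (.mul (.co (.k [0, 0, 1, 2, 1]) 3) (.co (.v 0) 2)))) (.neg (.mul (.co (.k [0, 0, 1, 2, 1]) 4) (.co (.v 0) 2))))
    (.mul (.co (.k [0, 0, 1, 2, 1]) 0) (.co (.v 0) 3))) (.mul (.co (.k [0, 0, 1, 2, 1]) 2) (.co (.v 0) 3))) (.neg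
    (.mul (.co (.k [0, 0, 1, 2, 1]) 4) (.co (.v 0) 3)))) (.mul (.co (.k [0, 0, 1, 2, 1]) 2) (.co (.v 0) 4))) (.mul
    (.co (.k [0, 0, 1, 2, 1]) 3) (.co (.v 0) 4))))))) (.ez (.add (.add (.add (.add (.neg (.mul (.co (.v 0) 2) (.add
    (.add (.add (.neg (.mul (.co (.k [0, 0, 1, 2, 1]) 2) (.co (.v 0) 0))) (.mul (.co (.k [0, 0, 1, 2, 1]) 3) (.co
    (.v 0) 0))) (.mul (.co (.k [0, 0, 1, 2, 1]) 0) (.co (.v 0) 2))) (.neg (.mul (.co (.k [0, 0, 1, 2, 1]) 0) (.co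
    (.v 0) 3)))))) (.neg (.mul (.co (.v 0) 4) (.add (.add (.add (.neg (.mul (.co (.k [0, 0, 1, 2, 1]) 2) (.co (.v 0)
    0))) (.mul (.co (.k [0, 0, 1, 2, 1]) 3) (.co (.v 0) 0))) (.mul (.co (.k [0, 0, 1, 2, 1]) 0) (.co (.v 0) 2)))
    (.neg (.mul (.co (.k [0, 0, 1, 2, 1]) 0) (.co (.v 0) 3))))))) (.mul (.co (.v 0) 3) (.add (.add (.add (.add (.add
    (.add (.add (.neg (.mul (.co (.k [0, 0, 1, 2, 1]) 2) (.co (.v 0) 0))) (.neg (.mul (.co (.k [0, 0, 1, 2, 1]) 3)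
    (.co (.v 0) 0)))) (.mul (.co (.k [0, 0, 1, 2, 1]) 4) (.co (.v 0) 0))) (.mul (.co (.k [0, 0, 1, 2, 1]) 0) (.co
    (.v 0) 2))) (.neg (.mul (.co (.k [0, 0, 1, 2, 1]) 3) (.co (.v 0) 2)))) (.mul (.co (.k [0, 0, 1, 2, 1]) 0) (.co
    (.v 0) 3))) (.mul (.co (.k [0, 0, 1, 2, 1]) 2) (.co (.v 0) 3))) (.neg (.mul (.co (.k [0, 0, 1, 2, 1]) 0) (.co
    (.v 0) 4)))))) (.mul (.co (.v 0) 4) (.add (.add (.add (.add (.add (.add (.add (.neg (.mul (.co (.k [0, 0, 1, 2,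
    1]) 2) (.co (.v 0) 0))) (.neg (.mul (.co (.k [0, 0, 1, 2, 1]) 3) (.co (.v 0) 0)))) (.mul (.co (.k [0, 0, 1, 2,
    1]) 4) (.co (.v 0) 0))) (.mul (.co (.k [0, 0, 1, 2, 1]) 0) (.co (.v 0) 2))) (.neg (.mul (.co (.k [0, 0, 1, 2,
    1]) 3) (.co (.v 0) 2)))) (.mul (.co (.k [0, 0, 1, 2, 1]) 0) (.co (.v 0) 3))) (.mul (.co (.k [0, 0, 1, 2, 1]) 2)
    (.co (.v 0) 3))) (.neg (.mul (.co (.k [0, 0, 1, 2, 1]) 0) (.co (.v 0) 4)))))) (.mul (.co (.v 0) 3) (.add (.add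
    (.add (.add (.add (.add (.add (.neg (.mul (.co (.k [0, 0, 1, 2, 1]) 3) (.co (.v 0) 0))) (.neg (.mul (.co (.k [0,
    0, 1, 2, 1]) 3) (.co (.v 0) 2)))) (.neg (.mul (.co (.k [0, 0, 1, 2, 1]) 4) (.co (.v 0) 2)))) (.mul (.co (.k [0,
    0, 1, 2, 1]) 0) (.co (.v 0) 3))) (.mul (.co (.k [0, 0, 1, 2, 1]) 2) (.co (.v 0) 3))) (.neg (.mul (.co (.k [0, 0,
    1, 2, 1]) 4) (.co (.v 0) 3)))) (.mul (.co (.k [0, 0, 1, 2, 1]) 2) (.co (.v 0) 4))) (.mul (.co (.k [0, 0, 1, 2,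
    1]) 3) (.co (.v 0) 4))))))) (.not (.or (.z (.k [0, 0, 1, 2, 1]) [0, 1, 2, 3, 4]) (.or (.z (.mul (.inv (.v 0))
    (.k [0, 0, 1, 2, 1])) [0, 1, 2, 3, 4]) (.z (.mul (.v 0) (.k [0, 0, 1, 2, 1])) [0, 1, 2, 3, 4]))))) (.and (.and
    (.ez (.add (.add (.add (.add (.mul (.co (.v 0) 0) (.add (.add (.add (.neg (.mul (.co (.k [0, 0, 1, 2, 2]) 2)
    (.co (.v 0) 0))) (.mul (.co (.k [0, 0, 1, 2, 2]) 3) (.co (.v 0) 0))) (.mul (.co (.k [0, 0, 1, 2, 2]) 0) (.co (.v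
    0) 2))) (.neg (.mul (.co (.k [0, 0, 1, 2, 2]) 0) (.co (.v 0) 3))))) (.neg (.mul (.co (.v 0) 3) (.add (.add (.add
    (.neg (.mul (.co (.k [0, 0, 1, 2, 2]) 2) (.co (.v 0) 0))) (.mul (.co (.k [0, 0, 1, 2, 2]) 3) (.co (.v 0) 0)))
    (.mul (.co (.k [0, 0, 1, 2, 2]) 0) (.co (.v 0) 2))) (.neg (.mul (.co (.k [0, 0, 1, 2, 2]) 0) (.co (.v 0)
    3))))))) (.mul (.co (.v 0) 4) (.add (.add (.add (.neg (.mul (.co (.k [0, 0, 1, 2, 2]) 2) (.co (.v 0) 0))) (.mul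
    (.co (.k [0, 0, 1, 2, 2]) 3) (.co (.v 0) 0))) (.mul (.co (.k [0, 0, 1, 2, 2]) 0) (.co (.v 0) 2))) (.neg (.mul
    (.co (.k [0, 0, 1, 2, 2]) 0) (.co (.v 0) 3)))))) (.neg (.mul (.co (.v 0) 3) (.add (.add (.add (.add (.add (.add
    (.add (.neg (.mul (.co (.k [0, 0, 1, 2, 2]) 2) (.co (.v 0) 0))) (.neg (.mul (.co (.k [0, 0, 1, 2, 2]) 3) (.co
    (.v 0) 0)))) (.mul (.co (.k [0, 0, 1, 2, 2]) 4) (.co (.v 0) 0))) (.mul (.co (.k [0, 0, 1, 2, 2]) 0) (.co (.v 0)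
    2))) (.neg (.mul (.co (.k [0, 0, 1, 2, 2]) 3) (.co (.v 0) 2)))) (.mul (.co (.k [0, 0, 1, 2, 2]) 0) (.co (.v 0)
    3))) (.mul (.co (.k [0, 0, 1, 2, 2]) 2) (.co (.v 0) 3))) (.neg (.mul (.co (.k [0, 0, 1, 2, 2]) 0) (.co (.v 0)
    4))))))) (.neg (.mul (.co (.v 0) 0) (.add (.add (.add (.add (.add (.add (.add (.neg (.mul (.co (.k [0, 0, 1, 2,
    2]) 3) (.co (.v 0) 0))) (.neg (.mul (.co (.k [0, 0, 1, 2, 2]) 3) (.co (.v 0) 2)))) (.neg (.mul (.co (.k [0, 0,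
    1, 2, 2]) 4) (.co (.v 0) 2)))) (.mul (.co (.k [0, 0, 1, 2, 2]) 0) (.co (.v 0) 3))) (.mul (.co (.k [0, 0, 1, 2,
    2]) 2) (.co (.v 0) 3))) (.neg (.mul (.co (.k [0, 0, 1, 2, 2]) 4) (.co (.v 0) 3)))) (.mul (.co (.k [0, 0, 1, 2,
    2]) 2) (.co (.v 0) 4))) (.mul (.co (.k [0, 0, 1, 2, 2]) 3) (.co (.v 0) 4))))))) (.ez (.add (.add (.add (.add
    (.neg (.mul (.co (.v 0) 2) (.add (.add (.add (.neg (.mul (.co (.k [0, 0, 1, 2, 2]) 2) (.co (.v 0) 0))) (.mul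
    (.co (.k [0, 0, 1, 2, 2]) 3) (.co (.v 0) 0))) (.mul (.co (.k [0, 0, 1, 2, 2]) 0) (.co (.v 0) 2))) (.neg (.mul
    (.co (.k [0, 0, 1, 2, 2]) 0) (.co (.v 0) 3)))))) (.neg (.mul (.co (.v 0) 4) (.add (.add (.add (.neg (.mul (.co
    (.k [0, 0, 1, 2, 2]) 2) (.co (.v 0) 0))) (.mul (.co (.k [0, 0, 1, 2, 2]) 3) (.co (.v 0) 0))) (.mul (.co (.k [0,
    0, 1, 2, 2]) 0) (.co (.v 0) 2))) (.neg (.mul (.co (.k [0, 0, 1, 2, 2]) 0) (.co (.v 0) 3))))))) (.mul (.co (.v 0)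
    3) (.add (.add (.add (.add (.add (.add (.add (.neg (.mul (.co (.k [0, 0, 1, 2, 2]) 2) (.co (.v 0) 0))) (.neg
    (.mul (.co (.k [0, 0, 1, 2, 2]) 3) (.co (.v 0) 0)))) (.mul (.co (.k [0, 0, 1, 2, 2]) 4) (.co (.v 0) 0))) (.mul
    (.co (.k [0, 0, 1, 2, 2]) 0) (.co (.v 0) 2))) (.neg (.mul (.co (.k [0, 0, 1, 2, 2]) 3) (.co (.v 0) 2)))) (.mul
    (.co (.k [0, 0, 1, 2, 2]) 0) (.co (.v 0) 3))) (.mul (.co (.k [0, 0, 1, 2, 2]) 2) (.co (.v 0) 3))) (.neg (.mul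
    (.co (.k [0, 0, 1, 2, 2]) 0) (.co (.v 0) 4)))))) (.mul (.co (.v 0) 4) (.add (.add (.add (.add (.add (.add (.add
    (.neg (.mul (.co (.k [0, 0, 1, 2, 2]) 2) (.co (.v 0) 0))) (.neg (.mul (.co (.k [0, 0, 1, 2, 2]) 3) (.co (.v 0)
    0)))) (.mul (.co (.k [0, 0, 1, 2, 2]) 4) (.co (.v 0) 0))) (.mul (.co (.k [0, 0, 1, 2, 2]) 0) (.co (.v 0) 2)))
    (.neg (.mul (.co (.k [0, 0, 1, 2, 2]) 3) (.co (.v 0) 2)))) (.mul (.co (.k [0, 0, 1, 2, 2]) 0) (.co (.v 0) 3)))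
    (.mul (.co (.k [0, 0, 1, 2, 2]) 2) (.co (.v 0) 3))) (.neg (.mul (.co (.k [0, 0, 1, 2, 2]) 0) (.co (.v 0) 4))))))
    (.mul (.co (.v 0) 3) (.add (.add (.add (.add (.add (.add (.add (.neg (.mul (.co (.k [0, 0, 1, 2, 2]) 3) (.co (.v
    0) 0))) (.neg (.mul (.co (.k [0, 0, 1, 2, 2]) 3) (.co (.v 0) 2)))) (.neg (.mul (.co (.k [0, 0, 1, 2, 2]) 4) (.co
    (.v 0) 2)))) (.mul (.co (.k [0, 0, 1, 2, 2]) 0) (.co (.v 0) 3))) (.mul (.co (.k [0, 0, 1, 2, 2]) 2) (.co (.v 0)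
    3))) (.neg (.mul (.co (.k [0, 0, 1, 2, 2]) 4) (.co (.v 0) 3)))) (.mul (.co (.k [0, 0, 1, 2, 2]) 2) (.co (.v 0)
    4))) (.mul (.co (.k [0, 0, 1, 2, 2]) 3) (.co (.v 0) 4))))))) (.not (.or (.z (.k [0, 0, 1, 2, 2]) [0, 1, 2, 3,
    4]) (.or (.z (.mul (.inv (.v 0)) (.k [0, 0, 1, 2, 2])) [0, 1, 2, 3, 4]) (.z (.mul (.v 0) (.k [0, 0, 1, 2, 2]))
    [0, 1, 2, 3, 4]))))))))) (by decide +kernel) y hy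

theorem r3b {y s e : V} (hy : y ∈ E1) (hs : s ∈ E1) (he : e ∈ E1) : (P8c y ((B5 s y)) ((B6 s y)) ((B7 s y))) = 0 ∧
    (P9c y ((B5 s y)) ((B6 s y)) ((B7 s y))) = 0 → L3 y e D1 → (P8c y ((B5 s e)) ((B6 s e)) ((B7 s e))) = 0 ∧ (P9c y
    ((B5 s e)) ((B6 s e)) ((B7 s e))) = 0 :=
  c3 [1] 5 [1] 5 [1] 5 (.imp (.and (.ez (.add (.add (.add (.add (.mul (.co (.v 0) 0) (.add (.add (.add (.neg (.mul
    (.co (.v 1) 2) (.co (.v 0) 0))) (.mul (.co (.v 1) 3) (.co (.v 0) 0))) (.mul (.co (.v 1) 0) (.co (.v 0) 2)))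
    (.neg (.mul (.co (.v 1) 0) (.co (.v 0) 3))))) (.neg (.mul (.co (.v 0) 3) (.add (.add (.add (.neg (.mul (.co (.v
    1) 2) (.co (.v 0) 0))) (.mul (.co (.v 1) 3) (.co (.v 0) 0))) (.mul (.co (.v 1) 0) (.co (.v 0) 2))) (.neg (.mul
    (.co (.v 1) 0) (.co (.v 0) 3))))))) (.mul (.co (.v 0) 4) (.add (.add (.add (.neg (.mul (.co (.v 1) 2) (.co (.v
    0) 0))) (.mul (.co (.v 1) 3) (.co (.v 0) 0))) (.mul (.co (.v 1) 0) (.co (.v 0) 2))) (.neg (.mul (.co (.v 1) 0)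
    (.co (.v 0) 3)))))) (.neg (.mul (.co (.v 0) 3) (.add (.add (.add (.add (.add (.add (.add (.neg (.mul (.co (.v 1)
    2) (.co (.v 0) 0))) (.neg (.mul (.co (.v 1) 3) (.co (.v 0) 0)))) (.mul (.co (.v 1) 4) (.co (.v 0) 0))) (.mul
    (.co (.v 1) 0) (.co (.v 0) 2))) (.neg (.mul (.co (.v 1) 3) (.co (.v 0) 2)))) (.mul (.co (.v 1) 0) (.co (.v 0)
    3))) (.mul (.co (.v 1) 2) (.co (.v 0) 3))) (.neg (.mul (.co (.v 1) 0) (.co (.v 0) 4))))))) (.neg (.mul (.co (.v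
    0) 0) (.add (.add (.add (.add (.add (.add (.add (.neg (.mul (.co (.v 1) 3) (.co (.v 0) 0))) (.neg (.mul (.co (.v
    1) 3) (.co (.v 0) 2)))) (.neg (.mul (.co (.v 1) 4) (.co (.v 0) 2)))) (.mul (.co (.v 1) 0) (.co (.v 0) 3))) (.mul
    (.co (.v 1) 2) (.co (.v 0) 3))) (.neg (.mul (.co (.v 1) 4) (.co (.v 0) 3)))) (.mul (.co (.v 1) 2) (.co (.v 0)
    4))) (.mul (.co (.v 1) 3) (.co (.v 0) 4))))))) (.ez (.add (.add (.add (.add (.neg (.mul (.co (.v 0) 2) (.add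
    (.add (.add (.neg (.mul (.co (.v 1) 2) (.co (.v 0) 0))) (.mul (.co (.v 1) 3) (.co (.v 0) 0))) (.mul (.co (.v 1)
    0) (.co (.v 0) 2))) (.neg (.mul (.co (.v 1) 0) (.co (.v 0) 3)))))) (.neg (.mul (.co (.v 0) 4) (.add (.add (.add
    (.neg (.mul (.co (.v 1) 2) (.co (.v 0) 0))) (.mul (.co (.v 1) 3) (.co (.v 0) 0))) (.mul (.co (.v 1) 0) (.co (.v
    0) 2))) (.neg (.mul (.co (.v 1) 0) (.co (.v 0) 3))))))) (.mul (.co (.v 0) 3) (.add (.add (.add (.add (.add (.add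
    (.add (.neg (.mul (.co (.v 1) 2) (.co (.v 0) 0))) (.neg (.mul (.co (.v 1) 3) (.co (.v 0) 0)))) (.mul (.co (.v 1)
    4) (.co (.v 0) 0))) (.mul (.co (.v 1) 0) (.co (.v 0) 2))) (.neg (.mul (.co (.v 1) 3) (.co (.v 0) 2)))) (.mul
    (.co (.v 1) 0) (.co (.v 0) 3))) (.mul (.co (.v 1) 2) (.co (.v 0) 3))) (.neg (.mul (.co (.v 1) 0) (.co (.v 0)
    4)))))) (.mul (.co (.v 0) 4) (.add (.add (.add (.add (.add (.add (.add (.neg (.mul (.co (.v 1) 2) (.co (.v 0)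
    0))) (.neg (.mul (.co (.v 1) 3) (.co (.v 0) 0)))) (.mul (.co (.v 1) 4) (.co (.v 0) 0))) (.mul (.co (.v 1) 0)
    (.co (.v 0) 2))) (.neg (.mul (.co (.v 1) 3) (.co (.v 0) 2)))) (.mul (.co (.v 1) 0) (.co (.v 0) 3))) (.mul (.co
    (.v 1) 2) (.co (.v 0) 3))) (.neg (.mul (.co (.v 1) 0) (.co (.v 0) 4)))))) (.mul (.co (.v 0) 3) (.add (.add (.add
    (.add (.add (.add (.add (.neg (.mul (.co (.v 1) 3) (.co (.v 0) 0))) (.neg (.mul (.co (.v 1) 3) (.co (.v 0) 2))))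
    (.neg (.mul (.co (.v 1) 4) (.co (.v 0) 2)))) (.mul (.co (.v 1) 0) (.co (.v 0) 3))) (.mul (.co (.v 1) 2) (.co (.v
    0) 3))) (.neg (.mul (.co (.v 1) 4) (.co (.v 0) 3)))) (.mul (.co (.v 1) 2) (.co (.v 0) 4))) (.mul (.co (.v 1) 3)
    (.co (.v 0) 4))))))) (.imp (.or (.z (.v 2) [0, 1, 2, 3, 4]) (.or (.z (.mul (.inv (.v 0)) (.v 2)) [0, 1, 2, 3,
    4]) (.z (.mul (.v 0) (.v 2)) [0, 1, 2, 3, 4]))) (.and (.ez (.add (.add (.add (.add (.mul (.co (.v 0) 0) (.add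
    (.add (.add (.neg (.mul (.co (.v 1) 2) (.co (.v 2) 0))) (.mul (.co (.v 1) 3) (.co (.v 2) 0))) (.mul (.co (.v 1)
    0) (.co (.v 2) 2))) (.neg (.mul (.co (.v 1) 0) (.co (.v 2) 3))))) (.neg (.mul (.co (.v 0) 3) (.add (.add (.add
    (.neg (.mul (.co (.v 1) 2) (.co (.v 2) 0))) (.mul (.co (.v 1) 3) (.co (.v 2) 0))) (.mul (.co (.v 1) 0) (.co (.v
    2) 2))) (.neg (.mul (.co (.v 1) 0) (.co (.v 2) 3))))))) (.mul (.co (.v 0) 4) (.add (.add (.add (.neg (.mul (.co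
    (.v 1) 2) (.co (.v 2) 0))) (.mul (.co (.v 1) 3) (.co (.v 2) 0))) (.mul (.co (.v 1) 0) (.co (.v 2) 2))) (.neg
    (.mul (.co (.v 1) 0) (.co (.v 2) 3)))))) (.neg (.mul (.co (.v 0) 3) (.add (.add (.add (.add (.add (.add (.add
    (.neg (.mul (.co (.v 1) 2) (.co (.v 2) 0))) (.neg (.mul (.co (.v 1) 3) (.co (.v 2) 0)))) (.mul (.co (.v 1) 4)
    (.co (.v 2) 0))) (.mul (.co (.v 1) 0) (.co (.v 2) 2))) (.neg (.mul (.co (.v 1) 3) (.co (.v 2) 2)))) (.mul (.co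
    (.v 1) 0) (.co (.v 2) 3))) (.mul (.co (.v 1) 2) (.co (.v 2) 3))) (.neg (.mul (.co (.v 1) 0) (.co (.v 2) 4)))))))
    (.neg (.mul (.co (.v 0) 0) (.add (.add (.add (.add (.add (.add (.add (.neg (.mul (.co (.v 1) 3) (.co (.v 2) 0)))
    (.neg (.mul (.co (.v 1) 3) (.co (.v 2) 2)))) (.neg (.mul (.co (.v 1) 4) (.co (.v 2) 2)))) (.mul (.co (.v 1) 0)
    (.co (.v 2) 3))) (.mul (.co (.v 1) 2) (.co (.v 2) 3))) (.neg (.mul (.co (.v 1) 4) (.co (.v 2) 3)))) (.mul (.co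
    (.v 1) 2) (.co (.v 2) 4))) (.mul (.co (.v 1) 3) (.co (.v 2) 4))))))) (.ez (.add (.add (.add (.add (.neg (.mul
    (.co (.v 0) 2) (.add (.add (.add (.neg (.mul (.co (.v 1) 2) (.co (.v 2) 0))) (.mul (.co (.v 1) 3) (.co (.v 2)
    0))) (.mul (.co (.v 1) 0) (.co (.v 2) 2))) (.neg (.mul (.co (.v 1) 0) (.co (.v 2) 3)))))) (.neg (.mul (.co (.v
    0) 4) (.add (.add (.add (.neg (.mul (.co (.v 1) 2) (.co (.v 2) 0))) (.mul (.co (.v 1) 3) (.co (.v 2) 0))) (.mul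
    (.co (.v 1) 0) (.co (.v 2) 2))) (.neg (.mul (.co (.v 1) 0) (.co (.v 2) 3))))))) (.mul (.co (.v 0) 3) (.add (.add
    (.add (.add (.add (.add (.add (.neg (.mul (.co (.v 1) 2) (.co (.v 2) 0))) (.neg (.mul (.co (.v 1) 3) (.co (.v 2)
    0)))) (.mul (.co (.v 1) 4) (.co (.v 2) 0))) (.mul (.co (.v 1) 0) (.co (.v 2) 2))) (.neg (.mul (.co (.v 1) 3)
    (.co (.v 2) 2)))) (.mul (.co (.v 1) 0) (.co (.v 2) 3))) (.mul (.co (.v 1) 2) (.co (.v 2) 3))) (.neg (.mul (.co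
    (.v 1) 0) (.co (.v 2) 4)))))) (.mul (.co (.v 0) 4) (.add (.add (.add (.add (.add (.add (.add (.neg (.mul (.co
    (.v 1) 2) (.co (.v 2) 0))) (.neg (.mul (.co (.v 1) 3) (.co (.v 2) 0)))) (.mul (.co (.v 1) 4) (.co (.v 2) 0)))
    (.mul (.co (.v 1) 0) (.co (.v 2) 2))) (.neg (.mul (.co (.v 1) 3) (.co (.v 2) 2)))) (.mul (.co (.v 1) 0) (.co (.v
    2) 3))) (.mul (.co (.v 1) 2) (.co (.v 2) 3))) (.neg (.mul (.co (.v 1) 0) (.co (.v 2) 4)))))) (.mul (.co (.v 0)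
    3) (.add (.add (.add (.add (.add (.add (.add (.neg (.mul (.co (.v 1) 3) (.co (.v 2) 0))) (.neg (.mul (.co (.v 1)
    3) (.co (.v 2) 2)))) (.neg (.mul (.co (.v 1) 4) (.co (.v 2) 2)))) (.mul (.co (.v 1) 0) (.co (.v 2) 3))) (.mul
    (.co (.v 1) 2) (.co (.v 2) 3))) (.neg (.mul (.co (.v 1) 4) (.co (.v 2) 3)))) (.mul (.co (.v 1) 2) (.co (.v 2)
    4))) (.mul (.co (.v 1) 3) (.co (.v 2) 4))))))))) (by decide +kernel) y s e hy hs he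

theorem rk {y x : V} (hy : y ∈ E1) (hx : x ∈ D1) (k1 : y ∉ D1)
    (k2 : ∀ d ∈ D1, y * d = d * y ∨ y * (x⁻¹ * d) = x⁻¹ * d * y ∨ y * (x * d) = x * d * y) :
    (∀ w ∈ E1, ⁅w, y⁆ ∈ Z2 → L3 y w D1) ∧
      ∃ s ∈ E1, ¬ L3 y s D1 ∧ ∀ e ∈ E1, L3 y e D1 → y * ⁅s, e⁆ = ⁅s, e⁆ * y := by
  have R := r1 hy hx k1 (k2 _ (hm (by decide))) (k2 _ (hm (by decide))) (k2 _ (hm (by decide)))
  refine ⟨fun w hw => r2 hy hw R, ?_⟩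
  have k : ∀ s ∈ E1, (P8c y (B5 s y) (B6 s y) (B7 s y) = 0 ∧ P9c y (B5 s y) (B6 s y) (B7 s y) = 0) ∧ ¬ L3 y s D1 →
      ∃ s ∈ E1, ¬ L3 y s D1 ∧ ∀ e ∈ E1, L3 y e D1 → y * ⁅s, e⁆ = ⁅s, e⁆ * y := fun s hs k =>
    ⟨s, hs, k.2, fun e he l => (cd_iff hy (cE1E1 hs he)).1 (by
      obtain ⟨h5, h6, h7⟩ := blf hs he
      rw [Cd, h5, h6, h7]
      exact r3b hy hs he k.1 l)⟩
  rcases r3a hy R with r | r | r | r <;> exact k _ (km (by decide)) r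

theorem t1' {y y' : V} (hy : y ∈ E1) (hy' : y' ∈ E1) : y ∉ D1 → ¬ L3 y y' D1 → ⁅y', y⁆ ∈ Z2 → ¬ y * h 5 = h 5 * y ∧
    ¬ y * h 6 = h 6 * y ∧ ¬ y * ((h 5)⁻¹ * h 6) = (h 5)⁻¹ * h 6 * y ∧ ¬ y * (h 5 * h 6) = h 5 * h 6 * y ∨ ¬ y * h 5
    = h 5 * y ∧ ¬ y * h 7 = h 7 * y ∧ ¬ y * ((h 5)⁻¹ * h 7) = (h 5)⁻¹ * h 7 * y ∧ ¬ y * (h 5 * h 7) = h 5 * h 7 * y
    ∨ ¬ y * h 6 = h 6 * y ∧ ¬ y * h 7 = h 7 * y ∧ ¬ y * ((h 6)⁻¹ * h 7) = (h 6)⁻¹ * h 7 * y ∧ ¬ y * (h 6 * h 7) = h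
    6 * h 7 * y := by
  have H : y ∉ D1 → ¬ L3 y y' D1 → Bl y' y → ¬ Cd y (h 5) ∧ ¬ Cd y (h 6) ∧ ¬ Cd y ((h 5)⁻¹ * h 6) ∧ ¬ Cd y (h 5 * h
    6) ∨ ¬ Cd y (h 5) ∧ ¬ Cd y (h 7) ∧ ¬ Cd y ((h 5)⁻¹ * h 7) ∧ ¬ Cd y (h 5 * h 7) ∨ ¬ Cd y (h 6) ∧ ¬ Cd y (h 7) ∧ ¬
    Cd y ((h 6)⁻¹ * h 7) ∧ ¬ Cd y (h 6 * h 7) := c2 [1] 5 [1] 5 (.imp (.not (.z (.v 0) [0, 1, 2, 3, 4])) (.imp (.not
    (.or (.z (.v 1) [0, 1, 2, 3, 4]) (.or (.z (.mul (.inv (.v 0)) (.v 1)) [0, 1, 2, 3, 4]) (.z (.mul (.v 0) (.v 1))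
    [0, 1, 2, 3, 4])))) (.imp (.and (.ez (.add (.add (.add (.neg (.mul (.co (.v 1) 2) (.co (.v 0) 0))) (.mul (.co
    (.v 1) 3) (.co (.v 0) 0))) (.mul (.co (.v 1) 0) (.co (.v 0) 2))) (.neg (.mul (.co (.v 1) 0) (.co (.v 0) 3)))))
    (.and (.ez (.add (.add (.add (.add (.add (.add (.add (.neg (.mul (.co (.v 1) 2) (.co (.v 0) 0))) (.neg (.mul
    (.co (.v 1) 3) (.co (.v 0) 0)))) (.mul (.co (.v 1) 4) (.co (.v 0) 0))) (.mul (.co (.v 1) 0) (.co (.v 0) 2)))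
    (.neg (.mul (.co (.v 1) 3) (.co (.v 0) 2)))) (.mul (.co (.v 1) 0) (.co (.v 0) 3))) (.mul (.co (.v 1) 2) (.co (.v
    0) 3))) (.neg (.mul (.co (.v 1) 0) (.co (.v 0) 4))))) (.ez (.add (.add (.add (.add (.add (.add (.add (.neg (.mul
    (.co (.v 1) 3) (.co (.v 0) 0))) (.neg (.mul (.co (.v 1) 3) (.co (.v 0) 2)))) (.neg (.mul (.co (.v 1) 4) (.co (.v
    0) 2)))) (.mul (.co (.v 1) 0) (.co (.v 0) 3))) (.mul (.co (.v 1) 2) (.co (.v 0) 3))) (.neg (.mul (.co (.v 1) 4)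
    (.co (.v 0) 3)))) (.mul (.co (.v 1) 2) (.co (.v 0) 4))) (.mul (.co (.v 1) 3) (.co (.v 0) 4)))))) (.or (.and
    (.not (.and (.ez (.add (.add (.add (.add (.mul (.co (.v 0) 0) (.co (.k [0, 0, 0, 0, 0, 1]) 5)) (.neg (.mul (.co
    (.v 0) 3) (.co (.k [0, 0, 0, 0, 0, 1]) 5)))) (.mul (.co (.v 0) 4) (.co (.k [0, 0, 0, 0, 0, 1]) 5))) (.neg (.mul
    (.co (.v 0) 3) (.co (.k [0, 0, 0, 0, 0, 1]) 6)))) (.neg (.mul (.co (.v 0) 0) (.co (.k [0, 0, 0, 0, 0, 1]) 7)))))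
    (.ez (.add (.add (.add (.add (.neg (.mul (.co (.v 0) 2) (.co (.k [0, 0, 0, 0, 0, 1]) 5))) (.neg (.mul (.co (.v
    0) 4) (.co (.k [0, 0, 0, 0, 0, 1]) 5)))) (.mul (.co (.v 0) 3) (.co (.k [0, 0, 0, 0, 0, 1]) 6))) (.mul (.co (.v
    0) 4) (.co (.k [0, 0, 0, 0, 0, 1]) 6))) (.mul (.co (.v 0) 3) (.co (.k [0, 0, 0, 0, 0, 1]) 7)))))) (.and (.not
    (.and (.ez (.add (.add (.add (.add (.mul (.co (.v 0) 0) (.co (.k [0, 0, 0, 0, 0, 0, 1]) 5)) (.neg (.mul (.co (.v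
    0) 3) (.co (.k [0, 0, 0, 0, 0, 0, 1]) 5)))) (.mul (.co (.v 0) 4) (.co (.k [0, 0, 0, 0, 0, 0, 1]) 5))) (.neg
    (.mul (.co (.v 0) 3) (.co (.k [0, 0, 0, 0, 0, 0, 1]) 6)))) (.neg (.mul (.co (.v 0) 0) (.co (.k [0, 0, 0, 0, 0,
    0, 1]) 7))))) (.ez (.add (.add (.add (.add (.neg (.mul (.co (.v 0) 2) (.co (.k [0, 0, 0, 0, 0, 0, 1]) 5))) (.neg
    (.mul (.co (.v 0) 4) (.co (.k [0, 0, 0, 0, 0, 0, 1]) 5)))) (.mul (.co (.v 0) 3) (.co (.k [0, 0, 0, 0, 0, 0, 1])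
    6))) (.mul (.co (.v 0) 4) (.co (.k [0, 0, 0, 0, 0, 0, 1]) 6))) (.mul (.co (.v 0) 3) (.co (.k [0, 0, 0, 0, 0, 0,
    1]) 7)))))) (.and (.not (.and (.ez (.add (.add (.add (.add (.mul (.co (.v 0) 0) (.co (.mul (.inv (.k [0, 0, 0,
    0, 0, 1])) (.k [0, 0, 0, 0, 0, 0, 1])) 5)) (.neg (.mul (.co (.v 0) 3) (.co (.mul (.inv (.k [0, 0, 0, 0, 0, 1]))
    (.k [0, 0, 0, 0, 0, 0, 1])) 5)))) (.mul (.co (.v 0) 4) (.co (.mul (.inv (.k [0, 0, 0, 0, 0, 1])) (.k [0, 0, 0,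
    0, 0, 0, 1])) 5))) (.neg (.mul (.co (.v 0) 3) (.co (.mul (.inv (.k [0, 0, 0, 0, 0, 1])) (.k [0, 0, 0, 0, 0, 0,
    1])) 6)))) (.neg (.mul (.co (.v 0) 0) (.co (.mul (.inv (.k [0, 0, 0, 0, 0, 1])) (.k [0, 0, 0, 0, 0, 0, 1]))
    7))))) (.ez (.add (.add (.add (.add (.neg (.mul (.co (.v 0) 2) (.co (.mul (.inv (.k [0, 0, 0, 0, 0, 1])) (.k [0,
    0, 0, 0, 0, 0, 1])) 5))) (.neg (.mul (.co (.v 0) 4) (.co (.mul (.inv (.k [0, 0, 0, 0, 0, 1])) (.k [0, 0, 0, 0,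
    0, 0, 1])) 5)))) (.mul (.co (.v 0) 3) (.co (.mul (.inv (.k [0, 0, 0, 0, 0, 1])) (.k [0, 0, 0, 0, 0, 0, 1])) 6)))
    (.mul (.co (.v 0) 4) (.co (.mul (.inv (.k [0, 0, 0, 0, 0, 1])) (.k [0, 0, 0, 0, 0, 0, 1])) 6))) (.mul (.co (.v
    0) 3) (.co (.mul (.inv (.k [0, 0, 0, 0, 0, 1])) (.k [0, 0, 0, 0, 0, 0, 1])) 7)))))) (.not (.and (.ez (.add (.add
    (.add (.add (.mul (.co (.v 0) 0) (.co (.mul (.k [0, 0, 0, 0, 0, 1]) (.k [0, 0, 0, 0, 0, 0, 1])) 5)) (.neg (.mul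
    (.co (.v 0) 3) (.co (.mul (.k [0, 0, 0, 0, 0, 1]) (.k [0, 0, 0, 0, 0, 0, 1])) 5)))) (.mul (.co (.v 0) 4) (.co
    (.mul (.k [0, 0, 0, 0, 0, 1]) (.k [0, 0, 0, 0, 0, 0, 1])) 5))) (.neg (.mul (.co (.v 0) 3) (.co (.mul (.k [0, 0,
    0, 0, 0, 1]) (.k [0, 0, 0, 0, 0, 0, 1])) 6)))) (.neg (.mul (.co (.v 0) 0) (.co (.mul (.k [0, 0, 0, 0, 0, 1]) (.k
    [0, 0, 0, 0, 0, 0, 1])) 7))))) (.ez (.add (.add (.add (.add (.neg (.mul (.co (.v 0) 2) (.co (.mul (.k [0, 0, 0,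
    0, 0, 1]) (.k [0, 0, 0, 0, 0, 0, 1])) 5))) (.neg (.mul (.co (.v 0) 4) (.co (.mul (.k [0, 0, 0, 0, 0, 1]) (.k [0,
    0, 0, 0, 0, 0, 1])) 5)))) (.mul (.co (.v 0) 3) (.co (.mul (.k [0, 0, 0, 0, 0, 1]) (.k [0, 0, 0, 0, 0, 0, 1]))
    6))) (.mul (.co (.v 0) 4) (.co (.mul (.k [0, 0, 0, 0, 0, 1]) (.k [0, 0, 0, 0, 0, 0, 1])) 6))) (.mul (.co (.v 0)
    3) (.co (.mul (.k [0, 0, 0, 0, 0, 1]) (.k [0, 0, 0, 0, 0, 0, 1])) 7))))))))) (.or (.and (.not (.and (.ez (.add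
    (.add (.add (.add (.mul (.co (.v 0) 0) (.co (.k [0, 0, 0, 0, 0, 1]) 5)) (.neg (.mul (.co (.v 0) 3) (.co (.k [0,
    0, 0, 0, 0, 1]) 5)))) (.mul (.co (.v 0) 4) (.co (.k [0, 0, 0, 0, 0, 1]) 5))) (.neg (.mul (.co (.v 0) 3) (.co (.k
    [0, 0, 0, 0, 0, 1]) 6)))) (.neg (.mul (.co (.v 0) 0) (.co (.k [0, 0, 0, 0, 0, 1]) 7))))) (.ez (.add (.add (.add
    (.add (.neg (.mul (.co (.v 0) 2) (.co (.k [0, 0, 0, 0, 0, 1]) 5))) (.neg (.mul (.co (.v 0) 4) (.co (.k [0, 0, 0,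
    0, 0, 1]) 5)))) (.mul (.co (.v 0) 3) (.co (.k [0, 0, 0, 0, 0, 1]) 6))) (.mul (.co (.v 0) 4) (.co (.k [0, 0, 0,
    0, 0, 1]) 6))) (.mul (.co (.v 0) 3) (.co (.k [0, 0, 0, 0, 0, 1]) 7)))))) (.and (.not (.and (.ez (.add (.add
    (.add (.add (.mul (.co (.v 0) 0) (.co (.k [0, 0, 0, 0, 0, 0, 0, 1]) 5)) (.neg (.mul (.co (.v 0) 3) (.co (.k [0,
    0, 0, 0, 0, 0, 0, 1]) 5)))) (.mul (.co (.v 0) 4) (.co (.k [0, 0, 0, 0, 0, 0, 0, 1]) 5))) (.neg (.mul (.co (.v 0)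
    3) (.co (.k [0, 0, 0, 0, 0, 0, 0, 1]) 6)))) (.neg (.mul (.co (.v 0) 0) (.co (.k [0, 0, 0, 0, 0, 0, 0, 1]) 7)))))
    (.ez (.add (.add (.add (.add (.neg (.mul (.co (.v 0) 2) (.co (.k [0, 0, 0, 0, 0, 0, 0, 1]) 5))) (.neg (.mul (.co
    (.v 0) 4) (.co (.k [0, 0, 0, 0, 0, 0, 0, 1]) 5)))) (.mul (.co (.v 0) 3) (.co (.k [0, 0, 0, 0, 0, 0, 0, 1]) 6)))
    (.mul (.co (.v 0) 4) (.co (.k [0, 0, 0, 0, 0, 0, 0, 1]) 6))) (.mul (.co (.v 0) 3) (.co (.k [0, 0, 0, 0, 0, 0, 0,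
    1]) 7)))))) (.and (.not (.and (.ez (.add (.add (.add (.add (.mul (.co (.v 0) 0) (.co (.mul (.inv (.k [0, 0, 0,
    0, 0, 1])) (.k [0, 0, 0, 0, 0, 0, 0, 1])) 5)) (.neg (.mul (.co (.v 0) 3) (.co (.mul (.inv (.k [0, 0, 0, 0, 0,
    1])) (.k [0, 0, 0, 0, 0, 0, 0, 1])) 5)))) (.mul (.co (.v 0) 4) (.co (.mul (.inv (.k [0, 0, 0, 0, 0, 1])) (.k [0,
    0, 0, 0, 0, 0, 0, 1])) 5))) (.neg (.mul (.co (.v 0) 3) (.co (.mul (.inv (.k [0, 0, 0, 0, 0, 1])) (.k [0, 0, 0,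
    0, 0, 0, 0, 1])) 6)))) (.neg (.mul (.co (.v 0) 0) (.co (.mul (.inv (.k [0, 0, 0, 0, 0, 1])) (.k [0, 0, 0, 0, 0,
    0, 0, 1])) 7))))) (.ez (.add (.add (.add (.add (.neg (.mul (.co (.v 0) 2) (.co (.mul (.inv (.k [0, 0, 0, 0, 0,
    1])) (.k [0, 0, 0, 0, 0, 0, 0, 1])) 5))) (.neg (.mul (.co (.v 0) 4) (.co (.mul (.inv (.k [0, 0, 0, 0, 0, 1]))
    (.k [0, 0, 0, 0, 0, 0, 0, 1])) 5)))) (.mul (.co (.v 0) 3) (.co (.mul (.inv (.k [0, 0, 0, 0, 0, 1])) (.k [0, 0,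
    0, 0, 0, 0, 0, 1])) 6))) (.mul (.co (.v 0) 4) (.co (.mul (.inv (.k [0, 0, 0, 0, 0, 1])) (.k [0, 0, 0, 0, 0, 0,
    0, 1])) 6))) (.mul (.co (.v 0) 3) (.co (.mul (.inv (.k [0, 0, 0, 0, 0, 1])) (.k [0, 0, 0, 0, 0, 0, 0, 1]))
    7)))))) (.not (.and (.ez (.add (.add (.add (.add (.mul (.co (.v 0) 0) (.co (.mul (.k [0, 0, 0, 0, 0, 1]) (.k [0,
    0, 0, 0, 0, 0, 0, 1])) 5)) (.neg (.mul (.co (.v 0) 3) (.co (.mul (.k [0, 0, 0, 0, 0, 1]) (.k [0, 0, 0, 0, 0, 0,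
    0, 1])) 5)))) (.mul (.co (.v 0) 4) (.co (.mul (.k [0, 0, 0, 0, 0, 1]) (.k [0, 0, 0, 0, 0, 0, 0, 1])) 5))) (.neg
    (.mul (.co (.v 0) 3) (.co (.mul (.k [0, 0, 0, 0, 0, 1]) (.k [0, 0, 0, 0, 0, 0, 0, 1])) 6)))) (.neg (.mul (.co
    (.v 0) 0) (.co (.mul (.k [0, 0, 0, 0, 0, 1]) (.k [0, 0, 0, 0, 0, 0, 0, 1])) 7))))) (.ez (.add (.add (.add (.add
    (.neg (.mul (.co (.v 0) 2) (.co (.mul (.k [0, 0, 0, 0, 0, 1]) (.k [0, 0, 0, 0, 0, 0, 0, 1])) 5))) (.neg (.mul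
    (.co (.v 0) 4) (.co (.mul (.k [0, 0, 0, 0, 0, 1]) (.k [0, 0, 0, 0, 0, 0, 0, 1])) 5)))) (.mul (.co (.v 0) 3) (.co
    (.mul (.k [0, 0, 0, 0, 0, 1]) (.k [0, 0, 0, 0, 0, 0, 0, 1])) 6))) (.mul (.co (.v 0) 4) (.co (.mul (.k [0, 0, 0,
    0, 0, 1]) (.k [0, 0, 0, 0, 0, 0, 0, 1])) 6))) (.mul (.co (.v 0) 3) (.co (.mul (.k [0, 0, 0, 0, 0, 1]) (.k [0, 0,
    0, 0, 0, 0, 0, 1])) 7))))))))) (.and (.not (.and (.ez (.add (.add (.add (.add (.mul (.co (.v 0) 0) (.co (.k [0,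
    0, 0, 0, 0, 0, 1]) 5)) (.neg (.mul (.co (.v 0) 3) (.co (.k [0, 0, 0, 0, 0, 0, 1]) 5)))) (.mul (.co (.v 0) 4)
    (.co (.k [0, 0, 0, 0, 0, 0, 1]) 5))) (.neg (.mul (.co (.v 0) 3) (.co (.k [0, 0, 0, 0, 0, 0, 1]) 6)))) (.neg
    (.mul (.co (.v 0) 0) (.co (.k [0, 0, 0, 0, 0, 0, 1]) 7))))) (.ez (.add (.add (.add (.add (.neg (.mul (.co (.v 0)
    2) (.co (.k [0, 0, 0, 0, 0, 0, 1]) 5))) (.neg (.mul (.co (.v 0) 4) (.co (.k [0, 0, 0, 0, 0, 0, 1]) 5)))) (.mul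
    (.co (.v 0) 3) (.co (.k [0, 0, 0, 0, 0, 0, 1]) 6))) (.mul (.co (.v 0) 4) (.co (.k [0, 0, 0, 0, 0, 0, 1]) 6)))
    (.mul (.co (.v 0) 3) (.co (.k [0, 0, 0, 0, 0, 0, 1]) 7)))))) (.and (.not (.and (.ez (.add (.add (.add (.add
    (.mul (.co (.v 0) 0) (.co (.k [0, 0, 0, 0, 0, 0, 0, 1]) 5)) (.neg (.mul (.co (.v 0) 3) (.co (.k [0, 0, 0, 0, 0,
    0, 0, 1]) 5)))) (.mul (.co (.v 0) 4) (.co (.k [0, 0, 0, 0, 0, 0, 0, 1]) 5))) (.neg (.mul (.co (.v 0) 3) (.co (.k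
    [0, 0, 0, 0, 0, 0, 0, 1]) 6)))) (.neg (.mul (.co (.v 0) 0) (.co (.k [0, 0, 0, 0, 0, 0, 0, 1]) 7))))) (.ez (.add
    (.add (.add (.add (.neg (.mul (.co (.v 0) 2) (.co (.k [0, 0, 0, 0, 0, 0, 0, 1]) 5))) (.neg (.mul (.co (.v 0) 4)
    (.co (.k [0, 0, 0, 0, 0, 0, 0, 1]) 5)))) (.mul (.co (.v 0) 3) (.co (.k [0, 0, 0, 0, 0, 0, 0, 1]) 6))) (.mul (.co
    (.v 0) 4) (.co (.k [0, 0, 0, 0, 0, 0, 0, 1]) 6))) (.mul (.co (.v 0) 3) (.co (.k [0, 0, 0, 0, 0, 0, 0, 1])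
    7)))))) (.and (.not (.and (.ez (.add (.add (.add (.add (.mul (.co (.v 0) 0) (.co (.mul (.inv (.k [0, 0, 0, 0, 0,
    0, 1])) (.k [0, 0, 0, 0, 0, 0, 0, 1])) 5)) (.neg (.mul (.co (.v 0) 3) (.co (.mul (.inv (.k [0, 0, 0, 0, 0, 0,
    1])) (.k [0, 0, 0, 0, 0, 0, 0, 1])) 5)))) (.mul (.co (.v 0) 4) (.co (.mul (.inv (.k [0, 0, 0, 0, 0, 0, 1])) (.k
    [0, 0, 0, 0, 0, 0, 0, 1])) 5))) (.neg (.mul (.co (.v 0) 3) (.co (.mul (.inv (.k [0, 0, 0, 0, 0, 0, 1])) (.k [0,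
    0, 0, 0, 0, 0, 0, 1])) 6)))) (.neg (.mul (.co (.v 0) 0) (.co (.mul (.inv (.k [0, 0, 0, 0, 0, 0, 1])) (.k [0, 0,
    0, 0, 0, 0, 0, 1])) 7))))) (.ez (.add (.add (.add (.add (.neg (.mul (.co (.v 0) 2) (.co (.mul (.inv (.k [0, 0,
    0, 0, 0, 0, 1])) (.k [0, 0, 0, 0, 0, 0, 0, 1])) 5))) (.neg (.mul (.co (.v 0) 4) (.co (.mul (.inv (.k [0, 0, 0,
    0, 0, 0, 1])) (.k [0, 0, 0, 0, 0, 0, 0, 1])) 5)))) (.mul (.co (.v 0) 3) (.co (.mul (.inv (.k [0, 0, 0, 0, 0, 0,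
    1])) (.k [0, 0, 0, 0, 0, 0, 0, 1])) 6))) (.mul (.co (.v 0) 4) (.co (.mul (.inv (.k [0, 0, 0, 0, 0, 0, 1])) (.k
    [0, 0, 0, 0, 0, 0, 0, 1])) 6))) (.mul (.co (.v 0) 3) (.co (.mul (.inv (.k [0, 0, 0, 0, 0, 0, 1])) (.k [0, 0, 0,
    0, 0, 0, 0, 1])) 7)))))) (.not (.and (.ez (.add (.add (.add (.add (.mul (.co (.v 0) 0) (.co (.mul (.k [0, 0, 0,
    0, 0, 0, 1]) (.k [0, 0, 0, 0, 0, 0, 0, 1])) 5)) (.neg (.mul (.co (.v 0) 3) (.co (.mul (.k [0, 0, 0, 0, 0, 0, 1])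
    (.k [0, 0, 0, 0, 0, 0, 0, 1])) 5)))) (.mul (.co (.v 0) 4) (.co (.mul (.k [0, 0, 0, 0, 0, 0, 1]) (.k [0, 0, 0, 0,
    0, 0, 0, 1])) 5))) (.neg (.mul (.co (.v 0) 3) (.co (.mul (.k [0, 0, 0, 0, 0, 0, 1]) (.k [0, 0, 0, 0, 0, 0, 0,
    1])) 6)))) (.neg (.mul (.co (.v 0) 0) (.co (.mul (.k [0, 0, 0, 0, 0, 0, 1]) (.k [0, 0, 0, 0, 0, 0, 0, 1]))
    7))))) (.ez (.add (.add (.add (.add (.neg (.mul (.co (.v 0) 2) (.co (.mul (.k [0, 0, 0, 0, 0, 0, 1]) (.k [0, 0,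
    0, 0, 0, 0, 0, 1])) 5))) (.neg (.mul (.co (.v 0) 4) (.co (.mul (.k [0, 0, 0, 0, 0, 0, 1]) (.k [0, 0, 0, 0, 0, 0,
    0, 1])) 5)))) (.mul (.co (.v 0) 3) (.co (.mul (.k [0, 0, 0, 0, 0, 0, 1]) (.k [0, 0, 0, 0, 0, 0, 0, 1])) 6)))
    (.mul (.co (.v 0) 4) (.co (.mul (.k [0, 0, 0, 0, 0, 0, 1]) (.k [0, 0, 0, 0, 0, 0, 0, 1])) 6))) (.mul (.co (.v 0)
    3) (.co (.mul (.k [0, 0, 0, 0, 0, 0, 1]) (.k [0, 0, 0, 0, 0, 0, 0, 1])) 7)))))))))))))) (by decide +kernel) y y'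
    hy hy'
  have : h 5 ∈ E1 := hm (by decide)
  have : h 5 ∈ E2 := hm (by decide)
  have : h 5 ∈ D1 := hm (by decide)
  have : h 6 ∈ E1 := hm (by decide)
  have : h 6 ∈ E2 := hm (by decide)
  have : h 6 ∈ D1 := hm (by decide)
  have : h 7 ∈ E1 := hm (by decide)
  have : h 7 ∈ E2 := hm (by decide)
  have : h 7 ∈ D1 := hm (by decide)
  simp (disch := repeat' first | assumption | apply mul_mem | apply inv_mem) only [bl_iff, cd_iff] at H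
  exact H

theorem t1 {y y' : V} (hy : y ∈ E1) (hy' : y' ∈ E1) (k1 : y ∉ D1) (k2 : ¬ L3 y y' D1) (k3 : ⁅y', y⁆ ∈ Z2) :
    ∃ d ∈ D1, ∃ d' ∈ D1, y * d ≠ d * y ∧ y * d' ≠ d' * y ∧ y * (d⁻¹ * d') ≠ d⁻¹ * d' * y ∧
      y * (d * d') ≠ d * d' * y := by
  rcases t1' hy hy' k1 k2 k3 with k | k | k <;> exact ⟨_, hm (by decide), _, hm (by decide), k⟩

theorem pz6 {y y' : V} (hy : y ∈ Z6) (hy' : y' ∈ Z6) : y ∉ D1 → y ^ 3 = 1 → y' ^ 3 = 1 → ⁅y', y⁆ ∈ Z2 → L3 y y' D1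
    := by
  have H : y ∉ D1 → O3 y → O3 y' → Bl y' y → L3 y y' D1 := c2 [0, 1] 5 [0, 1] 5 (.imp (.not (.z (.v 0) [0, 1, 2, 3,
    4])) (.imp (.and (.ez (.add (.add (.add (.add (.add (.mul (.mul (.co (.v 0) 0) (.co (.v 0) 0)) (.co (.v 0) 2))
    (.neg (.co (.v 0) 3))) (.mul (.mul (.co (.v 0) 0) (.co (.v 0) 0)) (.co (.v 0) 3))) (.neg (.mul (.mul (.co (.v 0)
    0) (.co (.v 0) 2)) (.co (.v 0) 3)))) (.mul (.mul (.co (.v 0) 2) (.co (.v 0) 3)) (.co (.v 0) 3))) (.neg (.mul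
    (.mul (.co (.v 0) 0) (.co (.v 0) 2)) (.co (.v 0) 4))))) (.ez (.add (.add (.add (.add (.add (.add (.add (.add
    (.add (.mul (.mul (.co (.v 0) 0) (.co (.v 0) 2)) (.co (.v 0) 2)) (.neg (.co (.v 0) 3))) (.mul (.mul (.co (.v 0)
    0) (.co (.v 0) 2)) (.co (.v 0) 3))) (.mul (.mul (.co (.v 0) 0) (.co (.v 0) 3)) (.co (.v 0) 3))) (.mul (.mul (.co
    (.v 0) 2) (.co (.v 0) 3)) (.co (.v 0) 3))) (.co (.v 0) 4)) (.neg (.mul (.mul (.co (.v 0) 0) (.co (.v 0) 3)) (.co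
    (.v 0) 4)))) (.mul (.mul (.co (.v 0) 2) (.co (.v 0) 3)) (.co (.v 0) 4))) (.mul (.mul (.co (.v 0) 3) (.co (.v 0)
    3)) (.co (.v 0) 4))) (.mul (.mul (.co (.v 0) 0) (.co (.v 0) 4)) (.co (.v 0) 4))))) (.imp (.and (.ez (.add (.add
    (.add (.add (.add (.mul (.mul (.co (.v 1) 0) (.co (.v 1) 0)) (.co (.v 1) 2)) (.neg (.co (.v 1) 3))) (.mul (.mul
    (.co (.v 1) 0) (.co (.v 1) 0)) (.co (.v 1) 3))) (.neg (.mul (.mul (.co (.v 1) 0) (.co (.v 1) 2)) (.co (.v 1)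
    3)))) (.mul (.mul (.co (.v 1) 2) (.co (.v 1) 3)) (.co (.v 1) 3))) (.neg (.mul (.mul (.co (.v 1) 0) (.co (.v 1)
    2)) (.co (.v 1) 4))))) (.ez (.add (.add (.add (.add (.add (.add (.add (.add (.add (.mul (.mul (.co (.v 1) 0)
    (.co (.v 1) 2)) (.co (.v 1) 2)) (.neg (.co (.v 1) 3))) (.mul (.mul (.co (.v 1) 0) (.co (.v 1) 2)) (.co (.v 1)
    3))) (.mul (.mul (.co (.v 1) 0) (.co (.v 1) 3)) (.co (.v 1) 3))) (.mul (.mul (.co (.v 1) 2) (.co (.v 1) 3)) (.co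
    (.v 1) 3))) (.co (.v 1) 4)) (.neg (.mul (.mul (.co (.v 1) 0) (.co (.v 1) 3)) (.co (.v 1) 4)))) (.mul (.mul (.co
    (.v 1) 2) (.co (.v 1) 3)) (.co (.v 1) 4))) (.mul (.mul (.co (.v 1) 3) (.co (.v 1) 3)) (.co (.v 1) 4))) (.mul
    (.mul (.co (.v 1) 0) (.co (.v 1) 4)) (.co (.v 1) 4))))) (.imp (.and (.ez (.add (.add (.add (.neg (.mul (.co (.v
    1) 2) (.co (.v 0) 0))) (.mul (.co (.v 1) 3) (.co (.v 0) 0))) (.mul (.co (.v 1) 0) (.co (.v 0) 2))) (.neg (.mul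
    (.co (.v 1) 0) (.co (.v 0) 3))))) (.and (.ez (.add (.add (.add (.add (.add (.add (.add (.neg (.mul (.co (.v 1)
    2) (.co (.v 0) 0))) (.neg (.mul (.co (.v 1) 3) (.co (.v 0) 0)))) (.mul (.co (.v 1) 4) (.co (.v 0) 0))) (.mul
    (.co (.v 1) 0) (.co (.v 0) 2))) (.neg (.mul (.co (.v 1) 3) (.co (.v 0) 2)))) (.mul (.co (.v 1) 0) (.co (.v 0)
    3))) (.mul (.co (.v 1) 2) (.co (.v 0) 3))) (.neg (.mul (.co (.v 1) 0) (.co (.v 0) 4))))) (.ez (.add (.add (.add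
    (.add (.add (.add (.add (.neg (.mul (.co (.v 1) 3) (.co (.v 0) 0))) (.neg (.mul (.co (.v 1) 3) (.co (.v 0) 2))))
    (.neg (.mul (.co (.v 1) 4) (.co (.v 0) 2)))) (.mul (.co (.v 1) 0) (.co (.v 0) 3))) (.mul (.co (.v 1) 2) (.co (.v
    0) 3))) (.neg (.mul (.co (.v 1) 4) (.co (.v 0) 3)))) (.mul (.co (.v 1) 2) (.co (.v 0) 4))) (.mul (.co (.v 1) 3)
    (.co (.v 0) 4)))))) (.or (.z (.v 1) [0, 1, 2, 3, 4]) (.or (.z (.mul (.inv (.v 0)) (.v 1)) [0, 1, 2, 3, 4]) (.z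
    (.mul (.v 0) (.v 1)) [0, 1, 2, 3, 4]))))))) (by decide +kernel) y y' hy hy'
  have : y ∈ E1 := le_of_sub (by decide) hy
  have : y ∈ E2 := le_of_sub (by decide) hy
  have : y' ∈ E1 := le_of_sub (by decide) hy'
  have : y' ∈ E2 := le_of_sub (by decide) hy'
  simp (disch := repeat' first | assumption | apply mul_mem | apply inv_mem) only [bl_iff, o3_iff] at H
  simpa only [pow_three'] using H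

theorem o3z6 {w : V} (hw : w ∈ Z6) : w ∉ D1 → w ^ 3 = 1 → w ∉ Ph := by
  have H : w ∉ D1 → O3 w → w ∉ Ph := c1 [0, 1] 5 (.imp (.not (.z (.v 0) [0, 1, 2, 3, 4])) (.imp (.and (.ez (.add
    (.add (.add (.add (.add (.mul (.mul (.co (.v 0) 0) (.co (.v 0) 0)) (.co (.v 0) 2)) (.neg (.co (.v 0) 3))) (.mul
    (.mul (.co (.v 0) 0) (.co (.v 0) 0)) (.co (.v 0) 3))) (.neg (.mul (.mul (.co (.v 0) 0) (.co (.v 0) 2)) (.co (.v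
    0) 3)))) (.mul (.mul (.co (.v 0) 2) (.co (.v 0) 3)) (.co (.v 0) 3))) (.neg (.mul (.mul (.co (.v 0) 0) (.co (.v
    0) 2)) (.co (.v 0) 4))))) (.ez (.add (.add (.add (.add (.add (.add (.add (.add (.add (.mul (.mul (.co (.v 0) 0)
    (.co (.v 0) 2)) (.co (.v 0) 2)) (.neg (.co (.v 0) 3))) (.mul (.mul (.co (.v 0) 0) (.co (.v 0) 2)) (.co (.v 0)
    3))) (.mul (.mul (.co (.v 0) 0) (.co (.v 0) 3)) (.co (.v 0) 3))) (.mul (.mul (.co (.v 0) 2) (.co (.v 0) 3)) (.co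
    (.v 0) 3))) (.co (.v 0) 4)) (.neg (.mul (.mul (.co (.v 0) 0) (.co (.v 0) 3)) (.co (.v 0) 4)))) (.mul (.mul (.co
    (.v 0) 2) (.co (.v 0) 3)) (.co (.v 0) 4))) (.mul (.mul (.co (.v 0) 3) (.co (.v 0) 3)) (.co (.v 0) 4))) (.mul
    (.mul (.co (.v 0) 0) (.co (.v 0) 4)) (.co (.v 0) 4))))) (.not (.z (.v 0) [0, 1, 2])))) (by decide +kernel) w hw
  have : w ∈ E1 := le_of_sub (by decide) hw
  have : w ∈ E2 := le_of_sub (by decide) hw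
  simp (disch := repeat' first | assumption | apply mul_mem | apply inv_mem) only [o3_iff] at H
  simpa only [pow_three'] using H

theorem s7 {y z : V} (hy : y ∈ Z6) (hz : z ∈ Z2) : L3 z ⁅h 5, y⁆ ⊥ → L3 z ⁅h 6, y⁆ ⊥ → L3 z ⁅h 7, y⁆ ⊥ → y ∈ C4 ∨ y
    ∈ D1 := by
  have H : ⁅h 5, y⁆ = 1 ∨ z⁻¹ * ⁅h 5, y⁆ = 1 ∨ z * ⁅h 5, y⁆ = 1 → ⁅h 6, y⁆ = 1 ∨ z⁻¹ * ⁅h 6, y⁆ = 1 ∨ z * ⁅h 6, y⁆ =
    1 → ⁅h 7, y⁆ = 1 ∨ z⁻¹ * ⁅h 7, y⁆ = 1 ∨ z * ⁅h 7, y⁆ = 1 → y ∈ C4 ∨ y ∈ D1 := c2 [0, 1] 10 [0, 1, 2, 3, 4, 5, 6,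
    7] 10 (.imp (.or (.eq (.cm (.k [0, 0, 0, 0, 0, 1]) (.v 0)) (.k [])) (.or (.eq (.mul (.inv (.v 1)) (.cm (.k [0,
    0, 0, 0, 0, 1]) (.v 0))) (.k [])) (.eq (.mul (.v 1) (.cm (.k [0, 0, 0, 0, 0, 1]) (.v 0))) (.k [])))) (.imp (.or
    (.eq (.cm (.k [0, 0, 0, 0, 0, 0, 1]) (.v 0)) (.k [])) (.or (.eq (.mul (.inv (.v 1)) (.cm (.k [0, 0, 0, 0, 0, 0,
    1]) (.v 0))) (.k [])) (.eq (.mul (.v 1) (.cm (.k [0, 0, 0, 0, 0, 0, 1]) (.v 0))) (.k [])))) (.imp (.or (.eq (.cm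
    (.k [0, 0, 0, 0, 0, 0, 0, 1]) (.v 0)) (.k [])) (.or (.eq (.mul (.inv (.v 1)) (.cm (.k [0, 0, 0, 0, 0, 0, 0, 1])
    (.v 0))) (.k [])) (.eq (.mul (.v 1) (.cm (.k [0, 0, 0, 0, 0, 0, 0, 1]) (.v 0))) (.k [])))) (.or (.z (.v 0) [0,
    1, 3, 4]) (.z (.v 0) [0, 1, 2, 3, 4]))))) (by decide +kernel) y z hy hz
  simpa only [P9, L3, Subgroup.mem_bot] using H

end Cfsg.Agent.TH3
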