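import Cfsg.Agent.TH3.Fa1

/-! Project TH3: facts for automorphisms.  Generated; see `notes/TH3.md`. -/

set_option autoImplicit false
set_option maxRecDepth 100000
set_option Elab.async false
set_option linter.unusedVariables false
set_option linter.unusedSimpArgs false

namespace Cfsg.Agent.TH3

open scoped commutatorElement

theorem i3 {a b : V} (ha : a ∈ Z6) (hb : b ∈ Z6) : ⁅h 0, h 1⁆⁻¹ * ⁅h 0 * a, h 1 * b⁆ ∈ Z5 :=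
  c2 [0, 1] 4 [0, 1] 4 (.z (.mul (.inv (.cm (.k [1]) (.k [0, 1]))) (.cm (.mul (.k [1]) (.v 0)) (.mul (.k [0, 1]) (.v
    1)))) [0, 1, 2, 3]) (by decide +kernel) a b ha hb

theorem i4 {x z b : V} (hx : x ∈ Ph) (hz : z ∈ Z5) (hb : b ∈ Z6) : ⁅x, h 1⁆⁻¹ * ⁅x * z, h 1 * b⁆ ∈ Z4 ∧ ⁅x, h 0⁆⁻¹ *
    ⁅x * z, h 0 * b⁆ ∈ Z4 :=
  c3 [0, 1, 2] 6 [0, 1, 2, 3] 6 [0, 1] 6 (.and (.z (.mul (.inv (.cm (.v 0) (.k [0, 1]))) (.cm (.mul (.v 0) (.v 1))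
    (.mul (.k [0, 1]) (.v 2)))) [0, 1, 2, 3, 4, 5]) (.z (.mul (.inv (.cm (.v 0) (.k [1]))) (.cm (.mul (.v 0) (.v 1))
    (.mul (.k [1]) (.v 2)))) [0, 1, 2, 3, 4, 5])) (by decide +kernel) x z b hx hz hb

theorem i6 {x z b : V} (hx : x ∈ D1) (hz : z ∈ Z4) (hb : b ∈ Z6) : ⁅x, h 1⁆⁻¹ * ⁅x * z, h 1 * b⁆ ∈ Z3 :=
  c3 [0, 1, 2, 3, 4] 7 [0, 1, 2, 3, 4, 5] 7 [0, 1] 7 (.z (.mul (.inv (.cm (.v 0) (.k [0, 1]))) (.cm (.mul (.v 0) (.v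
    1)) (.mul (.k [0, 1]) (.v 2)))) [0, 1, 2, 3, 4, 5, 6]) (by decide +kernel) x z b hx hz hb

theorem i7 {x z b : V} (hx : x ∈ Z4) (hz : z ∈ Z3) (hb : b ∈ Z6) : ⁅x, h 1⁆⁻¹ * ⁅x * z, h 1 * b⁆ ∈ Z2 :=
  c3 [0, 1, 2, 3, 4, 5] 8 [0, 1, 2, 3, 4, 5, 6] 8 [0, 1] 8 (.z (.mul (.inv (.cm (.v 0) (.k [0, 1]))) (.cm (.mul (.v
    0) (.v 1)) (.mul (.k [0, 1]) (.v 2)))) [0, 1, 2, 3, 4, 5, 6, 7]) (by decide +kernel) x z b hx hz hb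

theorem i8 {x z b : V} (hx : x ∈ Z3) (hz : z ∈ Z2) (hb : b ∈ Z6) : ⁅x, h 0⁆⁻¹ * ⁅x * z, h 0 * b⁆ ∈ Z1 :=
  c3 [0, 1, 2, 3, 4, 5, 6] 9 [0, 1, 2, 3, 4, 5, 6, 7] 9 [0, 1] 9 (.z (.mul (.inv (.cm (.v 0) (.k [1]))) (.cm (.mul
    (.v 0) (.v 1)) (.mul (.k [1]) (.v 2)))) [0, 1, 2, 3, 4, 5, 6, 7, 8]) (by decide +kernel) x z b hx hz hb

theorem i9 {x z b : V} (hx : x ∈ Z2) (hz : z ∈ Z1) (hb : b ∈ Z6) : ⁅x * z, h 1 * b⁆ = ⁅x, h 1⁆ :=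
  c3 [0, 1, 2, 3, 4, 5, 6, 7] 10 [0, 1, 2, 3, 4, 5, 6, 7, 8] 10 [0, 1] 10 (.eq (.cm (.mul (.v 0) (.v 1)) (.mul (.k
    [0, 1]) (.v 2))) (.cm (.v 0) (.k [0, 1]))) (by decide +kernel) x z b hx hz hb

theorem i2 {a b : V} (ha : a ∈ C3) (hb : b ∈ Z6) : ⁅h 2, h 0⁆⁻¹ * ⁅a, h 0 * b⁆ ∈ Z4 → (h 2)⁻¹ * a ∈ Z5 :=
  c2 [0, 1, 3] 6 [0, 1] 6 (.imp (.z (.mul (.inv (.cm (.k [0, 0, 1]) (.k [1]))) (.cm (.v 0) (.mul (.k [1]) (.v 1))))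
    [0, 1, 2, 3, 4, 5]) (.z (.mul (.inv (.k [0, 0, 1])) (.v 0)) [0, 1, 2, 3])) (by decide +kernel) a b ha hb

theorem q3 : ⁅h 0, h 1⁆ ∉ Z5 :=
  c0 (.not (.z (.cm (.k [1]) (.k [0, 1])) [0, 1, 2, 3])) (by decide +kernel)

theorem g54 {x b : V} (hx : x ∈ Ph) (hb : b ∈ Z5) : x ∉ Z5 → P9 ⁅x, h 1⁆ ⁅x, h 0⁆ b Z4 :=
  c2 [0, 1, 2] 6 [0, 1, 2, 3] 6 (.imp (.not (.z (.v 0) [0, 1, 2, 3])) (.or (.or (.z (.v 1) [0, 1, 2, 3, 4, 5]) (.or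
    (.z (.mul (.inv (.cm (.v 0) (.k [0, 1]))) (.v 1)) [0, 1, 2, 3, 4, 5]) (.z (.mul (.cm (.v 0) (.k [0, 1])) (.v 1))
    [0, 1, 2, 3, 4, 5]))) (.or (.or (.z (.mul (.inv (.cm (.v 0) (.k [1]))) (.v 1)) [0, 1, 2, 3, 4, 5]) (.or (.z
    (.mul (.inv (.cm (.v 0) (.k [0, 1]))) (.mul (.inv (.cm (.v 0) (.k [1]))) (.v 1))) [0, 1, 2, 3, 4, 5]) (.z (.mul
    (.cm (.v 0) (.k [0, 1])) (.mul (.inv (.cm (.v 0) (.k [1]))) (.v 1))) [0, 1, 2, 3, 4, 5]))) (.or (.z (.mul (.cm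
    (.v 0) (.k [1])) (.v 1)) [0, 1, 2, 3, 4, 5]) (.or (.z (.mul (.inv (.cm (.v 0) (.k [0, 1]))) (.mul (.cm (.v 0)
    (.k [1])) (.v 1))) [0, 1, 2, 3, 4, 5]) (.z (.mul (.cm (.v 0) (.k [0, 1])) (.mul (.cm (.v 0) (.k [1])) (.v 1)))
    [0, 1, 2, 3, 4, 5])))))) (by decide +kernel) x b hx hb

theorem g01 {b : V} : P9 (h 0) (h 1) b Z6 :=
  c1 [] 2 (.or (.or (.z (.v 0) [0, 1]) (.or (.z (.mul (.inv (.k [1])) (.v 0)) [0, 1]) (.z (.mul (.k [1]) (.v 0)) [0,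
    1]))) (.or (.or (.z (.mul (.inv (.k [0, 1])) (.v 0)) [0, 1]) (.or (.z (.mul (.inv (.k [1])) (.mul (.inv (.k [0,
    1])) (.v 0))) [0, 1]) (.z (.mul (.k [1]) (.mul (.inv (.k [0, 1])) (.v 0))) [0, 1]))) (.or (.z (.mul (.k [0, 1])
    (.v 0)) [0, 1]) (.or (.z (.mul (.inv (.k [1])) (.mul (.k [0, 1]) (.v 0))) [0, 1]) (.z (.mul (.k [1]) (.mul (.k
    [0, 1]) (.v 0))) [0, 1]))))) (by decide +kernel) b (nil0 _)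

theorem x0 {a : V} : a.co 0 = (h 0).co 0 → a.co 1 = 0 → (h 0)⁻¹ * a ∈ Z6 := by
  have H : a.co 0 + -((h 0).co 0) = 0 → a.co 1 = 0 → (h 0)⁻¹ * a ∈ Z6 := c1 [] 2 (.imp (.ez (.add (.co (.v 0) 0)
    (.neg (.co (.k [1]) 0)))) (.imp (.ez (.co (.v 0) 1)) (.z (.mul (.inv (.k [1])) (.v 0)) [0, 1])))
    (by decide +kernel) a (nil0 _)
  simp only [add_neg_eq_zero] at H
  exact H

theorem x1 {a : V} : a.co 0 = 0 → a.co 1 = (h 1).co 1 → (h 1)⁻¹ * a ∈ Z6 := by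
  have H : a.co 0 = 0 → a.co 1 + -((h 1).co 1) = 0 → (h 1)⁻¹ * a ∈ Z6 := c1 [] 2 (.imp (.ez (.co (.v 0) 0)) (.imp
    (.ez (.add (.co (.v 0) 1) (.neg (.co (.k [0, 1]) 1)))) (.z (.mul (.inv (.k [0, 1])) (.v 0)) [0, 1])))
    (by decide +kernel) a (nil0 _)
  simp only [add_neg_eq_zero] at H
  exact H

theorem pr2 {a : V} {b : V} (ha : a ∈ Z2) : ⁅a, b⁆.co 9 = (a.co 8 * b.co 1) := by
  have H : ⁅a, b⁆.co 9 + -((a.co 8 * b.co 1)) = 0 := c2 [0, 1, 2, 3, 4, 5, 6, 7] 10 [] 10 (.ez (.add (.co (.cm (.v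
    0) (.v 1)) 9) (.neg (.mul (.co (.v 0) 8) (.co (.v 1) 1))))) (by decide +kernel) a b ha (nil0 _)
  simp only [add_neg_eq_zero] at H
  exact H

theorem pr3 {a : V} {b : V} (ha : a ∈ Z3) : ⁅a, b⁆.co 8 = (a.co 7 * b.co 0) := by
  have H : ⁅a, b⁆.co 8 + -((a.co 7 * b.co 0)) = 0 := c2 [0, 1, 2, 3, 4, 5, 6] 9 [] 9 (.ez (.add (.co (.cm (.v 0) (.v
    1)) 8) (.neg (.mul (.co (.v 0) 7) (.co (.v 1) 0))))) (by decide +kernel) a b ha (nil0 _)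
  simp only [add_neg_eq_zero] at H
  exact H

theorem co01 {a b : V} : (a * b).co 0 = (a.co 0 + b.co 0) ∧ (a * b).co 1 = (a.co 1 + b.co 1) := by
  have H : (a * b).co 0 + -((a.co 0 + b.co 0)) = 0 ∧ (a * b).co 1 + -((a.co 1 + b.co 1)) = 0 := c2 [] 2 [] 2 (.and
    (.ez (.add (.co (.mul (.v 0) (.v 1)) 0) (.neg (.add (.co (.v 0) 0) (.co (.v 1) 0))))) (.ez (.add (.co (.mul (.v
    0) (.v 1)) 1) (.neg (.add (.co (.v 0) 1) (.co (.v 1) 1)))))) (by decide +kernel) a b (nil0 _) (nil0 _)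
  simp only [add_neg_eq_zero] at H
  exact H

theorem co89 {a b : V} (ha : a ∈ Z2) (hb : b ∈ Z2) : (a * b).co 8 = (a.co 8 + b.co 8) ∧ (a * b).co 9 = (a.co 9 +
    b.co 9) := by
  have H : (a * b).co 8 + -((a.co 8 + b.co 8)) = 0 ∧ (a * b).co 9 + -((a.co 9 + b.co 9)) = 0 := c2 [0, 1, 2, 3, 4,
    5, 6, 7] 10 [0, 1, 2, 3, 4, 5, 6, 7] 10 (.and (.ez (.add (.co (.mul (.v 0) (.v 1)) 8) (.neg (.add (.co (.v 0) 8)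
    (.co (.v 1) 8))))) (.ez (.add (.co (.mul (.v 0) (.v 1)) 9) (.neg (.add (.co (.v 0) 9) (.co (.v 1) 9))))))
    (by decide +kernel) a b ha hb
  simp only [add_neg_eq_zero] at H
  exact H

theorem co78 {a b : V} (ha : a ∈ Z3) (hb : b ∈ Z3) : (a * b).co 7 = (a.co 7 + b.co 7) ∧ (a * b).co 8 = (a.co 8 +
    b.co 8) := by
  have H : (a * b).co 7 + -((a.co 7 + b.co 7)) = 0 ∧ (a * b).co 8 + -((a.co 8 + b.co 8)) = 0 := c2 [0, 1, 2, 3, 4,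
    5, 6] 9 [0, 1, 2, 3, 4, 5, 6] 9 (.and (.ez (.add (.co (.mul (.v 0) (.v 1)) 7) (.neg (.add (.co (.v 0) 7) (.co
    (.v 1) 7))))) (.ez (.add (.co (.mul (.v 0) (.v 1)) 8) (.neg (.add (.co (.v 0) 8) (.co (.v 1) 8))))))
    (by decide +kernel) a b ha hb
  simp only [add_neg_eq_zero] at H
  exact H

theorem z21 {a : V} (ha : a ∈ Z2) : a.co 8 = 0 → a ∈ Z1 :=
  c1 [0, 1, 2, 3, 4, 5, 6, 7] 9 (.imp (.ez (.co (.v 0) 8)) (.z (.v 0) [0, 1, 2, 3, 4, 5, 6, 7, 8]))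
    (by decide +kernel) a ha

theorem z20 {a : V} (ha : a ∈ Z2) : a.co 8 = 0 → a.co 9 = 0 → a = 1 :=
  c1 [0, 1, 2, 3, 4, 5, 6, 7] 10 (.imp (.ez (.co (.v 0) 8)) (.imp (.ez (.co (.v 0) 9)) (.eq (.v 0) (.k []))))
    (by decide +kernel) a ha

theorem z32 {a : V} (ha : a ∈ Z3) : a.co 7 = 0 → a ∈ Z2 :=
  c1 [0, 1, 2, 3, 4, 5, 6] 8 (.imp (.ez (.co (.v 0) 7)) (.z (.v 0) [0, 1, 2, 3, 4, 5, 6, 7])) (by decide +kernel) a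
    ha

theorem cj1 {b : V} (hb : b ∈ Z2) : (h 1 * b * (h 1)⁻¹).co 8 = b.co 8 ∧ (h 1 * b * (h 1)⁻¹).co 9 = (b.co 9 + (-(b.co
    8))) := by
  have H : (h 1 * b * (h 1)⁻¹).co 8 + -(b.co 8) = 0 ∧ (h 1 * b * (h 1)⁻¹).co 9 + -((b.co 9 + (-(b.co 8)))) = 0 := c1
    [0, 1, 2, 3, 4, 5, 6, 7] 10 (.and (.ez (.add (.co (.mul (.mul (.k [0, 1]) (.v 0)) (.inv (.k [0, 1]))) 8) (.neg
    (.co (.v 0) 8)))) (.ez (.add (.co (.mul (.mul (.k [0, 1]) (.v 0)) (.inv (.k [0, 1]))) 9) (.neg (.add (.co (.v 0)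
    9) (.neg (.co (.v 0) 8))))))) (by decide +kernel) b hb
  simp only [add_neg_eq_zero] at H
  exact H

theorem cj0 {b : V} (hb : b ∈ Z3) : (h 0 * b * (h 0)⁻¹).co 7 = b.co 7 ∧ (h 0 * b * (h 0)⁻¹).co 8 = (b.co 8 + (-(b.co
    7))) := by
  have H : (h 0 * b * (h 0)⁻¹).co 7 + -(b.co 7) = 0 ∧ (h 0 * b * (h 0)⁻¹).co 8 + -((b.co 8 + (-(b.co 7)))) = 0 := c1
    [0, 1, 2, 3, 4, 5, 6] 9 (.and (.ez (.add (.co (.mul (.mul (.k [1]) (.v 0)) (.inv (.k [1]))) 7) (.neg (.co (.v 0)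
    7)))) (.ez (.add (.co (.mul (.mul (.k [1]) (.v 0)) (.inv (.k [1]))) 8) (.neg (.add (.co (.v 0) 8) (.neg (.co (.v
    0) 7))))))) (by decide +kernel) b hb
  simp only [add_neg_eq_zero] at H
  exact H

theorem ex2 (i j : ZMod 3) : ∃ b ∈ Z2, b.co 8 = i ∧ b.co 9 = j :=
  ⟨ofF fun k => if k = 8 then i else if k = 9 then j else 0, fun k hk => by
    simp only [List.mem_cons, List.not_mem_nil, or_false] at hk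
    rcases hk with rfl | rfl | rfl | rfl | rfl | rfl | rfl | rfl <;> rfl, rfl, rfl⟩

theorem ex3 (i j : ZMod 3) : ∃ b ∈ Z3, b.co 7 = i ∧ b.co 8 = j :=
  ⟨ofF fun k => if k = 7 then i else if k = 8 then j else 0, fun k hk => by
    simp only [List.mem_cons, List.not_mem_nil, or_false] at hk
    rcases hk with rfl | rfl | rfl | rfl | rfl | rfl | rfl <;> rfl, rfl, rfl⟩

theorem mem_E1 {a : V} : a ∈ E1 ↔ a.co 1 = 0 := ⟨fun k => k 1 (by decide), fun k i hi => by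
  rw [List.mem_singleton.1 hi, k]⟩

theorem mem_E2 {a : V} : a ∈ E2 ↔ a.co 0 = 0 := ⟨fun k => k 0 (by decide), fun k i hi => by
  rw [List.mem_singleton.1 hi, k]⟩

end Cfsg.Agent.TH3
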