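import Cfsg.Agent.TH3.Raw
import Mathlib.Algebra.Group.MinimalAxioms
import Mathlib.GroupTheory.PGroup
import Mathlib.GroupTheory.Commutator.Basic

/-! Project TH3: the model is a group with a power-commutator presentation.  See `notes/TH3.md`. -/

set_option autoImplicit false
set_option maxRecDepth 100000

namespace Cfsg.Agent.TH3

open scoped commutatorElement

section pc
variable {M M' : Type*} [Monoid M] [Monoid M']

/-- the word `x_0 ^ e_0 * x_1 ^ e_1 * ⋯` -/
def wd : List M → List ℕ → M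
  | x :: l, e :: es => x ^ (e % 3) * wd l es
  | _, _ => 1

/-- the relations `x_i ^ 3 = p_i`, `x_j x_i = x_i c_ij` -/
def Good : List M → List (List ℕ × List (List ℕ)) → Prop
  | [], _ => True
  | _ :: _, [] => False
  | x :: l, d :: r => Good l r ∧ x ^ 3 = wd l d.1 ∧ List.Forall₂ (fun y c => y * x = x * wd l c) l d.2

theorem wd_map (f : M →* M') : ∀ (l : List M) (es : List ℕ), wd (l.map f) es = f (wd l es)
  | [], _ => by simp [wd]
  | _ :: _, [] => by simp [wd]
  | x :: l, e :: es => by simp [wd, wd_map f l es]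

theorem wd_ind {Q : M → Prop} (h1 : Q 1) (hm : ∀ a b, Q a → Q b → Q (a * b)) :
    ∀ (l : List M) (es : List ℕ), (∀ y ∈ l, Q y) → Q (wd l es)
  | [], _, _ => by simpa [wd] using h1
  | _ :: _, [], _ => by simpa [wd] using h1
  | x :: l, e :: es, h => hm _ _ (by
      induction e % 3 with
      | zero => simpa using h1
      | succ n ih => rw [pow_succ]; exact hm _ _ ih (h x (by simp)))
    (wd_ind h1 hm l es fun y hy => h y (by simp [hy]))

theorem wd_cons (x : M) (l : List M) (es : List ℕ) : ∃ e < 3, ∃ es', wd (x :: l) es = x ^ e * wd l es' := by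
  cases es with
  | nil => exact ⟨0, by omega, [], by cases l <;> simp [wd]⟩
  | cons e es => exact ⟨e % 3, by omega, es, rfl⟩

theorem Good.mul : ∀ {l : List M} {d : List (List ℕ × List (List ℕ))}, Good l d →
    ∀ a b, ∃ c, wd l a * wd l b = wd l c
  | [], _, _, _, _ => ⟨[], by simp [wd]⟩
  | x :: l, d :: r, h, a₀, b₀ => by
    have ih := Good.mul h.1
    have k1 : ∀ es, ∃ c, wd l es * x = x * wd l c := fun es => wd_ind (Q := fun y => ∃ c, y * x = x * wd l c)
      ⟨[], by cases l <;> simp [wd]⟩ (fun a b ⟨c, e⟩ ⟨c', e'⟩ => let ⟨c'', e''⟩ := ih c c'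
        ⟨c'', by rw [mul_assoc, e', ← mul_assoc, e, mul_assoc, e'']⟩) l es fun y hy => by
        obtain ⟨n, hn, rfl⟩ := List.getElem_of_mem hy
        exact ⟨_, h.2.2.get hn (h.2.2.length_eq ▸ hn)⟩
    have k2 : ∀ n es, ∃ c, wd l es * x ^ n = x ^ n * wd l c := fun n => by
      induction n with
      | zero => exact fun es => ⟨es, by simp⟩
      | succ n ih =>
        intro es
        obtain ⟨c, e⟩ := ih es
        obtain ⟨c', e'⟩ := k1 c
        exact ⟨c', by rw [pow_succ, ← mul_assoc, e, mul_assoc, e', mul_assoc]⟩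
    obtain ⟨i, hi, a, ea⟩ := wd_cons x l a₀
    obtain ⟨j, hj, b, eb⟩ := wd_cons x l b₀
    obtain ⟨c, e⟩ := k2 j a
    obtain ⟨c', e'⟩ := ih c b
    have e2 : wd (x :: l) a₀ * wd (x :: l) b₀ = x ^ (i + j) * wd l c' := by
      rw [ea, eb, mul_assoc, ← mul_assoc (wd l a), e, mul_assoc, e', ← mul_assoc, ← pow_add]
    by_cases hij : i + j < 3
    · exact ⟨(i + j) :: c', e2.trans (by rw [wd, Nat.mod_eq_of_lt hij])⟩
    · obtain ⟨c'', e''⟩ := ih d.1 c'
      refine ⟨(i + j - 3) :: c'', e2.trans ?_⟩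
      rw [wd, Nat.mod_eq_of_lt (by omega), ← e'', ← h.2.1, ← mul_assoc, ← pow_add, Nat.sub_add_cancel (by omega)]

theorem Good.of_sep {N N' : Type*} [Monoid N] [Monoid N'] (f : M →* N) (g : M →* N')
    (hf : ∀ a b, f a = f b → g a = g b → a = b) : ∀ {l : List M} {d : List (List ℕ × List (List ℕ))},
    Good (l.map f) d → Good (l.map g) d → Good l d
  | [], _, _, _ => trivial
  | _ :: _, [], h, _ => h
  | x :: l, d :: r, h, k => ⟨Good.of_sep f g hf h.1 k.1,
      hf _ _ (by rw [map_pow, ← wd_map]; exact h.2.1) (by rw [map_pow, ← wd_map]; exact k.2.1),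
      List.forall₂_iff_get.2 ⟨by simpa using h.2.2.length_eq, fun n h1 h2 => hf _ _ (by
        have := h.2.2.get (i := n) (by simpa using h1) h2
        rw [wd_map] at this
        simpa using this) (by
        have := k.2.2.get (i := n) (by simpa using h1) h2
        rw [wd_map] at this
        simpa using this)⟩⟩

end pc

/-- the presentation -/
def pres : List (List ℕ × List (List ℕ)) := [([0, 0, 0, 0, 0, 0, 0, 0, 0], [[1, 0, 1, 1, 2, 0, 0, 1, 0], [0, 1, 0, 0, 2, 2, 0, 1, 0], [0, 0, 1, 0, 1, 2, 2, 2, 0], [0, 0, 0, 1, 0, 1, 0, 1, 1], [0, 0, 0, 0, 1, 0, 0, 2, 0], [0, 0, 0, 0, 0, 1, 0, 0, 0], [0, 0, 0, 0, 0, 0, 1, 1, 0], [0, 0, 0, 0, 0, 0, 0, 1, 0], [0, 0, 0, 0, 0, 0, 0, 0, 1]]),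
  ([0, 0, 0, 0, 0, 1, 0, 0], [[1, 0, 0, 0, 1, 1, 2, 0], [0, 1, 1, 0, 0, 2, 1, 0], [0, 0, 1, 0, 0, 0, 0, 2], [0, 0, 0, 1, 1, 1, 2, 1], [0, 0, 0, 0, 1, 1, 0, 1], [0, 0, 0, 0, 0, 1, 0, 0], [0, 0, 0, 0, 0, 0, 1, 1], [0, 0, 0, 0, 0, 0, 0, 1]]),
  ([0, 0, 0, 0, 0, 0, 0], [[1, 0, 0, 2, 2, 1, 2], [0, 1, 0, 0, 2, 1, 2], [0, 0, 1, 0, 0, 0, 1], [0, 0, 0, 1, 0, 0, 0], [0, 0, 0, 0, 1, 0, 0], [0, 0, 0, 0, 0, 1, 0], [0, 0, 0, 0, 0, 0, 1]]),
  ([0, 0, 0, 0, 2, 2], [[1, 0, 0, 2, 0, 0], [0, 1, 0, 0, 1, 0], [0, 0, 1, 0, 1, 2], [0, 0, 0, 1, 0, 2], [0, 0, 0, 0, 1, 0], [0, 0, 0, 0, 0, 1]]),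
  ([0, 0, 0, 0, 1], [[1, 0, 0, 2, 1], [0, 1, 0, 0, 2], [0, 0, 1, 0, 0], [0, 0, 0, 1, 0], [0, 0, 0, 0, 1]]),
  ([0, 0, 0, 0], [[1, 0, 0, 0], [0, 1, 0, 0], [0, 0, 1, 0], [0, 0, 0, 1]]),
  ([0, 0, 0], [[1, 0, 0], [0, 1, 0], [0, 0, 1]]),
  ([0, 0], [[1, 0], [0, 1]]),
  ([0], [[1]]),
  ([], [])]

/-- maps composed from left to right -/
@[ext] structure Op where
  f : V → V

instance : Monoid Op where
  mul x y := ⟨fun a => y.f (x.f a)⟩
  one := ⟨id⟩
  mul_assoc _ _ _ := rfl
  one_mul _ := rfl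
  mul_one _ := rfl

theorem Op.mul_f (x y : Op) (a : V) : (x * y).f a = y.f (x.f a) := rfl

noncomputable def X (j : ℕ) : Op := ⟨fun a => step j a 1⟩

def tpw (j : ℕ) (t : Tm) : ℕ → Tm
  | 0 => t
  | n + 1 => .st j 1 (tpw j t n)

def twd : List ℕ → List ℕ → Tm → Tm
  | j :: l, e :: es, t => twd l es (tpw j t (e % 3))
  | _, _, t => t

theorem tpw_sem (ρ : ℕ → V) (j : ℕ) (t : Tm) : ∀ n, (tpw j t n).sem ρ = (X j ^ n).f (t.sem ρ)
  | 0 => rfl
  | n + 1 => by rw [pow_succ, Op.mul_f, ← tpw_sem ρ j t n]; rfl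

theorem twd_sem (ρ : ℕ → V) : ∀ (l es : List ℕ) (t : Tm), (twd l es t).sem ρ = (wd (l.map X) es).f (t.sem ρ)
  | [], _, _ => rfl
  | _ :: _, [], _ => rfl
  | j :: l, e :: es, t => by rw [twd, twd_sem ρ l es, tpw_sem]; rfl

def ftt : Fm := .z (.v 0) []

def fcom (j : ℕ) (l : List ℕ) : List ℕ → List (List ℕ) → Fm
  | [], [] => ftt
  | y :: ys, c :: cs => .and (.eq (.st j 1 (.st y 1 (.v 0))) (twd l c (.st j 1 (.v 0)))) (fcom j l ys cs)
  | _, _ => .not ftt

def fgood : List ℕ → List (List ℕ × List (List ℕ)) → Fm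
  | [], _ => ftt
  | _ :: _, [] => .not ftt
  | j :: l, d :: r => .and (fgood l r) (.and (.eq (tpw j (.v 0) 3) (twd l d.1 (.v 0))) (fcom j l l d.2))

theorem fcom_sem (j : ℕ) (l : List ℕ) : ∀ (ys : List ℕ) (cs : List (List ℕ)),
    (∀ a, (fcom j l ys cs).sem fun _ => a) →
      List.Forall₂ (fun y c => y * X j = X j * wd (l.map X) c) (ys.map X) cs
  | [], [], _ => .nil
  | [], _ :: _, h => (h (kv []) fun _ k => nomatch k).elim
  | _ :: _, [], h => (h (kv []) fun _ k => nomatch k).elim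
  | _ :: ys, c :: cs, h => .cons (Op.ext (funext fun a => (h a).1.trans (twd_sem _ l c _)))
      (fcom_sem j l ys cs fun a => (h a).2)

theorem fgood_sem : ∀ (l : List ℕ) (d : List (List ℕ × List (List ℕ))),
    (∀ a, (fgood l d).sem fun _ => a) → Good (l.map X) d
  | [], _, _ => trivial
  | _ :: _, [], h => h (kv []) fun _ k => nomatch k
  | j :: l, d :: r, h => ⟨fgood_sem l r fun a => (h a).1,
      Op.ext (funext fun a => (tpw_sem (fun _ => a) j (.v 0) 3).symm.trans ((h a).2.1.trans (twd_sem _ l d.1 _))),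
      fcom_sem j l l d.2 fun a => (h a).2.2⟩

def all1 : List ℕ := [1, 1, 1, 1, 1, 1, 1, 1, 1, 1]

theorem chk1 {f : Fm} (h : chk all1 f = true) (a : V) : f.sem fun _ => a :=
  chk_raw h _ fun j e => by
    rcases Nat.lt_or_ge j 10 with k | k
    · interval_cases j <;> exact nomatch e
    · obtain ⟨j, rfl⟩ := Nat.exists_eq_add_of_le' k; exact nomatch e

def idx : List ℕ := [0, 1, 2, 3, 4, 5, 6, 7, 8, 9]

theorem goodX : Good (idx.map X) pres := fgood_sem _ _ (chk1 (by decide +kernel))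

/-- the generators -/
def h (j : ℕ) : V := kv (List.replicate j 0 ++ [1])

def fall (f : ℕ → Fm) : List ℕ → Fm
  | [] => ftt
  | j :: l => .and (f j) (fall f l)

theorem fall_sem {f : ℕ → Fm} {ρ : ℕ → V} : ∀ {l : List ℕ}, (fall f l).sem ρ → ∀ j ∈ l, (f j).sem ρ
  | _ :: _, k, _, .head _ => k.1
  | _ :: _, k, j, .tail _ m => fall_sem k.2 j m

theorem basic (a : V) : (∀ j ∈ idx, step j a 0 = a ∧ step j a 2 = step j (step j a 1) 1 ∧ mul a (h j) = step j a 1) ∧
    mul (kv []) a = a ∧ mul a (kv []) = a ∧ mul a (inv a) = kv [] :=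
  (chk1 (f := .and (fall (fun j => .and (.eq (.st j 0 (.v 0)) (.v 0)) (.and (.eq (.st j 2 (.v 0))
    (.st j 1 (.st j 1 (.v 0)))) (.eq (.mul (.v 0) (.k (List.replicate j 0 ++ [1]))) (.st j 1 (.v 0))))) idx)
    (.and (.eq (.mul (.k []) (.v 0)) (.v 0)) (.and (.eq (.mul (.v 0) (.k [])) (.v 0))
      (.eq (.mul (.v 0) (.inv (.v 0))) (.k []))))) (by decide +kernel) a).imp fall_sem id

theorem X_pow {j : ℕ} (hj : j ∈ idx) (e : ℕ) (a : V) : (X j ^ (e % 3)).f a = step j a (cZ (e % 3)) := by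
  have : e % 3 < 3 := Nat.mod_lt _ (by omega)
  generalize e % 3 = n at this
  interval_cases n
  · exact ((basic a).1 j hj).1.symm
  · rw [pow_one]; rfl
  · rw [pow_two]; exact ((basic a).1 j hj).2.1.symm

/-- the element with the given exponents -/
def kw (e : List ℕ) : V := ofF fun k => cZ (e.getD k 0 % 3)

theorem wd_pad {M : Type*} [Monoid M] : ∀ (l : List M) (es : List ℕ),
    wd l es = wd l ((List.range l.length).map fun k => es.getD k 0)
  | [], _ => by simp [wd]
  | x :: l, [] => by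
    rw [List.length_cons, List.range_succ_eq_map, List.map_cons, List.map_map, wd, wd]
    · have := wd_pad l []
      rw [show wd l [] = 1 by cases l <;> rfl] at this
      simpa [Function.comp_def] using this
    · simp
  | x :: l, e :: es => by
    rw [List.length_cons, List.range_succ_eq_map, List.map_cons, List.map_map, wd, wd, wd_pad l es]; rfl

theorem wd_X (es : List ℕ) (a : V) : (wd (idx.map X) es).f a = mul a (kw es) := by
  rw [wd_pad, show List.range (idx.map X).length = idx from rfl]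
  simp only [idx, List.map_cons, List.map_nil, wd, Op.mul_f]
  rw [X_pow (by decide), X_pow (by decide), X_pow (by decide), X_pow (by decide), X_pow (by decide),
    X_pow (by decide), X_pow (by decide), X_pow (by decide), X_pow (by decide), X_pow (by decide)]
  rfl

/-- the exponents of an element -/
def ex (a : V) : List ℕ := idx.map fun k => (a.co k).val

theorem cZ_val : ∀ x : ZMod 3, cZ (x.val % 3) = x := by decide

theorem kw_ex (a : V) : kw (ex a) = a := ext_co fun k hk => by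
  rw [kw, co_ofF _ hk]
  interval_cases k <;> exact cZ_val _

theorem mul_assoc' (x a b : V) : mul (mul x a) b = mul x (mul a b) := by
  obtain ⟨c, e⟩ := goodX.mul (ex a) (ex b)
  have k : ∀ x, mul (mul x a) b = mul x (kw c) := fun x => by
    have := congrArg (·.f x) e
    simpa only [Op.mul_f, wd_X, kw_ex] using this
  have := k (kv [])
  rw [(basic a).2.1, (basic _).2.1] at this
  rw [k, this]

noncomputable instance : Mul V := ⟨mul⟩
noncomputable instance : Inv V := ⟨inv⟩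
instance : One V := ⟨kv []⟩

noncomputable instance : Group V :=
  Group.ofRightAxioms mul_assoc' (fun a => (basic a).2.2.1) fun a => (basic a).2.2.2

def eqv : V ≃ (Fin 10 → ZMod 3) := ⟨V.c, V.mk, fun _ => rfl, fun _ => rfl⟩

instance : Finite V := .of_equiv _ eqv.symm

theorem card_V : Nat.card V = 3 ^ 10 := by simp [Nat.card_congr eqv]

theorem pg : IsPGroup 3 V := .of_card card_V

noncomputable def W : V →* Op where
  toFun b := ⟨fun a => a * b⟩
  map_one' := Op.ext (funext mul_one)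
  map_mul' b c := Op.ext (funext fun a => (mul_assoc a b c).symm)

theorem W_inj : Function.Injective W := fun a b e => by simpa [W] using congrArg (·.f 1) e

theorem W_h : (idx.map h).map W = idx.map X := by
  rw [List.map_map]
  exact List.map_congr_left fun j hj => Op.ext (funext fun a => ((basic a).1 j hj).2.2)

theorem goodV : Good (idx.map h) pres :=
  Good.of_sep W W (fun _ _ e _ => W_inj e) (W_h ▸ goodX) (W_h ▸ goodX)

theorem wd_h (es : List ℕ) : wd (idx.map h) es = kw es :=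
  W_inj (by rw [← wd_map, W_h]; exact Op.ext (funext (wd_X es)))

/-- homomorphisms from the presentation -/
theorem exists_hom {M : Type*} [Monoid M] (t : ℕ → M) (k : Good (idx.map t) pres) :
    ∃ φ : V →* M, ∀ a, φ a = wd (idx.map t) (ex a) := by
  have g : Good (idx.map fun j => (t j, h j)) pres :=
    Good.of_sep (MonoidHom.fst M V) (MonoidHom.snd M V) (fun _ _ => Prod.ext) k goodV
  have pad : ∀ c, wd (idx.map t) c = wd (idx.map t) (ex (kw c)) := fun c => by
    have : ∀ n, (cZ (n % 3)).val % 3 = n % 3 := fun n => by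
      have : n % 3 < 3 := Nat.mod_lt _ (by omega)
      generalize n % 3 = m at this
      interval_cases m <;> rfl
    rw [wd_pad, show List.range (idx.map t).length = idx from rfl]
    simp only [idx, ex, List.map_cons, List.map_nil, wd, kw]
    simp only [co_ofF, Nat.reduceLT, this]
  refine ⟨⟨⟨fun a => wd (idx.map t) (ex a), show wd (idx.map t) [0, 0, 0, 0, 0, 0, 0, 0, 0, 0] = 1 by
    simp [idx, wd]⟩, fun a b => ?_⟩, fun _ => rfl⟩
  obtain ⟨c, e⟩ := g.mul (ex a) (ex b)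
  have e1 := congrArg (MonoidHom.fst M V) e
  have e2 := congrArg (MonoidHom.snd M V) e
  rw [map_mul, ← wd_map, ← wd_map, ← wd_map] at e1 e2
  change wd (idx.map h) _ * wd (idx.map h) _ = wd (idx.map h) _ at e2
  rw [wd_h, wd_h, wd_h, kw_ex, kw_ex] at e2
  exact (e2 ▸ (pad c).symm).trans e1.symm

/-! ### the checker with masks -/

/-- coordinates in `ks` vanish, the other ones below `n` are enumerated, the rest is unknown -/
def code (ks : List ℕ) (n : ℕ) : List ℕ := idx.map fun k => if k ∈ ks then 0 else if k < n then 1 else 2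

theorem code_zero {ks : List ℕ} {n k : ℕ} (hk : k < 10) (e : (code ks n).getD k 2 = 0) : k ∈ ks := by
  by_contra c
  have : (code ks n).getD k 2 = if k ∈ ks then 0 else if k < n then 1 else 2 := by interval_cases k <;> rfl
  rw [this, if_neg c] at e
  split_ifs at e

theorem getD_app (ks : List ℕ) (n : ℕ) (l : List ℕ) (j : ℕ) :
    (code ks n ++ l).getD j 2 = if j < 10 then (code ks n).getD j 2 else l.getD (j - 10) 2 := by
  split_ifs with c
  · interval_cases j <;> rfl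
  · obtain ⟨j, rfl⟩ := Nat.exists_eq_add_of_le' (not_lt.1 c); rfl

def Zr (cs : List ℕ) (ρ : ℕ → V) : Prop := ∀ j, cs.getD j 2 = 0 → (ρ (j / 10)).co (j % 10) = 0

theorem Zr.nil (ρ : ℕ → V) : Zr [] ρ := fun _ e => nomatch e

theorem Zr.cons {cs : List ℕ} {ρ : ℕ → V} (k : Zr cs ρ) {ks : List ℕ} {n : ℕ} {a : V} (ha : ∀ k ∈ ks, a.co k = 0) :
    Zr (code ks n ++ cs) (cons a ρ) := fun j e => by
  rw [getD_app] at e
  split_ifs at e with c
  · rw [Nat.div_eq_of_lt c, Nat.mod_eq_of_lt c]; exact ha j (code_zero c e)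
  · obtain ⟨j, rfl⟩ := Nat.exists_eq_add_of_le' (not_lt.1 c)
    rw [Nat.add_div_right _ (by omega), Nat.add_mod_right]
    exact k j e

theorem c0 (f : Fm) (e : chk [] f = true) : f.sem fun _ => 1 := chk_raw e _ (Zr.nil fun _ => 1)

theorem c1 (k : List ℕ) (n : ℕ) (f : Fm) (e : chk (code k n ++ []) f = true) (a : V) (ha : ∀ i ∈ k, a.co i = 0) :
    f.sem (cons a fun _ => 1) := chk_raw e _ ((Zr.nil _).cons ha)

theorem c2 (k : List ℕ) (n : ℕ) (k' : List ℕ) (n' : ℕ) (f : Fm) (e : chk (code k n ++ (code k' n' ++ [])) f = true)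
    (a b : V) (ha : ∀ i ∈ k, a.co i = 0) (hb : ∀ i ∈ k', b.co i = 0) : f.sem (cons a (cons b fun _ => 1)) :=
  chk_raw e _ (((Zr.nil _).cons hb).cons ha)

theorem c3 (k : List ℕ) (n : ℕ) (k' : List ℕ) (n' : ℕ) (k'' : List ℕ) (n'' : ℕ) (f : Fm)
    (e : chk (code k n ++ (code k' n' ++ (code k'' n'' ++ []))) f = true) (a b c : V) (ha : ∀ i ∈ k, a.co i = 0)
    (hb : ∀ i ∈ k', b.co i = 0) (hc : ∀ i ∈ k'', c.co i = 0) : f.sem (cons a (cons b (cons c fun _ => 1))) :=
  chk_raw e _ ((((Zr.nil _).cons hc).cons hb).cons ha)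

theorem nil0 (a : V) : ∀ i ∈ ([] : List ℕ), a.co i = 0 := fun _ e => nomatch e

/-- the normal subgroup of the elements whose coordinates in `ks` vanish (`n` bounds `ks`) -/
noncomputable def sg (ks : List ℕ) (n : ℕ)
    (e : chk (code ks n ++ (code ks n ++ [])) (.and (.z (.k []) ks) (.and (.z (.inv (.v 0)) ks)
      (.z (.mul (.v 0) (.v 1)) ks))) = true) : Subgroup V where
  carrier := {a | ∀ k ∈ ks, a.co k = 0}
  one_mem' := fun k _ => by
    show (kv []).co k = 0
    by_cases c : k < 10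
    · exact co_ofF _ c
    · exact dif_neg c
  mul_mem' ha hb := (c2 _ _ _ _ _ e _ _ ha hb).2.2
  inv_mem' ha := (c2 _ _ _ _ _ e _ _ ha ha).2.1

theorem sg_normal {ks : List ℕ} {n : ℕ} {e} (e' : chk (code ks n ++ (code [] n ++ []))
    (.z (.mul (.mul (.v 1) (.v 0)) (.inv (.v 1))) ks) = true) : (sg ks n e).Normal :=
  ⟨fun a ha b => c2 _ _ _ _ _ e' a b ha (nil0 b)⟩

end Cfsg.Agent.TH3
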