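import Cfsg.Agent.TH3.Fa2
import Cfsg.Agent.TH3.Tv

set_option autoImplicit false
set_option linter.unusedSectionVars false

namespace Cfsg.Agent.TH3

open FK
open RFS (Au)
open SR3 (nm ce St)
open scoped commutatorElement

variable {G : Type*} [Group G] [Finite G] [Fact (Nat.Prime 3)] {u : V →* G} {E T : Subgroup V} {L : Subgroup G}

namespace III

theorem e12 {a : V} (h9 : a ^ 9 = 1) : a ∈ E1 ∨ a ∈ E2 := by
  by_contra c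
  rw [not_or] at c
  exact oo c.1 c.2 (by rw [← pow_mul]; exact h9)

theorem dn {a w : V} (w1 : w ∉ E1) (w2 : w ∉ E2) (h3 : a ^ 3 = 1) (c : ⁅a, w⁆ ∈ Z3) : a ∈ Z4 :=
  o4 (o5 (o6 (oS w1 w2 (e12 (by rw [show 9 = 3 * 3 from rfl, pow_mul, h3, one_pow]))
    (Z4_Z5 (Z3_Z4 c))) w1 w2 (Z3_Z4 c)) h3) w1 c

theorem cb {a b : V} (c : a * b = b * a) : ⁅a, b⁆ ∈ (⊥ : Subgroup V) :=
  Subgroup.mem_bot.2 (commutatorElement_eq_one_iff_mul_comm.2 c)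

end III

open III in
theorem caseIII (k : Pr 3 u E L) (h1 : ¬ E ≤ E1) (h2 : ¬ E ≤ E2) : False := by
  obtain ⟨w, hw, w1, w2⟩ : ∃ w ∈ E, w ∉ E1 ∧ w ∉ E2 := by
    obtain ⟨a, ha, a1⟩ := SetLike.not_le_iff_exists.1 h1
    obtain ⟨b, hb, b2⟩ := SetLike.not_le_iff_exists.1 h2
    by_cases a2 : a ∈ E2
    · by_cases b1 : b ∈ E1
      · exact ⟨a * b, mul_mem ha hb, fun c => a1 ((mul_mem_cancel_right b1).1 c),
          fun c => b2 ((mul_mem_cancel_left a2).1 c)⟩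
      · exact ⟨b, hb, b1, b2⟩
    · exact ⟨a, ha, a1, a2⟩
  have iE := k.iv_top
  have l1 : Z1 ≤ E := fun x hx => k.cen x fun e _ => cZ1 hx
  have i1 : Iv u E L Z1 := iv_czp k iE iE k.iv_bot 3 fun a =>
    ⟨fun ha => ⟨l1 ha, pD1 (Z2_D1 (Z1_Z2 ha)), fun b _ => cb (cZ1 ha)⟩, fun ⟨_, p, c⟩ => by
      have e : ⁅a, w⁆ = 1 := Subgroup.mem_bot.1 (c w hw)
      exact o1 (o2 (o3 (dn w1 w2 p (e ▸ one_mem _)) w1 (e ▸ one_mem _)) w2 (e ▸ one_mem _)) w1 e⟩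
  have l2 : Z2 ≤ E := fun x hx => k.chain1 i1 (fun e _ => cZ2 hx) fun b hb => (cZ1 hb).symm
  have i2 : Iv u E L Z2 := iv_czp k iE iE i1 3 fun a =>
    ⟨fun ha => ⟨l2 ha, pD1 (Z2_D1 ha), fun b _ => cZ2 ha⟩, fun ⟨_, p, c⟩ =>
      o2 (o3 (dn w1 w2 p (Z1_Z3 (c w hw))) w1 (Z1_Z2 (c w hw))) w2 (c w hw)⟩
  have l3 : Z3 ≤ E := fun x hx => k.chain1 i2 (fun e _ => cZ3 hx) fun b hb => cD1D1 (Z3_D1 hx) (Z2_D1 hb)
  have i3 : Iv u E L Z3 := iv_czp k iE iE i2 3 fun a =>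
    ⟨fun ha => ⟨l3 ha, pD1 (Z3_D1 ha), fun b _ => cZ3 ha⟩, fun ⟨_, p, c⟩ =>
      o3 (dn w1 w2 p (Z2_Z3 (c w hw))) w1 (c w hw)⟩
  have l4 : Z4 ≤ E := fun x hx => k.chain1 i3 (fun e _ => cZ4 hx) fun b hb => cD1D1 (Z4_D1 hx) (Z3_D1 hb)
  have i4 : Iv u E L Z4 := iv_czp k iE iE i3 3 fun a =>
    ⟨fun ha => ⟨l4 ha, pD1 (Z4_D1 ha), fun b _ => cZ4 ha⟩, fun ⟨_, p, c⟩ => dn w1 w2 p (c w hw)⟩
  have lD : D1 ≤ E := fun x hx => k.chain1 i4 (fun e _ => cD1 hx) fun b hb => cD1D1 hx (Z4_D1 hb)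
  have l5 : Z5 ≤ E := fun x hx => (upZ5 pS hx (w3 w1 w2)).mem lD (pow_mem hw 3)
  have i5 : Iv u E L Z5 := iv_czp k iE iE i4 9 fun a =>
    ⟨fun ha => ⟨l5 ha, by
      rw [show 9 = 3 * 3 from rfl, pow_mul]; exact pD1 (Z2_D1 (Z1_Z2 (pC3 (Z5_C3 ha)))),
      fun b _ => cZ5 ha⟩, fun ⟨_, p, c⟩ => o6 (oS w1 w2 (e12 p) (Z4_Z5 (c w hw))) w1 w2 (c w hw)⟩
  have l6 : Z6 ≤ E := fun x hx => k.chain <|
    .step i5 (fun b _ => cZ6 hx) <| .step i3 (fun b hb => SR3.comm_symm (cZ5Z6 hb hx)) <|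
      .step i1 (fun b hb => SR3.comm_symm (cZ3E2 hb (Z6_E2 hx))) <|
        .step k.iv_bot (fun b hb => cb (cZ1 hb).symm) .bot
  have i6 : Iv u E L Z6 := iv_czp k iE iE i5 9 fun a =>
    ⟨fun ha => ⟨l6 ha, by
      rw [show 9 = 3 * 3 from rfl, pow_mul]; exact pD1 (Z2_D1 (pE1 (Z6_E1 ha))),
      fun b _ => cZ6 ha⟩, fun ⟨_, p, c⟩ => oS w1 w2 (e12 p) (c w hw)⟩
  refine k.ne (eq_top_iff.2 fun x _ => k.chain <|
    .step i6 (fun b _ => Ph_Z6 cS) <| .step i5 (fun b hb => SR3.comm_symm (cZ6 hb)) <|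
      .step i4 (fun b hb => SR3.comm_symm (cZ5 hb)) <| .step i3 (fun b hb => SR3.comm_symm (cZ4 hb)) <|
        .step i2 (fun b hb => SR3.comm_symm (cZ3 hb)) <| .step i1 (fun b hb => SR3.comm_symm (cZ2 hb)) <|
          .step k.iv_bot (fun b hb => cb (cZ1 hb).symm) .bot)

end Cfsg.Agent.TH3
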