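import Cfsg.Agent.TH3.Gen

/-! Project TH3: the torus of `SL₂(9)`.  See `notes/TH3.md`. -/

set_option autoImplicit false
set_option linter.unusedSectionVars false

namespace Cfsg.Agent.TH3

open FK
open RFS (Au)
open SR3 (nm ce St)
open scoped commutatorElement

variable {H G : Type*} [Group H] [Finite H] [Group G] [Finite G] [Fact (Nat.Prime 3)] {u : H →* G}
  {E V₁ V₂ W B C D : Subgroup H} {L : Subgroup G}

namespace Tor

theorem exists_root (F : Type*) [Field F] [Fintype F] (h : Fintype.card F = 9) :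
    ∃ a : F, a ≠ 0 ∧ a ^ 4 = -1 := by
  classical
  obtain ⟨g, hg⟩ := IsCyclic.exists_ofOrder_eq_natCard (α := Fˣ)
  rw [Nat.card_eq_fintype_card, Fintype.card_units, h] at hg
  have h8 : g ^ 8 = 1 := by have := pow_orderOf_eq_one g; rwa [hg] at this
  have h4 : g ^ 4 ≠ 1 := fun e => by
    have := orderOf_dvd_of_pow_eq_one e
    rw [hg] at this
    exact absurd this (by decide)
  refine ⟨g, g.ne_zero, ?_⟩
  have e : ((g : F) ^ 4) * ((g : F) ^ 4) = 1 := by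
    rw [← pow_add, ← Units.val_pow_eq_pow_val, h8, Units.val_one]
  rcases mul_self_eq_one_iff.1 e with k | k
  · exact absurd (Units.ext (by rw [Units.val_pow_eq_pow_val, k, Units.val_one])) h4
  · exact k

/-- the diagonal matrix -/
def dg {F : Type*} [Field F] (a : F) (ha : a ≠ 0) : H69.SL2 F :=
  ⟨!![a, 0; 0, a⁻¹], by simp [Matrix.det_fin_two, ha]⟩

theorem dg_four {F : Type*} [Field F] {a : F} (ha : a ≠ 0) (h : a ^ 4 = -1) : dg a ha ^ 4 = -1 := by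
  have h' : a⁻¹ ^ 4 = -1 := by rw [inv_pow, h, inv_neg, inv_one]
  have e1 : a * a * a * a = -1 := by rw [← h]; ring
  have e2 : a⁻¹ * a⁻¹ * a⁻¹ * a⁻¹ = -1 := by rw [← h']; ring
  refine Subtype.ext ?_
  rw [pow_succ, pow_succ, pow_succ, pow_one]
  change !![a, 0; 0, a⁻¹] * !![a, 0; 0, a⁻¹] * !![a, 0; 0, a⁻¹] * !![a, 0; 0, a⁻¹] = -(1 : Matrix (Fin 2) (Fin 2) F)
  simp only [Matrix.mul_fin_two, mul_zero, zero_mul, add_zero, zero_add, e1, e2]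
  ext i j
  fin_cases i <;> fin_cases j <;> simp

end Tor

open H72 H69 in
/-- the torus of `SL₂(9)` -/
theorem tor_mod {Γ A : Type*} [Group Γ] [Finite Γ] [AddCommGroup A] [Finite A] [DistribMulAction Γ A]
    (hV : ∀ v : A, 3 • v = 0) (hf : H72.Faith Γ A) {P M : Subgroup Γ} (hP : H91.SylIn 3 P ⊤)
    (hPM : P ≤ M) (hM : M ≠ ⊤) (se : ∀ g, ∀ x ∈ P, x ≠ 1 → g * x * g⁻¹ ∈ M → g ∈ M) (h9 : Nat.card P = 9)
    (ab : ∀ a ∈ P, ∀ b ∈ P, a * b = b * a) (off : Nat.card A ≤ Nat.card P * Nat.card (H69.fixA A P)) :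
    ∃ t ∈ Subgroup.normalClosure (P : Set Γ), t ∈ nm P ∧ ∀ x ∈ P, ∀ v : A, t ^ 4 • (x • v - v) = -(x • v - v) := by
  have hp := (Fact.out : Nat.Prime 3)
  have hP0 : P ≠ ⊥ := fun e => by
    rw [e, Subgroup.card_bot] at h9
    exact absurd h9 (by decide)
  have hS : Cfsg.IsStronglyPEmbedded 3 M := by
    refine H69.isStronglyPEmbedded_iff_elem.2 ⟨hM,
      H69.dvd_card_of_isPGroup_le hP.isPGroup hP0 hPM, fun g x hx ho hg => ?_⟩
    obtain ⟨a, ha, h⟩ := (hP.of_le hPM le_top).exists_conj_mem (H := Subgroup.zpowers x)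
      (IsPGroup.of_card (n := 1) (by rw [Nat.card_zpowers, ho, pow_one]))
      (Subgroup.zpowers_le.2 hx)
    have x1 : a * x * a⁻¹ ≠ 1 := fun e => hp.one_lt.ne (by
      have e' : x = 1 := by
        calc x = a⁻¹ * (a * x * a⁻¹) * a := by group
          _ = 1 := by rw [e]; group
      rw [← ho, e', orderOf_one])
    have := se (g * a⁻¹) _ (h x (Subgroup.mem_zpowers x)) x1 (by
      have e : g * a⁻¹ * (a * x * a⁻¹) * (g * a⁻¹)⁻¹ = g * x * g⁻¹ := by group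
      rw [e]; exact hg)
    simpa using M.mul_mem this ha
  obtain ⟨B, ⟨⟨b1, b2⟩, b3⟩, hmin⟩ := (Set.toFinite
    {B : Subgroup Γ | (B ≠ ⊥ ∧ Nat.card A ≤ ms A B) ∧ B ≤ P}).exists_minimal
    ⟨P, ⟨hP0, off⟩, le_rfl⟩
  have hBp : IsPGroup 3 B := hP.isPGroup.to_le b3
  have hq : H59.QOff A B := ⟨b1, prp_of_minimal hV hBp
    (fun x hx y hy => ab y (b3 hy) x (b3 hx))
    (fun C c1 c2 c3 => lt_of_lt_of_le (not_le.1 fun h => c3 (le_antisymm c1
      (hmin ⟨⟨c2, h⟩, c1.trans b3⟩ c1))) b2) b2, b2⟩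
  obtain ⟨F, _, _, hF⟩ := exists_field_card hBp b1
  obtain ⟨x₀, hx₀, x1⟩ := SetLike.not_le_iff_exists.1 (mt le_bot_iff.1 hP0)
  rw [Subgroup.mem_bot] at x1
  have hK : ¬ Subgroup.normalClosure (P : Set Γ) ≤ M := fun e => hM (eq_top_iff.2 fun g _ =>
    se g x₀ hx₀ x1 (e (Subgroup.normalClosure_normal.conj_mem _
      (Subgroup.subset_normalClosure hx₀) g)))
  obtain ⟨σ, ψ, hr, hL, hN⟩ := H59.se_nat2 hV hf hS hq (b3.trans hPM)
    (b3.trans Subgroup.le_normalClosure) hK F hF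
  have e := H59.se_sylow hV hf hS hq (b3.trans hPM) hN hL hP.isPGroup b3
  subst e
  obtain ⟨a, ha, ha4⟩ := Tor.exists_root F (hF.trans h9)
  refine ⟨σ (Tor.dg a ha), hr ⟨_, rfl⟩, hN.mem_norm (by simp [Tor.dg]), fun x hx v => ?_⟩
  rw [← map_pow, Tor.dg_four ha ha4]
  have c : σ (-1) * x = x * σ (-1) := by
    obtain ⟨c, rfl⟩ := (hN.mem x).1 hx
    rw [← map_mul, ← map_mul]; simp
  have k : σ (-1) • v + v ∈ fixA A P := by
    refine fixA_anti hN.le ((hN.ker _).1 ?_)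
    rw [map_add, hN.eqv]; simp [Matrix.neg_mulVec]
  have k' : x • (σ (-1) • v + v) = σ (-1) • v + v := k x hx
  rw [smul_add, ← mul_smul, ← c, mul_smul] at k'
  rw [smul_sub, neg_sub, sub_eq_sub_iff_add_eq_add, k', add_comm]

open FF H72 H69 in
theorem torus (h : Pr 3 u E L) (s : Sec 3 u E L ⊥ V₂) {β : ZMod 3 × ZMod 3 → H} {lam : H → ZMod 3 × ZMod 3}
    (o : Off 3 E ⊥ V₂ β lam) {K : Subgroup G} (hK : L ≤ nm K) (hN : ∀ i, u (β i) ∈ K) :
    Al 3 u E L ⊥ V₂ ∨ ∃ t ∈ K, t ∈ nm ((⁅FF.NE E, V₂⁆ : Subgroup H).map u) ∧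
      ∀ w ∈ (⁅FF.NE E, V₂⁆ : Subgroup H), t ^ 4 * u w * (t ^ 4)⁻¹ = (u w)⁻¹ := by
  classical
  obtain ⟨M, hM1, hM2, se⟩ := h.se
  by_cases hC : L ⊓ St (V₂.map u : Subgroup G) ((⊥ : Subgroup H).map u) ≤ M
  swap
  · exact .inl (al h s hM1 se hC)
  right
  have hu := h.inj
  have hmL : ∀ x, Nm E x → u x ∈ L := fun x hx => h.le (mem_NC h hx)
  have hSt : ∀ {W₁ W₂ : Subgroup H}, L ≤ nm (W₁.map u) → ∀ x, Nm E x →
      (u x ∈ St (W₂.map u : Subgroup G) (W₁.map u) ↔ ∀ v ∈ W₂, ⁅x, v⁆ ∈ W₁) := fun {W₁ W₂} hW x hx => by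
    rw [SR3.mem_St]
    refine ⟨fun k v hv => ?_, fun k => ⟨hW (hmL x hx), ?_⟩⟩
    · have := k.2 (u v) ⟨v, hv, rfl⟩
      rwa [← map_commutatorElement, mem_map hu] at this
    · rintro _ ⟨v, hv, rfl⟩
      rw [← map_commutatorElement, mem_map hu]
      exact k v hv
  have hE : ∀ x, Nm E x → (∀ v ∈ V₂, ⁅x, v⁆ ∈ (⊥ : Subgroup H)) → x ∈ E := fun x hx k => by
    by_contra hx'
    refine hM2 fun g hg => se g hg x hx hx' (hC ⟨?_, ?_⟩)
    · exact L.mul_mem (L.mul_mem hg (hmL x hx)) (L.inv_mem hg)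
    · exact SR3.conj_mem (SR3.nm_St (s.i2.nm hg) (s.i1.nm hg)) ((hSt s.i1.nm x hx).2 k)
  obtain ⟨Γ, _, _, V, _, _, _, π, φ, hπ, hV, hf, sur, add, ker, eqv⟩ :=
    exists_mod (p := 3) (X := V₂.map u) (Y := (⊥ : Subgroup H).map u) (L := L) (Subgroup.map_mono s.le)
      (by rintro _ ⟨v, hv, rfl⟩; exact hmL v (Nm.of_mem (s.i2.le hv))) s.i2.nm s.i1.nm
      (by
        rintro _ ⟨v, hv, rfl⟩ _ ⟨w, hw, rfl⟩
        rw [← map_commutatorElement, mem_map hu]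
        exact s.com v (s.i2.le hv) w hw)
      (by
        rintro _ ⟨v, hv, rfl⟩
        rw [← map_pow, mem_map hu]
        exact s.pow v hv)
  have hdl : ∀ g : L, ∀ x ∈ V₂.map u, dl (π g) (φ x) = φ ⁅(g : G), x⁆ := fun g x hx => by
    rw [dl_apply, eqv g x hx, SR3.conj_eq_comm, add _ (SR3.comm_mem_of_nm (s.i2.nm g.2) hx) _ hx,
      add_sub_cancel_right]
  have fix : ∀ g : L, ∀ x ∈ V₂.map u, π g • φ x = φ x ↔ ⁅(g : G), x⁆ ∈ (⊥ : Subgroup H).map u := fun g x hx => by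
    rw [← ker _ (SR3.comm_mem_of_nm (s.i2.nm g.2) hx), ← hdl g x hx, dl_apply, sub_eq_zero]
  have one : ∀ g : L, π g = 1 ↔ (g : G) ∈ St (V₂.map u : Subgroup G) ((⊥ : Subgroup H).map u) := fun g => by
    refine ⟨fun e => ⟨s.i1.nm g.2, fun x hx => (fix g x hx).1 (by rw [e, one_smul])⟩, fun k => hf _ fun a => ?_⟩
    obtain ⟨x, hx, rfl⟩ := sur a
    exact (fix g x hx).2 (k.2 x hx)
  let κ : NE E →* L := (u.comp (NE E).subtype).codRestrict L fun x => hmL x x.2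
  let ψ : NE E →* Γ := π.comp κ
  have ψfix : ∀ x : NE E, ∀ v ∈ V₂, ψ x • φ (u v) = φ (u v) ↔ ⁅(x : H), v⁆ ∈ (⊥ : Subgroup H) := fun x v hv => by
    rw [← mem_map hu, map_commutatorElement]
    exact fix (κ x) _ ⟨v, hv, rfl⟩
  have ψone : ∀ x : NE E, ψ x = 1 ↔ (x : H) ∈ E := fun x =>
    ((one (κ x)).trans (hSt s.i1.nm x x.2)).trans ⟨hE x x.2, fun hx => s.com _ hx⟩
  have hP : ψ.range = ((NC u E).subgroupOf L).map π := by
    refine le_antisymm ?_ ?_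
    · rintro _ ⟨x, rfl⟩
      exact ⟨κ x, mem_NC h x.2, rfl⟩
    · rintro _ ⟨g, hg, rfl⟩
      obtain ⟨_, ⟨⟨x, rfl⟩, hx⟩, c, hc, e⟩ :=
        (SR3.mem_sup_of_nm (X := u.range ⊓ nm (E.map u)) (Y := ce (E.map u)) (g := g)
          (fun _ k => SR3.nm_ce k.2)).1 hg
      have hcL : c ∈ L := h.le (Subgroup.mem_sup_right hc)
      have e' : g = κ ⟨x, (nm_iff hu).1 hx⟩ * ⟨c, hcL⟩ := Subtype.ext e.symm
      refine ⟨⟨x, (nm_iff hu).1 hx⟩, ?_⟩
      rw [e', map_mul, (one ⟨c, hcL⟩).2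
        (SR3.ce_le_St (Subgroup.map_mono s.i2.le) (Subgroup.map_mono s.i1.le) hc), mul_one]
      rfl
  have hsyl : H91.SylIn 3 ψ.range ⊤ := by
    refine ⟨le_top, ?_, fun k => h.syl ?_⟩
    · rw [MonoidHom.range_eq_map]
      exact ((h.pg.to_subgroup (NE E)).to_subgroup ⊤).map ψ
    · rw [Subgroup.relIndex_top_right, hP] at k
      exact k.trans (Subgroup.index_map_dvd _ hπ)
  have memM : ∀ g : L, π g ∈ (M.subgroupOf L).map π ↔ (g : G) ∈ M := fun g => by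
    refine ⟨?_, fun k => ⟨g, k, rfl⟩⟩
    rintro ⟨m, hm, e⟩
    have : ((m⁻¹ * g : L) : G) ∈ M := hC ⟨(m⁻¹ * g).2, (one _).1 (by rw [map_mul, map_inv, e, inv_mul_cancel])⟩
    exact (mul_mem_cancel_left (inv_mem (show (m : G) ∈ M from hm))).1 this
  let b : ZMod 3 × ZMod 3 → Γ := fun i => ψ ⟨β i, o.nm i⟩
  have binj : Function.Injective b := fun i j e => o.inj i j
    ((ψone (⟨β i, o.nm i⟩⁻¹ * ⟨β j, o.nm j⟩)).1 (by rw [map_mul, map_inv]; exact inv_mul_eq_one.2 e))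
  let A := Subgroup.closure (Set.range b)
  have bA : ∀ i, b i ∈ A := fun i => Subgroup.subset_closure ⟨i, rfl⟩
  have hIA : Nat.card (ZMod 3 × ZMod 3) ≤ Nat.card A :=
    Nat.card_le_card_of_injective (fun i => ⟨b i, bA i⟩) fun i j e => binj (congrArg Subtype.val e)
  have sur' : ∀ a, ∃ v ∈ V₂, φ (u v) = a := fun a => by
    obtain ⟨_, ⟨v, hv, rfl⟩, e⟩ := sur a
    exact ⟨v, hv, e⟩
  choose r hr hr' using sur'
  have cnt : Nat.card V ≤ Nat.card (Set.range fun a => lam (r a)) * Nat.card (fixA V A) := by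
    refine count _ _ fun v w e => mem_fixA'.2 ((Subgroup.closure_le _).2 ?_)
    rintro _ ⟨i, rfl⟩
    have hm := mul_mem (inv_mem (hr v)) (hr w)
    have e1 : φ (u ((r v)⁻¹ * r w)) = -v + w := by
      have := add _ ⟨_, hr v, rfl⟩ _ ⟨_, hm, rfl⟩
      rw [← map_mul, mul_inv_cancel_left, hr', hr'] at this
      exact eq_neg_add_iff_add_eq.2 this.symm
    rw [← e1]
    exact (ψfix ⟨β i, o.nm i⟩ _ hm).2 (o.fib _ (hr v) _ (hr w) e i)
  have hJ : Nat.card (Set.range fun a => lam (r a)) ≤ Nat.card (ZMod 3 × ZMod 3) := Finite.card_subtype_le _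
  have hPM : ψ.range ≤ (M.subgroupOf L).map π := hP ▸ Subgroup.map_mono (Subgroup.comap_mono hM1)
  have hMt : (M.subgroupOf L).map π ≠ ⊤ := fun e => hM2 fun g hg => (memM ⟨g, hg⟩).1 (e ▸ trivial)
  have hse : ∀ γ, ∀ x ∈ ψ.range, x ≠ 1 → γ * x * γ⁻¹ ∈ (M.subgroupOf L).map π → γ ∈ (M.subgroupOf L).map π := by
    rintro γ _ ⟨x, rfl⟩ hx k
    obtain ⟨g, rfl⟩ := hπ γ
    refine (memM g).2 (se g g.2 x x.2 (fun k => hx ((ψone x).2 k)) ((memM (g * κ x * g⁻¹)).1 ?_))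
    rwa [map_mul, map_mul, map_inv]
  have hab : ∀ a ∈ A, ∀ c ∈ A, a * c = c * a := by
    have k1 : A ≤ Subgroup.centralizer (Set.range b) := (Subgroup.closure_le _).2 (by
      rintro _ ⟨i, rfl⟩ _ ⟨j, rfl⟩
      refine commutatorElement_eq_one_iff_mul_comm.1 ?_
      rw [← map_commutatorElement]
      exact (ψone _).2 (o.ab j i))
    have k2 : A ≤ Subgroup.centralizer (A : Set Γ) := (Subgroup.closure_le _).2 fun x hx a ha =>
      (k1 ha x hx).symm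
    exact fun a ha c hc => k2 hc a ha
  have hoff : Nat.card V ≤ Nat.card A * Nat.card (fixA V A) := cnt.trans (Nat.mul_le_mul_right _ (hJ.trans hIA))
  obtain ⟨hAP, hcard, -⟩ := ff_mod (P := ψ.range) (M := (M.subgroupOf L).map π) (A := A) hV hf hsyl hPM hMt hse
    ((Subgroup.closure_le _).2 (by rintro _ ⟨i, rfl⟩; exact ⟨_, rfl⟩))
    (fun e => by
      obtain ⟨i, hi⟩ := o.out
      exact hi ((ψone ⟨β i, o.nm i⟩).1 (Subgroup.mem_bot.1 (e ▸ bA i))))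
    hab hoff
  have hAJ : Nat.card A ≤ Nat.card (Set.range fun a => lam (r a)) :=
    Nat.le_of_mul_le_mul_right (hcard ▸ cnt) Nat.card_pos
  have h9 : Nat.card A = 9 := by
    rw [le_antisymm (hAJ.trans hJ) hIA, Nat.card_prod, Nat.card_zmod]
  obtain ⟨t, t1, t2, t3⟩ := tor_mod hV hf hsyl hPM hMt hse (hAP ▸ h9) (hAP ▸ hab) (hAP ▸ hoff)
  have hD : (K.subgroupOf L).Normal := ⟨fun n hn g => SR3.conj_mem (G := G) (hK g.2) hn⟩
  have := hD.map π hπ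
  obtain ⟨g, hg, rfl⟩ := Subgroup.normalClosure_le_normal (N := (K.subgroupOf L).map π) (by
    rw [← hAP]
    refine (Subgroup.closure_le _).2 ?_
    rintro _ ⟨i, rfl⟩
    exact ⟨κ ⟨β i, o.nm i⟩, hN i, rfl⟩) t1
  have φinj : ∀ x ∈ V₂.map u, ∀ y ∈ V₂.map u, φ x = φ y → x = y := fun x hx y hy e => by
    have hm := mul_mem (inv_mem hx) hy
    have k := add _ hx _ hm
    rw [mul_inv_cancel_left, e, left_eq_add, ker _ hm, Subgroup.map_bot, Subgroup.mem_bot] at k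
    exact inv_mul_eq_one.1 k
  have cm : ∀ x : NE E, ∀ v ∈ V₂, ⁅(x : H), v⁆ ∈ V₂ := fun x v hv => (s.i2.nm_of h x.2).comm hv
  have φc : ∀ x : NE E, ∀ v ∈ V₂, φ (u ⁅(x : H), v⁆) = ψ x • φ (u v) - φ (u v) := fun x v hv => by
    rw [map_commutatorElement]
    exact (hdl (κ x) _ ⟨v, hv, rfl⟩).symm
  have hle : (⁅NE E, V₂⁆ : Subgroup H) ≤ V₂ := Subgroup.commutator_le.2 fun x hx v hv => cm ⟨x, hx⟩ v hv
  refine ⟨g, hg, SR3.mem_nm_of_conj ?_, fun w hw => ?_⟩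
  · rintro _ ⟨w, hw, rfl⟩
    have k : (⁅NE E, V₂⁆ : Subgroup H) ≤
        ((⁅NE E, V₂⁆ : Subgroup H).map u).comap ((MulAut.conj (g : G)).toMonoidHom.comp u) := by
      refine Subgroup.commutator_le.2 fun x hx v hv => ?_
      obtain ⟨y, hy⟩ : π g * ψ ⟨x, hx⟩ * (π g)⁻¹ ∈ ψ.range := SR3.conj_mem t2 ⟨_, rfl⟩
      obtain ⟨v', hv', ev⟩ : (g : G) * u v * (g : G)⁻¹ ∈ V₂.map u := SR3.conj_mem (s.i2.nm g.2) ⟨v, hv, rfl⟩
      have m1 : u ⁅x, v⁆ ∈ V₂.map u := ⟨_, cm ⟨x, hx⟩ v hv, rfl⟩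
      refine ⟨⁅(y : H), v'⁆, Subgroup.commutator_mem_commutator y.2 hv', ?_⟩
      change _ = (g : G) * u ⁅x, v⁆ * (g : G)⁻¹
      refine φinj _ ⟨_, cm y v' hv', rfl⟩ _ (SR3.conj_mem (s.i2.nm g.2) m1) ?_
      rw [← eqv g _ m1, φc y v' hv', φc ⟨x, hx⟩ v hv, hy, ev, ← eqv g _ ⟨v, hv, rfl⟩, smul_sub, ← mul_smul,
        ← mul_smul, inv_mul_cancel_right]
    exact k hw
  · have key : π g ^ 4 • φ (u w) = -φ (u w) := by
      rw [Subgroup.commutator_def] at hw hle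
      induction hw using Subgroup.closure_induction with
      | mem w hw =>
        obtain ⟨x, hx, v, hv, rfl⟩ := hw
        rw [φc ⟨x, hx⟩ v hv]
        exact t3 _ ⟨_, rfl⟩ _
      | one =>
        rw [(ker _ ⟨1, one_mem _, rfl⟩).2 ⟨1, one_mem _, rfl⟩, smul_zero, neg_zero]
      | mul a c ha hc ia ic =>
        rw [map_mul, add _ ⟨_, hle ha, rfl⟩ _ ⟨_, hle hc, rfl⟩, smul_add, ia, ic, neg_add]
      | inv a ha ia =>
        have k := add _ ⟨_, hle ha, rfl⟩ _ ⟨_, inv_mem (hle ha), rfl⟩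
        rw [← map_mul, mul_inv_cancel, (ker _ ⟨1, one_mem _, rfl⟩).2 ⟨1, one_mem _, rfl⟩] at k
        rw [eq_neg_of_add_eq_zero_right k.symm, smul_neg, ia]
    have m1 : u w ∈ V₂.map u := ⟨_, hle hw, rfl⟩
    have k := add _ m1 _ (inv_mem m1)
    rw [mul_inv_cancel, (ker _ (one_mem _)).2 (one_mem _)] at k
    refine φinj _ (SR3.conj_mem (s.i2.nm (pow_mem g.2 4)) m1) _ (inv_mem m1) ?_
    have e4 := eqv (g ^ 4) _ m1
    rw [map_pow, key, SubgroupClass.coe_pow] at e4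
    rw [← e4, eq_neg_of_add_eq_zero_right k.symm]

end Cfsg.Agent.TH3
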