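import Cfsg.Agent.TH3.Fa4
import Cfsg.Agent.TH3.Tv
import Cfsg.Agent.TH3.Tor

set_option autoImplicit false
set_option linter.unusedSectionVars false

namespace Cfsg.Agent.TH3

open FK
open RFS (Au)
open SR3 (nm ce St)
open scoped commutatorElement

variable {G : Type*} [Group G] [Finite G] [Fact (Nat.Prime 3)] {u : V →* G} {E T : Subgroup V} {L : Subgroup G}

namespace TriA

/-- the centralizer of `v` modulo `N` -/
def cz {H : Type*} [Group H] (N : Subgroup H) [N.Normal] (v : H) : Subgroup H where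
  carrier := {x | ⁅x, v⁆ ∈ N}
  one_mem' := by simp
  mul_mem' := fun {a b} ha hb => by
    change _ ∈ N
    rw [SR3.comm_mul_left]
    exact mul_mem (Subgroup.Normal.conj_mem ‹_› _ hb a) ha
  inv_mem' := fun {a} ha => by
    change _ ∈ N
    convert Subgroup.Normal.conj_mem ‹_› _ (inv_mem ha) a⁻¹ using 1
    simp only [commutatorElement_def]; group

end TriA

theorem triA (k : Pr 3 u E L) (t : Tri E) {K : Subgroup G} (hK : L ≤ nm K) (hD : ∀ d ∈ D1, Nm E d → u d ∈ K) :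
    ∃ g ∈ K, g ∈ nm (Z2.map u) ∧ ∀ z ∈ Z2, g ^ 4 * u z * (g ^ 4)⁻¹ = (u z)⁻¹ := by
  obtain ⟨y, hy, y', hy', y1, y2⟩ := t.ex
  have cm : ∀ v ∈ Om 3 E ⊥, ∀ e ∈ E, ⁅e, v⁆ = 1 := fun v hv e he => hv.2.2 e he
  have cy : ∀ e ∈ E, y * e = e * y := fun e he => (commutatorElement_eq_one_iff_mul_comm.1 (cm y hy e he)).symm
  have Z2E : Z2 ≤ E := fun z hz => k.cen z fun e he => cZ2E1 hz (t.le he)
  have nD : ∀ d ∈ D1, Nm E d := fun d hd => .of_comm fun e he => Z2E (cD1E1 hd (t.le he))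
  have c0 : ∀ w ∈ E, ⁅w, y⁆ ∈ Z2 := fun w hw => by rw [cm y hy w hw]; exact one_mem _
  obtain ⟨d, hd, d', hd', a1, a2, a4, a5⟩ := t1 (t.le hy.1) (t.le hy'.1) y1 y2 (c0 _ hy'.1)
  have o1 : d ∉ E := fun e => a1 (cy d e)
  have o2 : ¬ L3 d d' E := fun e => e.elim (fun e => a2 (cy _ e)) fun e =>
    e.elim (fun e => a4 (cy _ e)) fun e => a5 (cy _ e)
  have hv : ∀ w ∈ Om 3 E ⊥, P9 y y' w D1 := fun w hw =>
    b2 (t.le hy.1) (t.le hy'.1) (t.le hw.1) y1 y2 (c0 _ hy'.1) (c0 _ hw.1)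
  have hW : ∀ a ∈ D1, a ∈ Om 3 E ⊥ → ⁅d, a⁆ ∈ (⊥ : Subgroup V) ∧ ⁅d', a⁆ ∈ (⊥ : Subgroup V) := fun a ha _ =>
    ⟨commutatorElement_eq_one_iff_mul_comm.2 (cD1D1 hd ha), commutatorElement_eq_one_iff_mul_comm.2 (cD1D1 hd' ha)⟩
  have s := k.sec_om k.iv_bot
  have Z2V : Z2 ≤ Om 3 E ⊥ := fun z hz => ⟨Z2E hz, pD1 (Z2_D1 hz), fun e he =>
    commutatorElement_eq_one_iff_mul_comm.2 (cZ2E1 hz (t.le he)).symm⟩
  have nA : ¬ Al 3 u E L ⊥ (Om 3 E ⊥) := fun a => by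
    obtain ⟨L', -, k', i⟩ := a.normal Z2 bot_le Z2V
    exact o1 (k'.chain1 i (fun e he => cD1E1 hd (t.le he)) fun b hb => cD1D1 hd (Z2_D1 hb))
  have p1 : d ^ 3 ∈ E := by rw [pD1 hd]; exact one_mem _
  have p2 : d' ^ 3 ∈ E := by rw [pD1 hd']; exact one_mem _
  have c : ⁅d, d'⁆ ∈ E := Z2E (cD1E1 hd (D1_E1 hd'))
  obtain ⟨lam, o⟩ := off9 k (nD d hd) (nD d' hd') p1 p2 c o1 o2 k.iv_bot hv hW
  have gen := (ff9 k s (nD d hd) (nD d' hd') p1 p2 c o1 o2 hv hW).resolve_left nA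
  have e : (⁅FF.NE E, Om 3 E ⊥⁆ : Subgroup V) = Z2 := by
    refine le_antisymm (Subgroup.commutator_le.2 fun x hx v hv => (gen x hx).mem (C := TriA.cz Z2 v) (fun e he => ?_)
      (cD1E1 hd (t.le hv.1)) (cD1E1 hd' (t.le hv.1))) fun z hz => ?_
    · change _ ∈ Z2
      rw [cm v hv e he]; exact one_mem _
    have s2 := cD1E1 hd' (t.le hy.1)
    refine (a3 (cD1E1 hd (t.le hy.1)) s2 hz (fun e => a1 (commutatorElement_eq_one_iff_mul_comm.1 e).symm) ?_).mem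
      bot_le (Subgroup.commutator_mem_commutator (nD d hd) hy) (Subgroup.commutator_mem_commutator (nD d' hd') hy)
    rintro (e | e | e) <;> rw [Subgroup.mem_bot] at e
    · exact a2 (commutatorElement_eq_one_iff_mul_comm.1 e).symm
    · refine a4 (commutatorElement_eq_one_iff_mul_comm.1 ?_).symm
      calc ⁅d⁻¹ * d', y⁆ = d⁻¹ * (⁅d', y⁆ * ⁅d, y⁆⁻¹) * d := by simp only [commutatorElement_def]; group
        _ = 1 := by rw [inv_mul_eq_one.1 e]; group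
    · refine a5 (commutatorElement_eq_one_iff_mul_comm.1 ?_).symm
      rw [SR3.comm_mul_left, cD1D1 hd (Z2_D1 s2), mul_inv_cancel_right, mul_eq_one_comm.1 e]
  obtain ⟨g, g1, g2, g3⟩ := (torus k s o hK fun i => hD _ (mul_mem (pow_mem hd' _) (pow_mem hd _))
    (o.nm i)).resolve_left nA
  rw [e] at g2 g3
  exact ⟨g, g1, g2, g3⟩

end Cfsg.Agent.TH3
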