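import Cfsg.Agent.TH3.Ess
import Cfsg.Agent.TH3.TriA
import Cfsg.Agent.TH3.Chr
import Cfsg.Agent.TH3.GL
import Cfsg.Agent.TH3.Fus

set_option autoImplicit false
set_option linter.unusedSectionVars false

namespace Cfsg.Agent.TH3

open FK
open RFS (Au)
open SR3 (nm ce St)
open scoped commutatorElement

variable {G : Type*} [Group G] [Finite G] [Fact (Nat.Prime 3)] {u : V →* G} {E T : Subgroup V} {L : Subgroup G}

/-- an automorphism that maps `a` into `B` and preserves `C ≤ B` maps `⟨a⟩ C` into `B` -/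
theorem Mov.up {f : V → V} {A B C : Subgroup V} {a b : V} (k : Au A f) (ha : a ∈ A) (hb : b ∈ A)
    (hC : ∀ c ∈ C, f c ∈ B) (fa : f a ∈ B) (l : L3 a b C) : f b ∈ B := by
  rcases l with l | l | l
  · exact hC b l
  · have := hC _ l
    rw [k.mul _ (inv_mem ha) _ hb, k.map_inv ha] at this
    exact (B.mul_mem_cancel_left (inv_mem fa)).1 this
  · have := hC _ l
    rw [k.mul _ ha _ hb] at this
    exact (B.mul_mem_cancel_left fa).1 this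

theorem Mov.h9 : h 9 ∈ Z1 := hm (by decide)

theorem Mov.h8 : h 8 ∈ Z2 := hm (by decide)

theorem Mov.h8' : h 8 ∉ Z1 := hn (by decide) (by decide)

/-- the automorphism of `E1` in the third case -/
theorem tri_aut (k : Sat 3 u) (m : M3 u) :
    ∃ f m, Fa u E1 f ∧ Mx 8 Z2 f m ∧ cp m (cp m (cp m m)) = ((-1, 0), (0, -1)) := by
  obtain ⟨E, p, t⟩ := m
  obtain ⟨g, -, g1, g2⟩ := triA p t (K := ⊤) (fun x _ => SR3.mem_nm_of_conj fun _ _ => trivial) fun _ _ _ => trivial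
  obtain ⟨f, hf, e⟩ := ext_cent k (Z := Z2) (R := E1) (fun s => .of_normal Z2 s)
    (fun r => ⟨fun hr z hz => (cZ2E1 hz hr).symm, fun hr => zE1 (hr _ Mov.h8)⟩) Z2_E1 g1
  have a := hf.au.res Z2_E1 (ch1_Z2.2 f hf.au)
  obtain ⟨m, hm, -⟩ := mx2 a
  exact ⟨f, m, hf, hm, mx_tor k.inj a e g2 hm⟩

theorem m1 (k : Sat 3 u) (c : Cf u) : M1 u := by
  obtain ⟨E, p, n⟩ := mov k c (Z := Z1) (fun e => h9_ne (Subgroup.mem_bot.1 (e ▸ Mov.h9))) ch_Z1.2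
  rcases ess p with rfl | rfl | t
  · by_contra hx
    refine n ⟨Z1_Z2.trans Z2_E1, fun g hg => ?_⟩
    obtain ⟨f, hf, e⟩ := Fa.of_nm k.inj hg
    have f9 : f (h 9) ∈ Z1 := by_contra fun y => hx ⟨f, hf, y⟩
    refine nm_of_ind (f := f) (fun a ha => ?_) fun a ha => e a (Z2_E1 (Z1_Z2 ha))
    refine Mov.up hf.au (Z2_E1 (Z1_Z2 Mov.h9)) (Z2_E1 (Z1_Z2 ha)) (fun y hy => ?_) f9 (upZ1 Mov.h9 ha h9_ne)
    rw [Subgroup.mem_bot.1 hy, hf.au.one]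
    exact one_mem _
  · exact absurd (p.iv_of (Z1_Z3.trans Z3_E2) fun f hf _ => ch2_Z1.2 f hf) n
  · obtain ⟨f, m, hf, hm, e⟩ := tri_aut k ⟨E, p, t⟩
    refine ⟨f, hf, fun y => gl2' e ?_⟩
    have h1 := congrArg Prod.fst (hm _ (Z1_Z2 Mov.h9))
    have h2 : (h 9).co 8 = 0 := Mov.h9 8 (by decide)
    have h3 : (h 9).co (8 + 1) = 1 := h_co (by decide)
    have h4 : (f (h 9)).co 8 = 0 := y 8 (by decide)
    simp only [ap, h2, h3, h4, zero_mul, one_mul, zero_add] at h1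
    exact h1.symm

theorem m23 (k : Sat 3 u) (c : Cf u) : M2 u ∨ M3 u := by
  obtain ⟨E, p, n⟩ := mov k c (Z := Z2) (fun e => h9_ne (Subgroup.mem_bot.1 (e ▸ Z1_Z2 Mov.h9))) ch_Z2.2
  rcases ess p with rfl | rfl | t
  · exact absurd (p.iv_of Z2_E1 fun f hf _ => ch1_Z2.2 f hf) n
  · refine .inl (by_contra fun hx => n ⟨Z2_Z3.trans Z3_E2, fun g hg => ?_⟩)
    obtain ⟨f, hf, e⟩ := Fa.of_nm k.inj hg
    have f8 : f (h 8) ∈ Z2 := by_contra fun y => hx ⟨f, hf, y⟩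
    refine nm_of_ind (f := f) (fun a ha => ?_) fun a ha => e a (Z3_E2 (Z2_Z3 ha))
    exact Mov.up hf.au (Z3_E2 (Z2_Z3 Mov.h8)) (Z3_E2 (Z2_Z3 ha)) (fun y hy => Z1_Z2 (ch2_Z1.2 f hf.au y hy)) f8
      (upZ2 Mov.h8 ha Mov.h8')
  · exact .inr ⟨E, p, t⟩

end Cfsg.Agent.TH3
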