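import Cfsg.Agent.TH3.Fa4
import Cfsg.Agent.TH3.Tv

set_option autoImplicit false
set_option linter.unusedSectionVars false

namespace Cfsg.Agent.TH3

open FK
open RFS (Au)
open SR3 (nm ce St)
open scoped commutatorElement

variable {G : Type*} [Group G] [Finite G] [Fact (Nat.Prime 3)] {u : V →* G} {E T : Subgroup V} {L : Subgroup G}

namespace TriB

theorem cm {H : Type*} [Group H] {T : Subgroup H} [n : T.Normal] {a : H} (ha : a ∈ T) (g : H) : ⁅a, g⁆ ∈ T := by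
  have := mul_mem ha (n.conj_mem _ (inv_mem ha) g)
  simpa only [commutatorElement_def, mul_assoc] using this

theorem om_com {y e : V} (hy : y ∈ Om 3 E ⊥) (he : e ∈ E) : y * e = e * y :=
  (commutatorElement_eq_one_iff_mul_comm.1 (Subgroup.mem_bot.1 (hy.2.2 e he))).symm

theorem om_pow {y : V} (hy : y ∈ Om 3 E ⊥) : y ^ 3 = 1 := Subgroup.mem_bot.1 hy.2.1

end TriB

open TriB

theorem ncl [T.Normal] {a : V} (ha : a ∈ T) (h1 : a ∈ E1) (h6 : a ∉ Z6) : Ph ≤ T := by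
  have t3 : ⁅a, h 1⁆ ∈ T := cm ha _
  have m3 : ⁅a, h 1⁆ ∈ Ph := cS
  have o3 := n3 h1 h6
  generalize ⁅a, h 1⁆ = a3 at t3 m3 o3
  obtain ⟨o4, m4, m5, o5⟩ := n4 m3 o3
  have t4 := cm t3 (h 1)
  have t5 := cm t3 (h 0)
  generalize ⁅a3, h 1⁆ = a4 at t4 m4 o4
  generalize ⁅a3, h 0⁆ = a5 at t5 m5 o5
  have t6 := cm t5 (h 1)
  have m6 : ⁅a5, h 1⁆ ∈ Z4 := cD1 m5
  have o6 := n6 m5 o5
  generalize ⁅a5, h 1⁆ = a6 at t6 m6 o6
  have t7 := cm t6 (h 1)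
  have m7 : ⁅a6, h 1⁆ ∈ Z3 := cZ4 m6
  have o7 := n7 m6 o6
  generalize ⁅a6, h 1⁆ = a7 at t7 m7 o7
  have t8 := cm t7 (h 0)
  have m8 : ⁅a7, h 0⁆ ∈ Z2 := cZ3 m7
  have o8 := n8 m7 o7
  generalize ⁅a7, h 0⁆ = a8 at t8 m8 o8
  have t9 := cm t8 (h 1)
  have m9 : ⁅a8, h 1⁆ ∈ Z1 := cZ2 m8
  have o9 := n9 m8 o8
  generalize ⁅a8, h 1⁆ = a9 at t9 m9 o9
  have l1 : Z1 ≤ T := fun b hb => (upZ1 m9 hb o9).mem bot_le t9
  have l2 : Z2 ≤ T := fun b hb => (upZ2 m8 hb o8).mem l1 t8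
  have l3 : Z3 ≤ T := fun b hb => (upZ3 m7 hb o7).mem l2 t7
  have l4 : Z4 ≤ T := fun b hb => (upZ4 m6 hb o6).mem l3 t6
  have l5 : D1 ≤ T := fun b hb => (upD1 m5 hb o5).mem l4 t5
  have l6 : Z5 ≤ T := fun b hb => (upZ5 m4 hb o4).mem l5 t4
  exact fun b hb => (upPh m3 hb o3).mem l6 t3

theorem SC.normal (s : SC u T) : T.Normal :=
  ⟨fun a ha g => s a ha _ (u g) (by simp only [map_mul, map_inv])⟩

theorem triB (k : Pr 3 u E L) (t : Tri E) (s : SC u T) (z : Z2 ≤ T) : E1 ≤ T := by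
  have := s.normal
  have i0 : Iv u E L (Om 3 E ⊥) := k.iv_om k.iv_bot
  obtain ⟨y₀, hy₀, y₁, hy₁, o₀, o₁⟩ := t.ex
  have nD : ¬ D1 ≤ E := fun c => o₀ (zD1 (om_com hy₀ (c (hm (by decide)))) (om_com hy₀ (c (hm (by decide))))
    (om_com hy₀ (c (hm (by decide)))) (om_com hy₀ (c (hm (by decide)))))
  have zE : Z2 ≤ E := fun a ha => k.cen a fun e he => cZ2E1 ha (t.le he)
  have z0 : Z2 ≤ Om 3 E ⊥ := fun a ha => ⟨zE ha, Subgroup.mem_bot.2 (pD1 (Z2_D1 ha)), fun e he =>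
    Subgroup.mem_bot.2 (commutatorElement_eq_one_iff_mul_comm.2 (cZ2E1 ha (t.le he)).symm)⟩
  have zB : Z2 ≤ T ⊓ Om 3 E ⊥ := le_inf z z0
  have iB : Iv u E L (T ⊓ Om 3 E ⊥) := by
    refine ⟨inf_le_right.trans i0.le, fun g hg => ?_⟩
    obtain ⟨f, hf, e⟩ := Fa.of_nm k.inj (i0.nm hg)
    exact nm_of_ind (f := f) (fun a ha => ⟨s a ha.1 _ g (e a ha.2), hf.au.mem a ha.2⟩) fun a ha => e a ha.2
  have nB : ¬ T ⊓ Om 3 E ⊥ ≤ D1 := fun c => nD fun x hx =>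
    k.chain1 iB (fun e he => zB (cD1E1 hx (t.le he))) fun b hb => cD1D1 hx (c hb)
  obtain ⟨y, hy, oy⟩ := SetLike.not_le_iff_exists.1 nB
  have yE : y ∈ E1 := t.le hy.2.1
  have ex : ∃ y' ∈ T ⊓ Om 3 E ⊥, ¬ L3 y y' D1 := by
    by_contra c
    push Not at c
    obtain ⟨x, hx, ox⟩ := SetLike.not_le_iff_exists.1 nD
    have sec : Sec 3 u E L ⊥ (T ⊓ Om 3 E ⊥) :=
      ⟨k.iv_bot, iB, bot_le, fun v hv => hv.2.2.1, fun e he v hv => hv.2.2.2 e he⟩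
    have nx : ∀ d ∈ D1, Nm E d := fun d hd => Nm.of_comm fun e he => zE (cD1E1 hd (t.le he))
    rcases tv_axis k sec (nx x hx) ox (by rw [pD1 hx]; exact one_mem _) c (fun a ha _ =>
      Subgroup.mem_bot.2 (commutatorElement_eq_one_iff_mul_comm.2 (cD1D1 hx ha))) with al | gen
    · obtain ⟨L', -, k', i2⟩ := al.normal Z2 bot_le zB
      exact ox (k'.chain1 i2 (fun e he => cD1E1 hx (t.le he)) fun b hb => (cZ2E1 hb (D1_E1 hx)).symm)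
    · have r := (rk yE hx oy fun d hd =>
        (gen d (nx d hd)).imp (om_com hy.2) (.imp (om_com hy.2) (om_com hy.2))).1
      have q : ∀ w ∈ Om 3 E ⊥, L3 y w D1 := fun w hw => r w (t.le hw.1) (by
        rw [Subgroup.mem_bot.1 (hy.2.2.2 w hw.1)]; exact one_mem _)
      exact o₁ (((q _ hy₀).swap o₀).trans (Z2_D1 (pE1 (t.le hy₀.1))) (q _ hy₁))
  obtain ⟨y', hy', oy'⟩ := ex
  have yE' : y' ∈ E1 := t.le hy'.2.1
  have exa : ∃ a ∈ T, a ∈ E1 ∧ a ∉ Z6 := by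
    by_cases c : y ∈ Z6
    · exact ⟨y', hy'.1, yE', fun c' => oy' (pz6 c c' oy (om_pow hy.2) (om_pow hy'.2) (by
        rw [Subgroup.mem_bot.1 (hy.2.2.2 y' hy'.2.1)]; exact one_mem _))⟩
    · exact ⟨y, hy.1, yE, c⟩
  obtain ⟨a, aT, aE, a6⟩ := exa
  have lP : Ph ≤ T := ncl aT aE a6
  have exw : ∃ w ∈ T ⊓ Om 3 E ⊥, w ∈ Z6 ∧ w ∉ D1 := by
    by_cases c : y ∈ Z6
    · exact ⟨y, hy, c, oy⟩
    · rcases upE1 yE yE' c with d | d | d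
      · exact ⟨_, hy', d, fun e => oy' (.inl e)⟩
      · exact ⟨_, mul_mem (inv_mem hy) hy', d, fun e => oy' (.inr (.inl e))⟩
      · exact ⟨_, mul_mem hy hy', d, fun e => oy' (.inr (.inr e))⟩
  obtain ⟨w, hw, w6, ow⟩ := exw
  have l6 : Z6 ≤ T := fun b hb => (upZ6 w6 hb (o3z6 w6 ow (om_pow hw.2))).mem lP hw.1
  exact fun b hb => (upE1 aE hb a6).mem l6 aT

end Cfsg.Agent.TH3
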